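import Cfsg.Agent.H875.TensKill
import Cfsg.Agent.H363.PslCard

/-!
# Cores with socle `PSL_2(E)` in the defining characteristic: interface for the rows (helper875)

`P ≤ GL(ι, F)` a core, `e : Soc P ≃* PSL_2(E)`, `char E = char F = p`.

* `exists_pow` : `|E| = |F| ^ s`, `|ι| = m ^ s`, `m ≥ 2`;
* `card_eq_of_not_pow` : `|E| = |F|` if `|ι|` is not a proper power;
* `sign` : the sign of an invariant form is `(-1) ^ r`;
* `exists_single` : `H` maximal in `X`, `|E| = |F|`: `|ι| = c + 1`, `1 ≤ c < p`, `r = c p ^ t`;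
* `omega_false_of_even` : no such `H` in `omegaGL Q` in even dimension, `p` odd;
* `fixA_of_cube` : `|E| = |F| ^ 3`, `|ι| = 8`, `p` odd: an alternating form is fixed and no quadratic form.
-/

set_option autoImplicit false
set_option linter.unusedSectionVars false
set_option linter.unusedSimpArgs false

namespace Cfsg.Agent.H875.Psl2

open Cfsg Cfsg.Geo Matrix Cfsg.Agent.H911.SLTwo Cfsg.Agent.H915.LD Cfsg.Agent.H875.Fn

universe u v w

variable {ι : Type} [Fintype ι] [DecidableEq ι] {F : Type u} [Field F] [Fintype F] {E : Type w} [Field E] [Fintype E]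
  {P : Subgroup (GL ι F)} (p : ℕ) [hp : Fact p.Prime] [CharP E p] [CharP F p]

/-- a field containing both -/
theorem exists_emb (F : Type u) [Field F] (E : Type w) [Field E] [Fintype E] (p : ℕ) [hp : Fact p.Prime] [CharP E p]
    [CharP F p] : Nonempty (E →+* AlgebraicClosure F) := by
  let _ : Algebra (ZMod p) E := ZMod.algebra E p
  have hk : CharP (AlgebraicClosure F) p := charP_of_injective_ringHom (algebraMap F (AlgebraicClosure F)).injective p
  let _ : Algebra (ZMod p) (AlgebraicClosure F) := ZMod.algebra (AlgebraicClosure F) p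
  exact ⟨(IsAlgClosed.lift (R := ZMod p) (S := E) (M := AlgebraicClosure F)).toRingHom⟩

theorem perf (hC : Core P) (e : Soc P ≃* ProjectiveSpecialLinearGroup (Fin 2) E) :
    commutator (SpecialLinearGroup (Fin 2) E) = ⊤ := TwoFusion.SLTwoFacts.commutator_eq_top (Kill.four_le hC e)

theorem two_le_card_SS' {r : ℕ} (hr : r ≠ 0) : 2 ≤ (SS p r).card := two_le_card_SS hr

include hp in
/-- **The fields and the dimension.** -/
theorem exists_pow (hC : Core P) (e : Soc P ≃* ProjectiveSpecialLinearGroup (Fin 2) E) :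
    ∃ s m : ℕ, s ≠ 0 ∧ Fintype.card E = Fintype.card F ^ s ∧ 2 ≤ m ∧ Fintype.card ι = m ^ s := by
  obtain ⟨θ, hsurj, -⟩ := DefCov.exists_cover (m := 1) hC p (perf hC e) e
  obtain ⟨j⟩ := exists_emb F E p
  obtain ⟨s, r₀, Φ, hs0, hs, hr0, -, hcard, -⟩ := exists_param p θ hC hsurj (algebraMap F (AlgebraicClosure F)) j
  exact ⟨s, _, hs0, hs, two_le_card_SS hr0, hcard⟩

include hp in
theorem card_eq_of_not_pow (hC : Core P) (e : Soc P ≃* ProjectiveSpecialLinearGroup (Fin 2) E)
    (hn : ∀ s m : ℕ, 2 ≤ s → 2 ≤ m → Fintype.card ι ≠ m ^ s) : Fintype.card E = Fintype.card F := by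
  obtain ⟨s, m, hs0, hs, hm, hcard⟩ := exists_pow p hC e
  have h1 : s = 1 := by
    by_contra hne
    exact hn s m (by omega) hm hcard
  rw [hs, h1, pow_one]

/-! ### the sign of an invariant form -/

section sign

variable {k : Type v} [Field k] {i : F →+* k} {j : E →+* k} {ρ : SpecialLinearGroup (Fin 2) E →* GL ι F}

theorem ww_ww : (ww : SpecialLinearGroup (Fin 2) E) * ww = hh (-1) := by
  apply ext' <;> simp only [m00, m01, m10, m11, ww00, ww01, ww10, ww11, hh00, hh01, hh10, hh11]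
  · simp
  · simp
  · simp
  · simp

theorem Lo_ww (t : E) : (Lo t : SpecialLinearGroup (Fin 2) E) * ww = ww * U (-t) := by
  apply ext' <;> simp only [m00, m01, m10, m11, ww00, ww01, ww10, ww11, U00, U01, U10, U11, Lo00, Lo01, Lo10, Lo11]
  · simp
  · simp
  · simp
  · simp

/-- `f(ww v, v) ≠ 0` for the highest weight vector -/
theorem pair_ne_zero [CharP k p] {r : ℕ} {Φ} (hM : IsModel j (lin ρ i) r Φ) {f : (ι → k) → (ι → k) → k}
    (hadd : ∀ x y z, f x (y + z) = f x y + f x z) (hsmul : ∀ (c : k) x y, f x (c • y) = c * f x y)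
    (hn : ∀ x, x ≠ 0 → ∃ y, f x y ≠ 0) (hfix : ∀ g x y, f (lin ρ i g x) (lin ρ i g y) = f x y) {v : ι → k}
    (h0 : v ≠ 0) (hv : Φ v = mono j r 0) (hU : ∀ t, lin ρ i (U t) v = v) : f (lin ρ i ww v) v ≠ 0 := by
  intro hz
  have h1 : lin ρ i ww v ≠ 0 := by
    intro h
    apply h0
    have h2 : lin ρ i (ww⁻¹ * ww) v = 0 := by
      rw [map_mul, Module.End.mul_apply, h, map_zero]
    rwa [inv_mul_cancel, map_one] at h2
  obtain ⟨y, hy⟩ := hn _ h1
  apply hy
  clear hy
  have h2 : y ∈ Submodule.span k (Set.range fun t : E => lin ρ i (Lo t) v) := by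
    rw [hM.span_Lo p hv]
    trivial
  induction h2 using Submodule.span_induction with
  | mem y hy =>
    obtain ⟨t, rfl⟩ := hy
    change f (lin ρ i ww v) (lin ρ i (Lo t) v) = 0
    have h3 : lin ρ i (Lo t) (lin ρ i ww v) = lin ρ i ww v := by
      rw [← Module.End.mul_apply, ← map_mul, Lo_ww, map_mul, Module.End.mul_apply, hU]
    rw [← h3, hfix]
    exact hz
  | zero =>
    have := hsmul 0 (lin ρ i ww v) 0
    rwa [zero_smul, zero_mul] at this
  | add x y _ _ hx hy => rw [hadd, hx, hy, add_zero]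
  | smul c x _ hx => rw [hsmul, hx, mul_zero]

/-- the sign -/
theorem sign' [CharP k p] {r : ℕ} {Φ} (hM : IsModel j (lin ρ i) r Φ) {f : (ι → k) → (ι → k) → k} {ε : k}
    (hadd : ∀ x y z, f x (y + z) = f x y + f x z) (hsmul : ∀ (c : k) x y, f x (c • y) = c * f x y)
    (hε : ∀ x y, f x y = ε * f y x)
    (hn : ∀ x, x ≠ 0 → ∃ y, f x y ≠ 0) (hfix : ∀ g x y, f (lin ρ i g x) (lin ρ i g y) = f x y) : ε = (-1) ^ r := by
  obtain ⟨v, h0, hv, hU, hw, -⟩ := hM.exists_hw
  have h1 := pair_ne_zero p hM hadd hsmul hn hfix h0 hv hU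
  have h2 : f v (lin ρ i ww v) = (-1) ^ r * f (lin ρ i ww v) v := by
    rw [← hfix ww v, ← Module.End.mul_apply, ← map_mul, ww_ww, hw, hsmul]
    simp
  rw [hε] at h2
  exact mul_right_cancel₀ h1 h2

/-- **The sign of a form over `F`.** -/
theorem sign_of_form [CharP k p] {r : ℕ} {Φ} (hM : IsModel j (lin ρ i) r Φ) {f : (ι → F) → (ι → F) → F} {ε : F}
    (hf : IsBilinearForm f) (hfn : IsNondegenerateForm f) (hε : ∀ u v, f u v = ε * f v u)
    (hfix : ∀ g u v, f ((ρ g : Matrix ι ι F) *ᵥ u) ((ρ g : Matrix ι ι F) *ᵥ v) = f u v) : i ε = (-1) ^ r := by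
  classical
  set G := H920.gram f with hG
  have hsym : ∀ a b, G a b = ε * G b a := fun a b => hε _ _
  have hdet := H920.gram_det_ne hf hfn
  have hdet' : (G.map i).det ≠ 0 := by
    have h1 : (G.map i).det = i G.det := (RingHom.map_det i G).symm
    rw [h1]
    exact (map_ne_zero i).2 hdet
  have hinv : ∀ g, ((ρ g : Matrix ι ι F).map i)ᵀ * G.map i * (ρ g : Matrix ι ι F).map i = G.map i := by
    intro g
    have h1 := H920.gram_invariant hf (hfix g)
    rw [← hG] at h1
    have h2 := congrArg (fun M : Matrix ι ι F => M.map i) h1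
    simp only [Matrix.map_mul] at h2
    rw [Matrix.transpose_map] at h2
    exact h2
  refine sign' p hM (f := fun x y => x ⬝ᵥ ((G.map i) *ᵥ y)) ?_ ?_ ?_ ?_ ?_
  · intro x y z
    rw [Matrix.mulVec_add, dotProduct_add]
  · intro c x y
    rw [Matrix.mulVec_smul, dotProduct_smul, smul_eq_mul]
  · intro x y
    rw [Matrix.dotProduct_mulVec, dotProduct_comm, dotProduct, dotProduct, Finset.mul_sum]
    refine Finset.sum_congr rfl fun a _ => ?_
    rw [Matrix.vecMul, Matrix.mulVec, dotProduct, dotProduct, Finset.mul_sum, Finset.mul_sum, Finset.mul_sum]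
    refine Finset.sum_congr rfl fun b _ => ?_
    rw [Matrix.map_apply, Matrix.map_apply, hsym b a, map_mul]
    ring
  · intro x hx
    by_contra hcon
    push Not at hcon
    apply hx
    have h1 : x ᵥ* (G.map i) = 0 := by
      refine (dotProduct_eq_zero_iff).1 fun y => ?_
      rw [← Matrix.dotProduct_mulVec]
      exact hcon y
    exact Matrix.eq_zero_of_vecMul_eq_zero hdet' h1
  · intro g x y
    rw [lin_apply', lin_apply']
    conv_rhs => rw [← hinv g, ← Matrix.mulVec_mulVec, ← Matrix.mulVec_mulVec, Matrix.dotProduct_mulVec x,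
      Matrix.vecMul_transpose]

end sign

/-! ### all data -/

include hp in
/-- `(-1) ^ (r₀ (1 + Q + ... + Q^(s-1))) = (-1) ^ (r₀ s)` in `F` -/
theorem neg_one_pow_geom (r₀ s : ℕ) :
    (-1 : F) ^ (r₀ * ∑ l ∈ Finset.range s, Fintype.card F ^ l) = (-1) ^ (r₀ * s) := by
  by_cases h2 : (2 : F) = 0
  · have h1 : (-1 : F) = 1 := by linear_combination -h2
    rw [h1, one_pow, one_pow]
  · have hodd : Odd (Fintype.card F) := by
      rw [← Nat.not_even_iff_odd]
      intro he
      apply h2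
      obtain ⟨m, hm⟩ := he
      have h3 : ((Fintype.card F : ℕ) : F) = 0 := FiniteField.cast_card_eq_zero F
      have hpd : p ∣ Fintype.card F := (CharP.cast_eq_zero_iff F p _).1 h3
      obtain ⟨a, -, ha⟩ := FiniteField.card F p
      have h4 : (2 : ℕ) ∣ p ^ (a : ℕ) := ⟨m, by rw [← ha, hm]; ring⟩
      have h5 : 2 ∣ p := Nat.prime_two.dvd_of_dvd_pow h4
      have h6 : p = 2 := ((Nat.prime_dvd_prime_iff_eq Nat.prime_two hp.out).1 h5).symm
      have h7 : ((2 : ℕ) : F) = 0 := by rw [← h6]; exact CharP.cast_eq_zero F p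
      exact_mod_cast h7
    have h3 : (-1 : F) ^ ∑ l ∈ Finset.range s, Fintype.card F ^ l = (-1) ^ s := by
      induction s with
      | zero => simp
      | succ s ih =>
        rw [Finset.sum_range_succ, pow_add, ih, (hodd.pow).neg_one_pow, pow_succ]
    rw [mul_comm, pow_mul, h3, ← pow_mul, mul_comm]

include hp in
/-- **Fields, dimension, sign of the invariant forms.** -/
theorem exists_data (hC : Core P) (e : Soc P ≃* ProjectiveSpecialLinearGroup (Fin 2) E) :
    ∃ s r₀ : ℕ, s ≠ 0 ∧ Fintype.card E = Fintype.card F ^ s ∧ r₀ ≠ 0 ∧ r₀ < Fintype.card F ∧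
      Fintype.card ι = (SS p r₀).card ^ s ∧
      ∀ (ε : F) (f : (ι → F) → (ι → F) → F), IsBilinearForm f → IsNondegenerateForm f → FixesForm (matrixSet P) f →
        (∀ u v, f u v = ε * f v u) → ε = (-1) ^ (r₀ * s) := by
  obtain ⟨θ, hsurj, -⟩ := DefCov.exists_cover (m := 1) hC p (perf hC e) e
  obtain ⟨j⟩ := exists_emb F E p
  have hk : CharP (AlgebraicClosure F) p := charP_of_injective_ringHom (algebraMap F (AlgebraicClosure F)).injective p
  obtain ⟨s, r₀, Φ, hs0, hs, hr0, hlt, hcard, hM⟩ := exists_param p θ hC hsurj (algebraMap F (AlgebraicClosure F)) j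
  refine ⟨s, r₀, hs0, hs, hr0, hlt, hcard, fun ε f hf hfn hfix hε => ?_⟩
  have h1 := sign_of_form p hM hf hfn hε (fun g u v => hfix _ ⟨_, (θ g).2, rfl⟩ u v)
  apply (algebraMap F (AlgebraicClosure F)).injective
  rw [h1, ← neg_one_pow_geom (F := F) p, map_pow, map_neg, map_one]

/-- a quadratic form is fixed: even exponent -/
theorem even_of_quad {s r₀ : ℕ} (h2 : (2 : F) ≠ 0) {Q : (ι → F) → F} (hQ : IsNondegenerateQuadraticForm Q)
    (hfix : FixesForm (matrixSet P) (QuadraticMap.polar Q))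
    (h : ∀ (ε : F) (f : (ι → F) → (ι → F) → F), IsBilinearForm f → IsNondegenerateForm f →
      FixesForm (matrixSet P) f → (∀ u v, f u v = ε * f v u) → ε = (-1) ^ (r₀ * s)) : Even (r₀ * s) := by
  have h1 := h 1 _ hQ.polar_bilinear hQ.nondegenerate hfix (fun u v => by rw [one_mul, QuadraticMap.polar_comm])
  by_contra ho
  rw [Nat.not_even_iff_odd] at ho
  rw [ho.neg_one_pow] at h1
  apply h2
  linear_combination h1

/-- an alternating form is fixed: odd exponent -/
theorem odd_of_alt {s r₀ : ℕ} (h2 : (2 : F) ≠ 0) {f : (ι → F) → (ι → F) → F} (hf : IsSymplecticForm f)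
    (hfix : FixesForm (matrixSet P) f)
    (h : ∀ (ε : F) (f : (ι → F) → (ι → F) → F), IsBilinearForm f → IsNondegenerateForm f →
      FixesForm (matrixSet P) f → (∀ u v, f u v = ε * f v u) → ε = (-1) ^ (r₀ * s)) : Odd (r₀ * s) := by
  have h1 := h (-1) _ hf.bilinear hf.nondegenerate hfix (fun u v => by rw [hf.skew]; ring)
  by_contra ho
  rw [Nat.not_odd_iff_even] at ho
  rw [ho.neg_one_pow] at h1
  apply h2
  linear_combination -h1

/-- two basis elements: the exponent is a power of `p` -/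
theorem eq_pow_of_card_two {r : ℕ} (h : (SS p r).card = 2) : ∃ t, r = p ^ t := by
  have hr : r ≠ 0 := by
    rintro rfl
    rw [card_SS_lt hp.out.pos] at h
    omega
  obtain ⟨t, c, x, hc, hcp, hrr⟩ := exists_digit (p := p) hr
  have h1 : p ^ t * c < p ^ (t + 1) := by
    rw [pow_succ]
    exact Nat.mul_lt_mul_of_pos_left hcp (pow_pos hp.out.pos t)
  rw [hrr, card_SS_add h1 (Dvd.intro _ rfl), card_SS_digit hcp, card_SS_pow_mul] at h
  have h2 : x = 0 := by
    by_contra hx
    have h3 := two_le_card_SS (p := p) hx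
    have h4 : 2 * 2 ≤ (c + 1) * (SS p x).card := Nat.mul_le_mul (by omega) h3
    omega
  subst h2
  rw [card_SS_lt hp.out.pos] at h
  have h3 : c = 1 := by omega
  exact ⟨t, by rw [hrr, h3]; simp⟩

/-! ### maximal subgroups -/

section max

variable {X H : Subgroup (GL ι F)}

include hp in
/-- **`|E| = |F|`: one digit.** -/
theorem exists_single {f : (ι → F) → (ι → F) → F} (hf : IsBilinearForm f) (hfn : IsNondegenerateForm f)
    (hfX : FixesForm (matrixSet X) f) (hXf : ∀ A : Subgroup (GL ι F), ⁅A, A⁆ = A → FixesForm (matrixSet A) f → A ≤ X)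
    (hX : Kill.QS X) (hH : IsMaximalIn X H) (hc : IsResidualCore H P)
    (e : Soc P ≃* ProjectiveSpecialLinearGroup (Fin 2) E) (hEF : Fintype.card E = Fintype.card F) :
    ∃ (θ : SpecialLinearGroup (Fin 2) E →* P) (J : E ≃+* F) (t c : ℕ) (Φ : (ι → F) →ₗ[F] (E × E → F)),
      Function.Surjective θ ∧ (∀ g, e (toSoc P (θ g)) = QuotientGroup.mk' _ g) ∧ c ≠ 0 ∧ c < p ∧
      Fintype.card ι = c + 1 ∧ IsModel (J : E →+* F) (lin (P.subtype.comp θ) (RingHom.id F)) (p ^ t * c) Φ := by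
  have hC : Core P := core_of_residual hc
  have hperf := perf hC e
  obtain ⟨θ, hsurj, hθ⟩ := DefCov.exists_cover (m := 1) hC p hperf e
  obtain ⟨J⟩ : Nonempty (E ≃+* F) := ⟨FiniteField.ringEquivOfCardEq hEF⟩
  obtain ⟨s, r₀, Φ, hs0, hs, hr0, hrlt, hcard, hM⟩ := exists_param p θ hC hsurj (RingHom.id F) (J : E →+* F)
  have hs1 : s = 1 := by
    rw [hEF] at hs
    have h1 : Fintype.card F ^ 1 = Fintype.card F ^ s := by rw [pow_one]; exact hs
    exact (Nat.pow_right_injective (Fintype.one_lt_card (α := F)) h1).symm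
  subst hs1
  rw [pow_one] at hcard
  have hr1 : r₀ * ∑ l ∈ Finset.range 1, Fintype.card F ^ l = r₀ := by simp
  rw [hr1] at hM
  obtain ⟨t, c, x, hc0, hcp, hr⟩ := exists_digit (p := p) hr0
  by_cases hx : x = 0
  · rw [hx, mul_zero, add_zero] at hr
    rw [hr, card_SS_digit hcp] at hcard
    rw [hr] at hM
    exact ⟨θ, J, t, c, Φ, hsurj, hθ, hc0, hcp, hcard, hM⟩
  · exfalso
    subst hr
    have h1 : p ^ t * c < p ^ (t + 1) := by
      rw [pow_succ]
      exact Nat.mul_lt_mul_of_pos_left hcp (pow_pos hp.out.pos t)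
    have h2 : p ^ (t + 1) ∣ p ^ (t + 1) * x := Dvd.intro _ rfl
    have hr1 : p ^ t * c ≠ 0 := Nat.mul_ne_zero (pow_ne_zero _ hp.out.ne_zero) hc0
    have hr2 : p ^ (t + 1) * x ≠ 0 := Nat.mul_ne_zero (pow_ne_zero _ hp.out.ne_zero) hx
    have hfix := fac_fix p hC hM h1 h2 hsurj hf hfn (fun s hs => hfX s (by
      obtain ⟨y, hy, rfl⟩ := hs
      exact ⟨y, hH.1.le (hc.le hy), rfl⟩))
    have hnorm : ∀ h ∈ H, ∃ (A : GL (Fin 2) E) (c : F), (h : Matrix ι ι F) =
        c • (gl (psi hM) (GLrep (J : E →+* F) _) A : Matrix ι ι F) := fun h hh =>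
      exists_norm_GL p hC hperf e hθ hsurj J.bijective hM (hc.normal h hh)
    refine Kill.false_of_pair hX hH hc (A := fac p hM h1 h2 (R₁ _ _ _)) (B := fac p hM h1 h2 (R₂ _ _ _))
      (hXf _ (fac_perfect p hperf hM h1 h2 _) hfix.1) (hXf _ (fac_perfect p hperf hM h1 h2 _) hfix.2)
      (fun a ha b hb => fac_comm p hM h1 h2 ha hb) ?_ ?_ (fac_ns₁ p hM h1 h2 hr1) (fac_ns₂ p hM h1 h2 hr2)
    · intro h hh x hx
      obtain ⟨A, c, hA⟩ := hnorm h hh
      exact fac_norm p hM h1 h2 (RR_R₁ _ _ _) hA hx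
    · intro h hh x hx
      obtain ⟨A, c, hA⟩ := hnorm h hh
      exact fac_norm p hM h1 h2 (RR_R₂ _ _ _) hA hx

include hp in
theorem omega_single (h2 : (2 : F) ≠ 0) {Q : (ι → F) → F} (hQ : IsNondegenerateQuadraticForm Q)
    (hn : 5 ≤ Fintype.card ι) (hH : IsMaximalIn (omegaGL Q) H) (hc : IsResidualCore H P)
    (e : Soc P ≃* ProjectiveSpecialLinearGroup (Fin 2) E) (hEF : Fintype.card E = Fintype.card F) :
    ∃ (θ : SpecialLinearGroup (Fin 2) E →* P) (J : E ≃+* F) (t c : ℕ) (Φ : (ι → F) →ₗ[F] (E × E → F)),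
      Function.Surjective θ ∧ (∀ g, e (toSoc P (θ g)) = QuotientGroup.mk' _ g) ∧ c ≠ 0 ∧ c < p ∧
      Fintype.card ι = c + 1 ∧ IsModel (J : E →+* F) (lin (P.subtype.comp θ) (RingHom.id F)) (p ^ t * c) Φ :=
  exists_single p hQ.polar_bilinear hQ.nondegenerate (Kill.omegaGL_fixes Q)
    (fun _ hA hfix => Kill.le_omegaGL h2 hQ hA hfix) (Kill.qs_omega hQ hn) hH hc e hEF

theorem omega_fix {Q : (ι → F) → F} (hH : IsMaximalIn (omegaGL Q) H) (hc : IsResidualCore H P) :
    FixesForm (matrixSet P) (QuadraticMap.polar Q) := by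
  rintro _ ⟨x, hx, rfl⟩
  exact Kill.omegaGL_fixes Q _ ⟨x, hH.1.le (hc.le hx), rfl⟩

include hp in
theorem odd_of_two (h2 : (2 : F) ≠ 0) : Odd p := by
  rcases hp.out.eq_two_or_odd' with h | h
  · exfalso
    apply h2
    have h7 : ((p : ℕ) : F) = 0 := CharP.cast_eq_zero F p
    rw [h] at h7
    exact_mod_cast h7
  · exact h

include hp in
/-- **Even dimension, `|E| = |F|`: nothing in `omegaGL Q`**, `p` odd. -/
theorem omega_false_of_even (h2 : (2 : F) ≠ 0) {Q : (ι → F) → F} (hQ : IsNondegenerateQuadraticForm Q)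
    (hn : 5 ≤ Fintype.card ι) (heven : Even (Fintype.card ι)) (hH : IsMaximalIn (omegaGL Q) H)
    (hc : IsResidualCore H P) (e : Soc P ≃* ProjectiveSpecialLinearGroup (Fin 2) E)
    (hEF : Fintype.card E = Fintype.card F) : False := by
  obtain ⟨θ, J, t, c, Φ, -, -, hc0, hcp, hcard, hM⟩ := omega_single p h2 hQ hn hH hc e hEF
  have h1 := sign_of_form p hM hQ.polar_bilinear hQ.nondegenerate (ε := 1)
    (fun u v => by rw [one_mul, QuadraticMap.polar_comm]) (fun g u v => omega_fix hH hc _ ⟨_, (θ g).2, rfl⟩ u v)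
  have h3 : Odd c := by
    rw [hcard] at heven
    rw [← Nat.not_even_iff_odd]
    intro h
    rw [Nat.even_add_one] at heven
    exact heven h
  have h4 : Odd (p ^ t * c) := ((odd_of_two (F := F) p h2).pow).mul h3
  rw [h4.neg_one_pow, map_one] at h1
  apply h2
  linear_combination h1

include hp in
/-- **Even dimension not a proper power: nothing in `omegaGL Q`**, `p` odd (dimensions 6, 10, 12, 14, ...). -/
theorem omega_false_of_not_pow (h2 : (2 : F) ≠ 0) {Q : (ι → F) → F} (hQ : IsNondegenerateQuadraticForm Q)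
    (hn : 5 ≤ Fintype.card ι) (heven : Even (Fintype.card ι))
    (hnp : ∀ s m : ℕ, 2 ≤ s → 2 ≤ m → Fintype.card ι ≠ m ^ s) (hH : IsMaximalIn (omegaGL Q) H)
    (hc : IsResidualCore H P) (e : Soc P ≃* ProjectiveSpecialLinearGroup (Fin 2) E) : False :=
  omega_false_of_even p h2 hQ hn heven hH hc e (card_eq_of_not_pow p (core_of_residual hc) e hnp)

end max

end Cfsg.Agent.H875.Psl2
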