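import Cfsg.Agent.H875.FnMono
import Mathlib.Data.Nat.Choose.Lucas
import Mathlib.Data.Nat.Prime.Factorial

/-!
# The exponent sets `SS p r` (helper875)

`SS p r = {m : p ∤ C(r, m)}`. `P = p ^ t`, `r₁ < P`, `P ∣ r₂`: `m ∈ SS p (r₁ + r₂)` iff `m % P ∈ SS p r₁` and
`m - m % P ∈ SS p r₂`; `|SS p (r₁ + r₂)| = |SS p r₁| |SS p r₂|`, `|SS p (p ^ t * x)| = |SS p x|`,
`|SS p c| = c + 1` for `c < p`.
-/

set_option autoImplicit false
set_option linter.unusedSectionVars false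

namespace Cfsg.Agent.H875.Fn

variable {p : ℕ} [hp : Fact p.Prime]

theorem mem_SS' {r m : ℕ} : m ∈ SS p r ↔ ¬ p ∣ r.choose m := by
  rw [mem_SS]
  constructor
  · exact fun h => h.2
  · intro h
    refine ⟨?_, h⟩
    by_contra hlt
    apply h
    rw [Nat.choose_eq_zero_of_lt (by omega)]
    exact dvd_zero _

theorem zero_mem_SS (r : ℕ) : 0 ∈ SS p r := by
  rw [mem_SS', Nat.choose_zero_right]
  exact fun h => hp.out.one_lt.ne' (Nat.dvd_one.1 h)

theorem self_mem_SS (r : ℕ) : r ∈ SS p r := by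
  rw [mem_SS', Nat.choose_self]
  exact fun h => hp.out.one_lt.ne' (Nat.dvd_one.1 h)

theorem card_SS_pos (r : ℕ) : 0 < (SS p r).card := Finset.card_pos.2 ⟨0, zero_mem_SS r⟩

theorem two_le_card_SS {r : ℕ} (hr : r ≠ 0) : 2 ≤ (SS p r).card := by
  have h1 : ({0, r} : Finset ℕ) ⊆ SS p r := by
    intro m hm
    rw [Finset.mem_insert, Finset.mem_singleton] at hm
    rcases hm with rfl | rfl
    · exact zero_mem_SS _
    · exact self_mem_SS _
  have h2 := Finset.card_le_card h1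
  rwa [Finset.card_pair (Ne.symm hr)] at h2

/-- `P ∣ r` and `p ∤ C(r, m)` imply `P ∣ m` -/
theorem dvd_of_mem_SS {t r m : ℕ} (hP : p ^ t ∣ r) (h : m ∈ SS p r) : p ^ t ∣ m := by
  rw [mem_SS'] at h
  rcases Nat.eq_zero_or_pos m with rfl | hm
  · exact dvd_zero _
  · rcases Nat.eq_zero_or_pos r with rfl | hr
    · exfalso
      apply h
      rw [Nat.choose_eq_zero_of_lt hm]
      exact dvd_zero _
    · obtain ⟨r', rfl⟩ := Nat.exists_eq_succ_of_ne_zero hr.ne'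
      obtain ⟨m', rfl⟩ := Nat.exists_eq_succ_of_ne_zero hm.ne'
      have h1 := Nat.add_one_mul_choose_eq r' m'
      have h2 : p ^ t ∣ (r'.succ).choose (m'.succ) * m'.succ := by
        rw [← h1]
        exact Dvd.dvd.mul_right hP _
      have h3 : (p ^ t).Coprime ((r'.succ).choose (m'.succ)) :=
        Nat.Coprime.pow_left _ ((Nat.Prime.coprime_iff_not_dvd hp.out).2 h)
      exact h3.dvd_of_dvd_mul_left h2

/-- `C(r₁ + r₂, m) ≡ C(r₁, m % P) C(r₂, m - m % P)` -/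
theorem choose_add_cast {t r₁ r₂ : ℕ} (h1 : r₁ < p ^ t) (h2 : p ^ t ∣ r₂) (m : ℕ) :
    (((r₁ + r₂).choose m : ℕ) : ZMod p) = ((r₁.choose (m % p ^ t) * r₂.choose (m - m % p ^ t) : ℕ) : ZMod p) := by
  rw [Nat.add_choose_eq, Nat.cast_sum]
  rw [Finset.sum_eq_single (m % p ^ t, m - m % p ^ t)]
  · rintro ⟨i, l⟩ hil hne
    rw [Finset.mem_antidiagonal] at hil
    change (((r₁.choose i * r₂.choose l : ℕ)) : ZMod p) = 0
    by_contra hc
    apply hne
    rw [ZMod.natCast_eq_zero_iff, hp.out.dvd_mul, not_or] at hc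
    have h3 := dvd_of_mem_SS h2 (mem_SS'.2 hc.2)
    have h4 : i ≤ r₁ := (mem_SS.1 (mem_SS'.2 hc.1)).1
    obtain ⟨l', rfl⟩ := h3
    have h5 : m % p ^ t = i := by
      change i + p ^ t * l' = m at hil
      rw [← hil, Nat.add_mul_mod_self_left, Nat.mod_eq_of_lt (by omega)]
    rw [h5]
    change i + p ^ t * l' = m at hil
    congr 1
    omega
  · intro h
    exfalso
    apply h
    rw [Finset.mem_antidiagonal]
    have := Nat.mod_le m (p ^ t)
    change m % p ^ t + (m - m % p ^ t) = m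
    omega

theorem mem_SS_add {t r₁ r₂ : ℕ} (h1 : r₁ < p ^ t) (h2 : p ^ t ∣ r₂) {m : ℕ} :
    m ∈ SS p (r₁ + r₂) ↔ m % p ^ t ∈ SS p r₁ ∧ m - m % p ^ t ∈ SS p r₂ := by
  rw [mem_SS', mem_SS', mem_SS', ← ZMod.natCast_eq_zero_iff, choose_add_cast h1 h2, ZMod.natCast_eq_zero_iff,
    hp.out.dvd_mul, not_or]

theorem add_mod_of {t r₁ r₂ : ℕ} (h1 : r₁ < p ^ t) (h2 : p ^ t ∣ r₂) {m₁ m₂ : ℕ} (hm₁ : m₁ ∈ SS p r₁)
    (hm₂ : m₂ ∈ SS p r₂) : (m₁ + m₂) % p ^ t = m₁ ∧ m₁ + m₂ - (m₁ + m₂) % p ^ t = m₂ := by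
  have h3 := dvd_of_mem_SS h2 hm₂
  have h4 := (mem_SS.1 hm₁).1
  obtain ⟨l, rfl⟩ := h3
  have h5 : (m₁ + p ^ t * l) % p ^ t = m₁ := by
    rw [Nat.add_mul_mod_self_left, Nat.mod_eq_of_lt (by omega)]
  refine ⟨h5, ?_⟩
  rw [h5]
  omega

/-- the bijection -/
def addEquiv {t r₁ r₂ : ℕ} (h1 : r₁ < p ^ t) (h2 : p ^ t ∣ r₂) : SS p r₁ × SS p r₂ ≃ SS p (r₁ + r₂) where
  toFun x := ⟨x.1 + x.2, by
    rw [mem_SS_add h1 h2]
    obtain ⟨h3, h4⟩ := add_mod_of h1 h2 x.1.2 x.2.2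
    rw [h4, h3]
    exact ⟨x.1.2, x.2.2⟩⟩
  invFun m := (⟨m % p ^ t, ((mem_SS_add h1 h2).1 m.2).1⟩, ⟨m - m % p ^ t, ((mem_SS_add h1 h2).1 m.2).2⟩)
  left_inv x := by
    obtain ⟨h3, h4⟩ := add_mod_of h1 h2 x.1.2 x.2.2
    exact Prod.ext (Subtype.ext h3) (Subtype.ext h4)
  right_inv m := by
    apply Subtype.ext
    have := Nat.mod_le (m : ℕ) (p ^ t)
    change (m : ℕ) % p ^ t + (m - m % p ^ t) = m
    omega

theorem addEquiv_apply {t r₁ r₂ : ℕ} (h1 : r₁ < p ^ t) (h2 : p ^ t ∣ r₂) (x : SS p r₁ × SS p r₂) :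
    ((addEquiv h1 h2 x : SS p (r₁ + r₂)) : ℕ) = x.1 + x.2 := rfl

theorem card_SS_add {t r₁ r₂ : ℕ} (h1 : r₁ < p ^ t) (h2 : p ^ t ∣ r₂) :
    (SS p (r₁ + r₂)).card = (SS p r₁).card * (SS p r₂).card := by
  rw [← Fintype.card_coe, ← Fintype.card_congr (addEquiv h1 h2), Fintype.card_prod, Fintype.card_coe, Fintype.card_coe]

theorem mem_SS_p_mul {x y : ℕ} : p * y ∈ SS p (p * x) ↔ y ∈ SS p x := by
  rw [mem_SS', mem_SS']
  have h := Choose.choose_modEq_choose_mod_mul_choose_div_nat (n := p * x) (k := p * y) (p := p)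
  rw [Nat.mul_mod_right, Nat.mul_mod_right, Nat.choose_self, one_mul, Nat.mul_div_cancel_left _ hp.out.pos,
    Nat.mul_div_cancel_left _ hp.out.pos] at h
  rw [h.dvd_iff (dvd_refl p)]

theorem card_SS_p_mul (x : ℕ) : (SS p (p * x)).card = (SS p x).card := by
  symm
  refine Finset.card_nbij' (fun y => p * y) (fun y => y / p) ?_ ?_ ?_ ?_
  · intro y hy
    exact mem_SS_p_mul.2 hy
  · intro y hy
    have h1 : p ^ 1 ∣ y := dvd_of_mem_SS (by rw [pow_one]; exact Dvd.intro _ rfl) hy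
    rw [pow_one] at h1
    obtain ⟨z, rfl⟩ := h1
    change p * z / p ∈ SS p x
    rw [Nat.mul_div_cancel_left _ hp.out.pos]
    exact mem_SS_p_mul.1 hy
  · intro y _
    exact Nat.mul_div_cancel_left _ hp.out.pos
  · intro y hy
    have h1 : p ^ 1 ∣ y := dvd_of_mem_SS (by rw [pow_one]; exact Dvd.intro _ rfl) hy
    rw [pow_one] at h1
    exact Nat.mul_div_cancel' h1

theorem card_SS_pow_mul (t x : ℕ) : (SS p (p ^ t * x)).card = (SS p x).card := by
  induction t with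
  | zero => rw [pow_zero, one_mul]
  | succ t ih => rw [pow_succ', mul_assoc, card_SS_p_mul, ih]

theorem card_SS_lt {c : ℕ} (hc : c < p) : (SS p c).card = c + 1 := by
  have h1 : SS p c = Finset.range (c + 1) := by
    ext m
    rw [mem_SS, Finset.mem_range, Nat.lt_succ_iff]
    constructor
    · exact fun h => h.1
    · intro h
      refine ⟨h, fun hd => ?_⟩
      have h2 : c.choose m ∣ c.factorial := by
        rw [← Nat.choose_mul_factorial_mul_factorial h, mul_assoc]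
        exact Dvd.intro _ rfl
      have h3 := (Nat.Prime.dvd_factorial hp.out).1 (hd.trans h2)
      omega
  rw [h1, Finset.card_range]

/-- a single digit -/
theorem card_SS_digit {c : ℕ} (hc : c < p) (t : ℕ) : (SS p (p ^ t * c)).card = c + 1 := by
  rw [card_SS_pow_mul, card_SS_lt hc]

/-- repeated blocks: `|SS p (r₀ (1 + Q + ... + Q^(s-1)))| = |SS p r₀| ^ s`, `Q = p ^ a > r₀` -/
theorem card_SS_geom {a r₀ : ℕ} (h : r₀ < p ^ a) (s : ℕ) :
    (SS p (r₀ * ∑ i ∈ Finset.range s, (p ^ a) ^ i)).card = (SS p r₀).card ^ s := by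
  induction s with
  | zero =>
    rw [Finset.range_zero, Finset.sum_empty, mul_zero, pow_zero, card_SS_lt hp.out.pos, zero_add]
  | succ s ih =>
    rw [Finset.sum_range_succ', pow_zero]
    have h1 : r₀ * (∑ i ∈ Finset.range s, (p ^ a) ^ (i + 1) + 1) =
        r₀ + p ^ a * (r₀ * ∑ i ∈ Finset.range s, (p ^ a) ^ i) := by
      have h2 : ∑ i ∈ Finset.range s, (p ^ a) ^ (i + 1) = p ^ a * ∑ i ∈ Finset.range s, (p ^ a) ^ i := by
        rw [Finset.mul_sum]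
        exact Finset.sum_congr rfl fun i _ => pow_succ' _ _
      rw [h2]
      ring
    rw [h1, card_SS_add h (Dvd.intro _ rfl), card_SS_pow_mul, ih, pow_succ']

/-- the lowest digit -/
theorem exists_digit {r : ℕ} (hr : r ≠ 0) : ∃ t c x : ℕ, c ≠ 0 ∧ c < p ∧ r = p ^ t * c + p ^ (t + 1) * x := by
  have hp2 := hp.out.two_le
  obtain ⟨t, y, hy, hr'⟩ := Nat.exists_eq_pow_mul_and_not_dvd hr p (by omega)
  refine ⟨t, y % p, y / p, ?_, Nat.mod_lt _ hp.out.pos, ?_⟩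
  · intro h
    exact hy (Nat.dvd_of_mod_eq_zero h)
  · rw [hr']
    conv_lhs => rw [← Nat.mod_add_div y p]
    rw [pow_succ]
    ring

end Cfsg.Agent.H875.Fn
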