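import Cfsg.Agent.H875.PslTwo

/-!
# The rows `Soc P ≃* PSL_2(E)`, defining characteristic, in dimensions 6 to 12 (helper875)

`H` maximal in `spGL m F` resp. `omegaGL Q`, `IsResidualCore H P`, `e : Soc P ≃* PSL_2(E)`, `char E = char F = p`.

* `sp_six`, `sp_ten`, `sp_twelve` : `Soc P ≃* PSL_2(F)` and `p ≥ 7`, `11`, `13`; `sp_eight` : `Soc P ≃* PSL_2(F)` and
  `p ≥ 11`, or `|E| = |F| ^ 3`;
* `omega_seven`, `omega_eleven` : `Soc P ≃* PSL_2(F)` and `p ≥ 7`, `11`; `omega_nine` : `Soc P ≃* PSL_2(F)` and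
  `p ≥ 11`, or `|E| = |F| ^ 2`;
* `omega_eight` : nothing if `p` is odd; `omega_ten`, `omega_twelve` : nothing.
-/

set_option autoImplicit false
set_option linter.unusedSectionVars false

namespace Cfsg.Agent.H875.PslRows

open Cfsg Cfsg.Geo Matrix Cfsg.Agent.H915.LD Cfsg.Agent.H875.Fn Cfsg.Agent.H875.Psl2

universe u v w

variable {ι : Type} [Fintype ι] [DecidableEq ι] {F : Type u} [Field F] [Fintype F] {E : Type w} [Field E] [Fintype E]
  {H P : Subgroup (GL ι F)} (p : ℕ) [hp : Fact p.Prime] [CharP E p] [CharP F p]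

theorem soc_psl (e : Soc P ≃* ProjectiveSpecialLinearGroup (Fin 2) E) (hEF : Fintype.card E = Fintype.card F) :
    Nonempty (Soc P ≃* ProjectiveSpecialLinearGroup (Fin 2) F) := by
  obtain ⟨e'⟩ := H363.PslCard.psl_of_card (n := Fin 2) hEF
  exact ⟨e.trans e'⟩

theorem not_pow {n : ℕ} (hn : n = 6 ∨ n = 7 ∨ n = 10 ∨ n = 11 ∨ n = 12) (s m : ℕ) (hs : 2 ≤ s) (hm : 2 ≤ m) :
    n ≠ m ^ s := by
  intro h
  have h1 : s ≤ 3 := by
    by_contra hlt
    have h2 : 2 ^ 4 ≤ m ^ s := (Nat.pow_le_pow_left hm 4).trans (Nat.pow_le_pow_right (by omega) (by omega))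
    omega
  have h2 : m ≤ 3 := by
    by_contra hlt
    have h2 : 4 ^ 2 ≤ m ^ s := (Nat.pow_le_pow_left (by omega) 2).trans (Nat.pow_le_pow_right (by omega) hs)
    omega
  interval_cases s <;> interval_cases m <;> omega

theorem pow_eight {s m : ℕ} (hs : s ≠ 0) (hm : 2 ≤ m) (h : 8 = m ^ s) : s = 1 ∨ (s = 3 ∧ m = 2) := by
  have h1 : s ≤ 3 := by
    by_contra hlt
    have h2 : 2 ^ 4 ≤ m ^ s := (Nat.pow_le_pow_left hm 4).trans (Nat.pow_le_pow_right (by omega) (by omega))
    omega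
  by_cases hs1 : s = 1
  · exact Or.inl hs1
  · have h2 : m ≤ 2 := by
      by_contra hlt
      have h2 : 3 ^ 2 ≤ m ^ s := (Nat.pow_le_pow_left (by omega) 2).trans (Nat.pow_le_pow_right (by omega) (by omega))
      omega
    interval_cases s <;> interval_cases m <;> omega

theorem pow_nine {s m : ℕ} (hs : s ≠ 0) (hm : 2 ≤ m) (h : 9 = m ^ s) : s = 1 ∨ (s = 2 ∧ m = 3) := by
  have h1 : s ≤ 3 := by
    by_contra hlt
    have h2 : 2 ^ 4 ≤ m ^ s := (Nat.pow_le_pow_left hm 4).trans (Nat.pow_le_pow_right (by omega) (by omega))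
    omega
  by_cases hs1 : s = 1
  · exact Or.inl hs1
  · have h2 : m ≤ 3 := by
      by_contra hlt
      have h2 : 4 ^ 2 ≤ m ^ s := (Nat.pow_le_pow_left (by omega) 2).trans (Nat.pow_le_pow_right (by omega) (by omega))
      omega
    interval_cases s <;> interval_cases m <;> omega

theorem prime_ge {a : ℕ} (h : a ≤ p) (hna : ¬ a.Prime) : a + 1 ≤ p := by
  rcases Nat.lt_or_ge a p with h1 | h1
  · exact h1
  · exfalso
    apply hna
    rw [le_antisymm h h1]
    exact hp.out

section sp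

include hp in
theorem sp_row {m : ℕ} (hm : 2 * m = 6 ∨ 2 * m = 10 ∨ 2 * m = 12) {H P : Subgroup (GL (Fin m ⊕ Fin m) F)}
    (hH : IsMaximalIn (spGL m F) H) (hc : IsResidualCore H P) (e : Soc P ≃* ProjectiveSpecialLinearGroup (Fin 2) E) :
    Nonempty (Soc P ≃* ProjectiveSpecialLinearGroup (Fin 2) F) ∧ 2 * m ≤ p := by
  have hcard : Fintype.card (Fin m ⊕ Fin m) = 2 * m := by rw [Fintype.card_sum, Fintype.card_fin]; ring
  have hEF := card_eq_of_not_pow p (core_of_residual hc) e (not_pow (by rw [hcard]; omega))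
  exact ⟨soc_psl e hEF, Kill.sp_card_le p (by omega) hH hc e hEF⟩

include hp in
theorem sp_six {H P : Subgroup (GL (Fin 3 ⊕ Fin 3) F)} (hH : IsMaximalIn (spGL 3 F) H) (hc : IsResidualCore H P)
    (e : Soc P ≃* ProjectiveSpecialLinearGroup (Fin 2) E) :
    Nonempty (Soc P ≃* ProjectiveSpecialLinearGroup (Fin 2) F) ∧ 7 ≤ p := by
  obtain ⟨h1, h2⟩ := sp_row p (m := 3) (by omega) hH hc e
  exact ⟨h1, prime_ge p h2 (by norm_num)⟩

include hp in
theorem sp_ten {H P : Subgroup (GL (Fin 5 ⊕ Fin 5) F)} (hH : IsMaximalIn (spGL 5 F) H) (hc : IsResidualCore H P)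
    (e : Soc P ≃* ProjectiveSpecialLinearGroup (Fin 2) E) :
    Nonempty (Soc P ≃* ProjectiveSpecialLinearGroup (Fin 2) F) ∧ 11 ≤ p := by
  obtain ⟨h1, h2⟩ := sp_row p (m := 5) (by omega) hH hc e
  exact ⟨h1, prime_ge p h2 (by norm_num)⟩

include hp in
theorem sp_twelve {H P : Subgroup (GL (Fin 6 ⊕ Fin 6) F)} (hH : IsMaximalIn (spGL 6 F) H) (hc : IsResidualCore H P)
    (e : Soc P ≃* ProjectiveSpecialLinearGroup (Fin 2) E) :
    Nonempty (Soc P ≃* ProjectiveSpecialLinearGroup (Fin 2) F) ∧ 13 ≤ p := by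
  obtain ⟨h1, h2⟩ := sp_row p (m := 6) (by omega) hH hc e
  exact ⟨h1, prime_ge p h2 (by norm_num)⟩

include hp in
theorem sp_eight {H P : Subgroup (GL (Fin 4 ⊕ Fin 4) F)} (hH : IsMaximalIn (spGL 4 F) H) (hc : IsResidualCore H P)
    (e : Soc P ≃* ProjectiveSpecialLinearGroup (Fin 2) E) :
    (Nonempty (Soc P ≃* ProjectiveSpecialLinearGroup (Fin 2) F) ∧ 11 ≤ p) ∨ Fintype.card E = Fintype.card F ^ 3 := by
  obtain ⟨s, m, hs0, hs, hm, hcard⟩ := exists_pow p (core_of_residual hc) e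
  rw [Fintype.card_sum, Fintype.card_fin] at hcard
  rcases pow_eight hs0 hm hcard with rfl | ⟨rfl, -⟩
  · rw [pow_one] at hs
    refine Or.inl ⟨soc_psl e hs, ?_⟩
    have h1 := prime_ge p (Kill.sp_card_le p (by omega) hH hc e hs) (by norm_num)
    exact prime_ge p (prime_ge p h1 (by norm_num)) (by norm_num)
  · exact Or.inr hs

end sp

section omega

variable {Q : (ι → F) → F}

include hp in
theorem omega_seven (h2 : (2 : F) ≠ 0) (hQ : IsNondegenerateQuadraticForm Q) (hn : Fintype.card ι = 7)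
    (hH : IsMaximalIn (omegaGL Q) H) (hc : IsResidualCore H P) (e : Soc P ≃* ProjectiveSpecialLinearGroup (Fin 2) E) :
    Fintype.card E = Fintype.card F ∧ Nonempty (Soc P ≃* ProjectiveSpecialLinearGroup (Fin 2) F) ∧ 7 ≤ p := by
  have hEF := card_eq_of_not_pow p (core_of_residual hc) e (not_pow (by rw [hn]; omega))
  have h1 := Kill.omega_card_le p h2 hQ (by omega) hH hc e hEF
  rw [hn] at h1
  exact ⟨hEF, soc_psl e hEF, h1⟩

include hp in
theorem omega_eleven (h2 : (2 : F) ≠ 0) (hQ : IsNondegenerateQuadraticForm Q) (hn : Fintype.card ι = 11)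
    (hH : IsMaximalIn (omegaGL Q) H) (hc : IsResidualCore H P) (e : Soc P ≃* ProjectiveSpecialLinearGroup (Fin 2) E) :
    Fintype.card E = Fintype.card F ∧ Nonempty (Soc P ≃* ProjectiveSpecialLinearGroup (Fin 2) F) ∧ 11 ≤ p := by
  have hEF := card_eq_of_not_pow p (core_of_residual hc) e (not_pow (by rw [hn]; omega))
  have h1 := Kill.omega_card_le p h2 hQ (by omega) hH hc e hEF
  rw [hn] at h1
  exact ⟨hEF, soc_psl e hEF, h1⟩

include hp in
theorem omega_nine (h2 : (2 : F) ≠ 0) (hQ : IsNondegenerateQuadraticForm Q) (hn : Fintype.card ι = 9)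
    (hH : IsMaximalIn (omegaGL Q) H) (hc : IsResidualCore H P) (e : Soc P ≃* ProjectiveSpecialLinearGroup (Fin 2) E) :
    (Fintype.card E = Fintype.card F ∧ Nonempty (Soc P ≃* ProjectiveSpecialLinearGroup (Fin 2) F) ∧ 11 ≤ p) ∨
      Fintype.card E = Fintype.card F ^ 2 := by
  obtain ⟨s, m, hs0, hs, hm, hcard⟩ := exists_pow p (core_of_residual hc) e
  rw [hn] at hcard
  rcases pow_nine hs0 hm hcard with rfl | ⟨rfl, -⟩
  · rw [pow_one] at hs
    have h0 := Kill.omega_card_le p h2 hQ (by omega) hH hc e hs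
    rw [hn] at h0
    refine Or.inl ⟨hs, soc_psl e hs, ?_⟩
    exact prime_ge p (prime_ge p h0 (by norm_num)) (by norm_num)
  · exact Or.inr hs

include hp in
/-- dimension 8, `p` odd, any type -/
theorem omega_eight (h2 : (2 : F) ≠ 0) (hQ : IsNondegenerateQuadraticForm Q) (hn : Fintype.card ι = 8)
    (hH : IsMaximalIn (omegaGL Q) H) (hc : IsResidualCore H P) (e : Soc P ≃* ProjectiveSpecialLinearGroup (Fin 2) E) :
    False := by
  obtain ⟨s, r₀, hs0, hs, hr0, -, hcard, hform⟩ := exists_data p (core_of_residual hc) e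
  rw [hn] at hcard
  rcases pow_eight hs0 (two_le_card_SS hr0) hcard with rfl | ⟨rfl, h3⟩
  · rw [pow_one] at hs
    exact omega_false_of_even p h2 hQ (by omega) (by rw [hn]; decide) hH hc e hs
  · obtain ⟨t, rfl⟩ := eq_pow_of_card_two p h3
    have h4 := even_of_quad h2 hQ (omega_fix hH hc) hform
    have h5 : Odd (p ^ t * 3) := ((odd_of_two (F := F) p h2).pow).mul (by decide)
    exact (Nat.not_even_iff_odd.2 h5) h4

/-- in characteristic two the dimension of `L(r)` is a power of two -/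
theorem card_SS_two (r : ℕ) : ∃ d, (SS 2 r).card = 2 ^ d := by
  have := Fact.mk Nat.prime_two
  induction r using Nat.strong_induction_on with
  | _ r ih =>
    by_cases hr : r = 0
    · subst hr
      exact ⟨0, by rw [card_SS_lt (by norm_num)]; rfl⟩
    · obtain ⟨t, c, x, hc, hcp, hrr⟩ := exists_digit (p := 2) hr
      have hc1 : c = 1 := by omega
      subst hc1
      have h1 : 2 ^ t * 1 < 2 ^ (t + 1) := by
        rw [pow_succ]
        exact Nat.mul_lt_mul_of_pos_left (by norm_num) (pow_pos (by norm_num) t)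
      have hx : x < r := by
        have h2 : 1 * x ≤ 2 ^ (t + 1) * x := Nat.mul_le_mul_right _ (Nat.one_le_two_pow)
        have h3 : 0 < 2 ^ t := pow_pos (by norm_num) t
        omega
      obtain ⟨d, hd⟩ := ih x hx
      refine ⟨d + 1, ?_⟩
      rw [hrr, card_SS_add h1 (Dvd.intro _ rfl), card_SS_digit hcp, card_SS_pow_mul, hd, pow_succ]
      ring

/-- **Characteristic two: the dimension is a power of two.** -/
theorem card_two [CharP E 2] [CharP F 2] (hC : Core P) (e : Soc P ≃* ProjectiveSpecialLinearGroup (Fin 2) E) :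
    ∃ d, Fintype.card ι = 2 ^ d := by
  have := Fact.mk Nat.prime_two
  obtain ⟨s, r₀, -, -, -, -, hcard, -⟩ := exists_data 2 hC e
  obtain ⟨d, hd⟩ := card_SS_two r₀
  exact ⟨d * s, by rw [hcard, hd, pow_mul]⟩

theorem false_two [CharP E 2] [CharP F 2] (hC : Core P) (e : Soc P ≃* ProjectiveSpecialLinearGroup (Fin 2) E)
    (hn : Fintype.card ι = 6 ∨ Fintype.card ι = 7 ∨ Fintype.card ι = 9 ∨ Fintype.card ι = 10 ∨ Fintype.card ι = 11 ∨
      Fintype.card ι = 12) : False := by
  obtain ⟨d, hd⟩ := card_two hC e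
  have h1 : d ≤ 3 := by
    by_contra hlt
    have h2 : 2 ^ 4 ≤ 2 ^ d := Nat.pow_le_pow_right (by omega) (by omega)
    omega
  interval_cases d <;> omega

include hp in
/-- dimension 10 or 12, any type, any characteristic -/
theorem omega_row (hQ : IsNondegenerateQuadraticForm Q) (hn : Fintype.card ι = 10 ∨ Fintype.card ι = 12)
    (hH : IsMaximalIn (omegaGL Q) H) (hc : IsResidualCore H P) (e : Soc P ≃* ProjectiveSpecialLinearGroup (Fin 2) E) :
    False := by
  by_cases h2 : (2 : F) = 0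
  · have hp2 : p = 2 := by
      have h1 : ((2 : ℕ) : F) = 0 := by exact_mod_cast h2
      exact (Nat.prime_dvd_prime_iff_eq hp.out Nat.prime_two).1 ((CharP.cast_eq_zero_iff F p 2).1 h1)
    subst hp2
    exact false_two (core_of_residual hc) e (by omega)
  · exact omega_false_of_not_pow p h2 hQ (by omega) (by rcases hn with h | h <;> rw [h] <;> decide)
      (not_pow (by omega)) hH hc e

end omega

end Cfsg.Agent.H875.PslRows
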