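import Cfsg.Agent.H875.TwoQuad
import Mathlib.Algebra.Polynomial.Taylor

/-!
# Characteristic two, dimension 8: the invariant quadratic form is of plus type (helper875)

* `quad_unique` : `P` a core covered by `SL_2(E)`, `char 2`: every invariant quadratic form vanishes where `qq` does;
* `W₂` : the second layer of the socle of the unipotent group; over `F` it has dimension at least that over `k`;
* `plus_two` : `Soc P ≃* PSL_2(E)`, `char 2`, dimension 8: `P` fixes `Q` ⟹ `Q` is of plus type;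
* `omega_minus_eight` : no core with socle `PSL_2(E)`, defining characteristic, in `omegaGL Q`, `Q` of minus type,
  dimension 8, any characteristic.
-/

set_option autoImplicit false
set_option linter.unusedSectionVars false
set_option linter.unusedSimpArgs false

namespace Cfsg.Agent.H875.TwoPlus

open Cfsg Cfsg.Geo Matrix Cfsg.Agent.H911.SLTwo Cfsg.Agent.H915.LD Cfsg.Agent.H875.Fn Cfsg.Agent.H875.Psl2
  Cfsg.Agent.H875.TwoQuad

universe u v w

/-! ### arithmetic -/

section arith

theorem SS_of_eight {r : ℕ} (h : (SS 2 r).card = 8) : ∃ a b c : ℕ, a < b ∧ b < c ∧ r = 2 ^ a + (2 ^ b + 2 ^ c) := by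
  have := Fact.mk Nat.prime_two
  have key : ∀ {r : ℕ} (n : ℕ), n ≠ 0 → (SS 2 r).card = 2 * n →
      ∃ a x, (SS 2 x).card = n ∧ r = 2 ^ a + 2 ^ (a + 1) * x := by
    intro r n hn h
    have hr : r ≠ 0 := by
      rintro rfl
      rw [card_SS_lt (by norm_num)] at h
      omega
    obtain ⟨a, c, x, hc0, hc, hr⟩ := exists_digit (p := 2) hr
    have hc1 : c = 1 := by omega
    subst hc1
    refine ⟨a, x, ?_, by rw [hr, mul_one]⟩
    have h1 : 2 ^ a * 1 < 2 ^ (a + 1) := by
      rw [pow_succ]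
      exact Nat.mul_lt_mul_of_pos_left (by norm_num) (pow_pos (by norm_num) a)
    rw [hr, card_SS_add h1 (Dvd.intro _ rfl), card_SS_digit hc, card_SS_pow_mul] at h
    omega
  obtain ⟨a, x, hx, hr⟩ := key 4 (by norm_num) h
  obtain ⟨b, y, hy, hx'⟩ := key 2 (by norm_num) hx
  obtain ⟨c, hc⟩ := eq_pow_of_card_two 2 hy
  refine ⟨a, a + 1 + b, a + 1 + (b + 1) + c, by omega, by omega, ?_⟩
  rw [hr, hx', hc]
  ring

theorem ne_of_two {a b c : ℕ} (hab : a < b) (hbc : b < c) {m m' : ℕ} (hm : m = 0 ∨ ∃ e, m = 2 ^ e)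
    (hm' : m' = 0 ∨ ∃ e, m' = 2 ^ e) : m + m' ≠ 2 ^ a + (2 ^ b + 2 ^ c) := by
  have hab' : 2 ^ (a + 1) ≤ 2 ^ b := Nat.pow_le_pow_right (by norm_num) hab
  have hbc' : 2 ^ (b + 1) ≤ 2 ^ c := Nat.pow_le_pow_right (by norm_num) hbc
  have ha0 : 0 < 2 ^ a := pow_pos (by norm_num) a
  rw [pow_succ] at hab' hbc'
  -- a power of two is not of this shape
  have key2 : ∀ {u v : ℕ}, 0 < u → u < 2 ^ v → ∀ e, 2 ^ e ≠ u + 2 ^ v := by
    intro u v hu huv e he
    rcases Nat.lt_or_ge v e with h1 | h1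
    · have h2 : 2 ^ (v + 1) ≤ 2 ^ e := Nat.pow_le_pow_right (by norm_num) h1
      rw [pow_succ] at h2
      omega
    · have h2 : 2 ^ e ≤ 2 ^ v := Nat.pow_le_pow_right (by norm_num) h1
      omega
  have key3 : ∀ e, 2 ^ e ≠ 2 ^ a + (2 ^ b + 2 ^ c) := by
    intro e he
    exact key2 (u := 2 ^ a + 2 ^ b) (v := c) (by omega) (by omega) e (by omega)
  have key4 : ∀ e f, e ≤ f → 2 ^ e + 2 ^ f ≠ 2 ^ a + (2 ^ b + 2 ^ c) := by
    intro e f hef he
    rcases Nat.eq_or_lt_of_le hef with rfl | hlt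
    · exact key3 (e + 1) (by rw [pow_succ]; omega)
    · have h1 : 2 ^ (e + 1) ≤ 2 ^ f := Nat.pow_le_pow_right (by norm_num) hlt
      rw [pow_succ] at h1
      have he0 : 0 < 2 ^ e := pow_pos (by norm_num) e
      rcases Nat.lt_trichotomy f c with h2 | h2 | h2
      · have h3 : 2 ^ (f + 1) ≤ 2 ^ c := Nat.pow_le_pow_right (by norm_num) h2
        rw [pow_succ] at h3
        omega
      · subst h2
        exact key2 (u := 2 ^ a) (v := b) (by omega) (by omega) e (by omega)
      · have h3 : 2 ^ (c + 1) ≤ 2 ^ f := Nat.pow_le_pow_right (by norm_num) h2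
        rw [pow_succ] at h3
        omega
  intro h
  rcases hm with rfl | ⟨e, rfl⟩
  · rcases hm' with rfl | ⟨f, rfl⟩
    · omega
    · exact key3 f (by omega)
  · rcases hm' with rfl | ⟨f, rfl⟩
    · exact key3 e (by omega)
    · rcases le_total e f with h1 | h1
      · exact key4 e f h1 h
      · exact key4 f e h1 (by omega)

/-- no proper submask -/
theorem eq_of_no_sub {m : ℕ} (h : ∀ l ∈ SS 2 m, l = 0 ∨ l = m) : m = 0 ∨ ∃ e, m = 2 ^ e := by
  have := Fact.mk Nat.prime_two
  by_cases hm : m = 0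
  · exact Or.inl hm
  · right
    refine eq_pow_of_card_two 2 ?_
    have h1 : SS 2 m ⊆ {0, m} := by
      intro l hl
      rw [Finset.mem_insert, Finset.mem_singleton]
      exact h l hl
    have h2 := Finset.card_le_card h1
    rw [Finset.card_pair (Ne.symm hm)] at h2
    have h3 := two_le_card_SS (p := 2) hm
    omega

theorem mem_three {a b c : ℕ} (hab : a < b) (hbc : b < c) :
    0 ∈ SS 2 (2 ^ a + (2 ^ b + 2 ^ c)) ∧ 2 ^ a ∈ SS 2 (2 ^ a + (2 ^ b + 2 ^ c)) ∧
      2 ^ b ∈ SS 2 (2 ^ a + (2 ^ b + 2 ^ c)) ∧ 2 ^ c ∈ SS 2 (2 ^ a + (2 ^ b + 2 ^ c)) := by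
  have := Fact.mk Nat.prime_two
  have h1 : 2 ^ a < 2 ^ b := Nat.pow_lt_pow_right (by norm_num) hab
  have h2 : 2 ^ b < 2 ^ c := Nat.pow_lt_pow_right (by norm_num) hbc
  have h3 : 2 ^ b ∣ 2 ^ b + 2 ^ c := (dvd_refl _).add (pow_dvd_pow 2 hbc.le)
  have key : ∀ {t r₁ r₂ m₁ m₂ : ℕ}, r₁ < 2 ^ t → 2 ^ t ∣ r₂ → m₁ ∈ SS 2 r₁ → m₂ ∈ SS 2 r₂ → m₁ + m₂ ∈ SS 2 (r₁ + r₂) := by
    intro t r₁ r₂ m₁ m₂ h1 h2 hm₁ hm₂
    exact (addEquiv h1 h2 (⟨m₁, hm₁⟩, ⟨m₂, hm₂⟩)).2
  have h4 : 2 ^ b ∈ SS 2 (2 ^ b + 2 ^ c) := by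
    have := key h2 (dvd_refl _) (self_mem_SS (2 ^ b)) (zero_mem_SS (2 ^ c))
    rwa [add_zero] at this
  have h5 : 2 ^ c ∈ SS 2 (2 ^ b + 2 ^ c) := by
    have := key h2 (dvd_refl _) (zero_mem_SS (2 ^ b)) (self_mem_SS (2 ^ c))
    rwa [zero_add] at this
  refine ⟨zero_mem_SS _, ?_, ?_, ?_⟩
  · have := key h1 h3 (self_mem_SS (2 ^ a)) (zero_mem_SS (2 ^ b + 2 ^ c))
    rwa [add_zero] at this
  · have := key h1 h3 (zero_mem_SS (2 ^ a)) h4
    rwa [zero_add] at this
  · have := key h1 h3 (zero_mem_SS (2 ^ a)) h5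
    rwa [zero_add] at this

end arith

/-! ### additive polynomial functions -/

section poly

open Polynomial

theorem coeff_of_additive {E : Type u} [Field E] [Fintype E] {k : Type v} [Field k] (j : E →+* k) {g : Polynomial k}
    (hg : g.natDegree < Fintype.card E) (h : ∀ t y : E, g.eval (j t + j y) - g.eval (j y) = g.eval (j t) - g.eval 0)
    {m l : ℕ} (hl0 : l ≠ 0) (hlm : l < m) : ((m.choose l : ℕ) : k) * g.coeff m = 0 := by
  have hinj : Function.Injective (j : E → k) := j.injective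
  have h1 : ∀ y : E, taylor (j y) g = g + C (g.eval (j y) - g.eval 0) := by
    intro y
    rw [← sub_eq_zero]
    refine eq_zero_of_natDegree_lt_card_of_eval_eq_zero _ hinj (fun t => ?_) ?_
    · rw [eval_sub, taylor_eval, eval_add, eval_C]
      linear_combination h t y
    · refine lt_of_le_of_lt (natDegree_sub_le_of_le (natDegree_taylor g (j y)).le
        (natDegree_add_le_of_degree_le le_rfl ((natDegree_C _).le.trans (Nat.zero_le _)))) ?_
      rwa [max_self]
  have hn : m - l ≠ 0 := by omega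
  have h2 : hasseDeriv (m - l) g = C (g.coeff (m - l)) := by
    rw [← sub_eq_zero]
    refine eq_zero_of_natDegree_lt_card_of_eval_eq_zero _ hinj (fun y => ?_) ?_
    · rw [eval_sub, eval_C, ← taylor_coeff, h1, coeff_add, coeff_C, if_neg hn]
      ring
    · refine lt_of_le_of_lt (natDegree_sub_le_of_le (natDegree_hasseDeriv_le g _) (natDegree_C _).le) ?_
      have : max (g.natDegree - (m - l)) 0 ≤ g.natDegree := max_le (Nat.sub_le _ _) (Nat.zero_le _)
      omega
  have h3 := congrArg (fun f => coeff f l) h2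
  rw [hasseDeriv_coeff, coeff_C, if_neg hl0] at h3
  have h4 : l + (m - l) = m := by omega
  rw [h4, Nat.choose_symm hlm.le] at h3
  exact h3

end poly

/-! ### the second layer of the socle of the unipotent group -/

section layer

variable {E : Type u} [Field E] [Fintype E] {k : Type v} [Field k] {V : Type w} [AddCommGroup V] [Module k V]

/-- the second layer -/
def W₂ (R : SpecialLinearGroup (Fin 2) E →* Module.End k V) : Submodule k V :=
  ⨅ s : E, ⨅ t : E, LinearMap.ker ((R (U s) - 1) * (R (U t) - 1))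

theorem mem_W₂ {R : SpecialLinearGroup (Fin 2) E →* Module.End k V} {v : V} :
    v ∈ W₂ R ↔ ∀ s t : E, R (U s) (R (U t) v - v) = R (U t) v - v := by
  unfold W₂
  simp only [Submodule.mem_iInf, LinearMap.mem_ker, Module.End.mul_apply, LinearMap.sub_apply, Module.End.one_apply,
    sub_eq_zero]

end layer

section coeff

variable {E : Type u} [Field E] [Fintype E] {k : Type v} [Field k] (j : E →+* k) [CharP k 2]

open Polynomial in
/-- coefficients of the second layer -/
theorem repr_eq_zero {r : ℕ} (hr : r ≤ Fintype.card E - 1) {x : L j r}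
    (h : ∀ s t : E, act E k (U s) (act E k (U t) x - x) = act E k (U t) x - x) (m : SS 2 r) {l : ℕ}
    (hl : l ∈ SS 2 (m : ℕ)) (hl0 : l ≠ 0) (hlm : l ≠ m) : (bas j 2 hr).repr x m = 0 := by
  have := Fact.mk Nat.prime_two
  set c := (bas j 2 hr).repr x with hc
  let g : Polynomial k := ∑ m : SS 2 r, C (c m) * X ^ (m : ℕ)
  have hgd : g.natDegree ≤ r := natDegree_sum_le_of_forall_le _ _ fun m _ =>
    (natDegree_C_mul_X_pow_le _ _).trans (mem_SS.1 m.2).1
  have hcard := two_le_card (E := E)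
  have hge : ∀ y : E, g.eval (j y) = (x : E × E → k) (1, y) := by
    intro y
    have h1 := (bas j 2 hr).sum_repr x
    have h2 : (x : E × E → k) (1, y) = ∑ m : SS 2 r, c m * j y ^ (m : ℕ) := by
      conv_lhs => rw [← h1]
      rw [Submodule.coe_sum, Finset.sum_apply]
      refine Finset.sum_congr rfl fun m _ => ?_
      rw [Submodule.coe_smul, Pi.smul_apply, bas_apply, mono_apply, map_one, one_pow, one_mul, smul_eq_mul]
    rw [h2]
    change (∑ m : SS 2 r, C (c m) * X ^ (m : ℕ)).eval (j y) = _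
    rw [eval_finsetSum]
    refine Finset.sum_congr rfl fun m _ => ?_
    rw [eval_mul, eval_C, eval_pow, eval_X]
  have hadd : ∀ t y : E, g.eval (j t + j y) - g.eval (j y) = g.eval (j t) - g.eval 0 := by
    intro t y
    have h1 := congrFun (h y t) (1, 0)
    rw [act_apply, vm_U] at h1
    rw [Pi.sub_apply, Pi.sub_apply, act_apply, act_apply, vm_U, vm_U] at h1
    simp only [one_mul, add_zero] at h1
    rw [← map_add, hge, hge, hge, ← map_zero j, hge]
    rw [← h1]
  have h1 := coeff_of_additive j (g := g) (by omega) hadd hl0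
    (lt_of_le_of_ne (mem_SS.1 hl).1 hlm)
  have h2 : g.coeff (m : ℕ) = c m := by
    change (∑ m : SS 2 r, C (c m) * X ^ (m : ℕ)).coeff (m : ℕ) = _
    rw [finsetSum_coeff, Finset.sum_eq_single m]
    · rw [coeff_C_mul_X_pow, if_pos rfl]
    · intro b _ hb
      rw [coeff_C_mul_X_pow, if_neg]
      intro h
      exact hb (Subtype.ext h.symm)
    · intro h
      exact absurd (Finset.mem_univ _) h
  rw [h2, choose_eq_one hl, one_mul] at h1
  exact h1

/-- the form vanishes on the second layer -/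
theorem QL_eq_zero {r : ℕ} (hr : r ≤ Fintype.card E - 1) (h8 : (SS 2 r).card = 8) {x : L j r}
    (h : ∀ s t : E, act E k (U s) (act E k (U t) x - x) = act E k (U t) x - x) : QL j hr x = 0 := by
  obtain ⟨a, b, c, hab, hbc, hrr⟩ := SS_of_eight h8
  unfold QL
  rw [← (bas j 2 hr).sum_repr x]
  simp only [map_sum, LinearMap.sum_apply, map_smul, LinearMap.smul_apply, smul_eq_mul, Bq_bas]
  refine Finset.sum_eq_zero fun m _ => ?_
  rw [Finset.mul_sum]
  refine Finset.sum_eq_zero fun m' _ => ?_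
  by_cases hmm : m = cpl 2 r m'
  · by_cases h1 : ∃ l ∈ SS 2 (m : ℕ), l ≠ 0 ∧ l ≠ m
    · obtain ⟨l, hl, hl0, hlm⟩ := h1
      rw [repr_eq_zero j hr h m hl hl0 hlm]
      ring
    · by_cases h2 : ∃ l ∈ SS 2 (m' : ℕ), l ≠ 0 ∧ l ≠ m'
      · obtain ⟨l, hl, hl0, hlm⟩ := h2
        rw [repr_eq_zero j hr h m' hl hl0 hlm]
        ring
      · exfalso
        push Not at h1 h2
        have h3 := eq_of_no_sub fun l hl => by
          by_cases hl0 : l = 0
          · exact Or.inl hl0
          · exact Or.inr (h1 l hl hl0)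
        have h4 := eq_of_no_sub fun l hl => by
          by_cases hl0 : l = 0
          · exact Or.inl hl0
          · exact Or.inr (h2 l hl hl0)
        apply ne_of_two hab hbc h3 h4
        rw [hmm, ← hrr]
        have h5 := (mem_SS.1 m'.2).1
        change r - (m' : ℕ) + m' = r
        omega
  · rw [if_neg (fun h => hmm h.1)]
    ring

/-- the powers of two give elements of the second layer -/
theorem mono_layer {r m : ℕ} (hm : m ≤ r) (h : m = 0 ∨ ∃ e, m = 2 ^ e) (s t : E) :
    act E k (U s) (act E k (U t) (mono j (r - m) m) - mono j (r - m) m) =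
      act E k (U t) (mono j (r - m) m) - mono j (r - m) m := by
  have h1 : ∃ a : k, act E k (U t) (mono j (r - m) m) - mono j (r - m) m = a • mono j r 0 := by
    rcases h with rfl | ⟨e, rfl⟩
    · refine ⟨0, ?_⟩
      rw [Nat.sub_zero, act_U_mono, sub_self, zero_smul]
    · refine ⟨j t ^ 2 ^ e, ?_⟩
      funext v
      rw [Pi.sub_apply, Pi.smul_apply, act_apply, vm_U]
      unfold mono
      simp only
      rw [map_add, map_mul, add_pow_char_pow, mul_pow, smul_eq_mul, pow_zero, mul_one]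
      have h3 : j v.1 ^ r = j v.1 ^ (r - 2 ^ e) * j v.1 ^ 2 ^ e := by
        rw [← pow_add]
        congr 1
        omega
      rw [h3]
      ring
  obtain ⟨a, ha⟩ := h1
  rw [ha, map_smul, act_U_mono]

end coeff

/-! ### descent -/

section descent

variable {ι : Type} [Fintype ι] [DecidableEq ι] {F : Type u} [Field F] {E : Type w} [Field E] [Fintype E]
  {ρ : SpecialLinearGroup (Fin 2) E →* GL ι F} {k : Type v} [Field k] [Algebra F k]

theorem coord_lin (φ : k →ₗ[F] F) (g : SpecialLinearGroup (Fin 2) E) (v : ι → k) :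
    (fun a => φ (lin ρ (algebraMap F k) g v a)) = lin ρ (RingHom.id F) g (fun a => φ (v a)) := by
  funext a
  rw [lin_apply', lin_apply']
  simp only [Matrix.mulVec, dotProduct, map_sum, Matrix.map_apply, RingHom.id_apply]
  refine Finset.sum_congr rfl fun b _ => ?_
  rw [← Algebra.smul_def, map_smul, smul_eq_mul]

theorem coord_mem (φ : k →ₗ[F] F) {v : ι → k} (hv : v ∈ W₂ (lin ρ (algebraMap F k))) :
    (fun a => φ (v a)) ∈ W₂ (lin ρ (RingHom.id F)) := by
  rw [mem_W₂] at hv ⊢
  intro s t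
  have h1 : ∀ w : ι → k, (lin ρ (RingHom.id F) (U t) fun a => φ (w a)) - (fun a => φ (w a)) =
      fun a => φ ((lin ρ (algebraMap F k) (U t) w - w) a) := by
    intro w
    rw [← coord_lin]
    funext a
    exact (map_sub φ _ _).symm
  rw [h1, ← coord_lin, hv]

theorem mem_span_bc {W : Submodule F (ι → F)} {v : ι → k} (h : ∀ φ : k →ₗ[F] F, (fun a => φ (v a)) ∈ W) :
    v ∈ Submodule.span k (bc (algebraMap F k) '' (W : Set (ι → F))) := by
  classical
  let b := Module.Basis.ofVectorSpace F k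
  let T := Finset.univ.biUnion fun a : ι => (b.repr (v a)).support
  have h1 : v = ∑ c ∈ T, b c • bc (algebraMap F k) (fun a => b.coord c (v a)) := by
    funext a
    rw [Finset.sum_apply]
    conv_lhs => rw [← b.linearCombination_repr (v a)]
    rw [Finsupp.linearCombination_apply, Finsupp.sum_of_support_subset _ (s := T)]
    · refine Finset.sum_congr rfl fun c _ => ?_
      rw [Pi.smul_apply, smul_eq_mul, mul_comm]
      exact Algebra.smul_def _ _
    · exact Finset.subset_biUnion_of_mem (fun a : ι => (b.repr (v a)).support) (Finset.mem_univ a)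
    · intro c _
      exact zero_smul _ _
  rw [h1]
  exact Submodule.sum_mem _ fun c _ => Submodule.smul_mem _ _ (Submodule.subset_span ⟨_, h (b.coord c), rfl⟩)

theorem finrank_span_bc (W : Submodule F (ι → F)) :
    Module.finrank k (Submodule.span k (bc (algebraMap F k) '' (W : Set (ι → F)))) ≤ Module.finrank F W := by
  let B := Module.finBasis F W
  have h1 : Submodule.span k (bc (algebraMap F k) '' (W : Set (ι → F))) ≤
      Submodule.span k (Set.range fun n => bc (algebraMap F k) ((B n : W) : ι → F)) := by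
    rw [Submodule.span_le]
    rintro _ ⟨v, hv, rfl⟩
    have h2 : v = ∑ n, B.repr ⟨v, hv⟩ n • ((B n : W) : ι → F) := by
      have h3 := congrArg (Subtype.val) (B.sum_repr ⟨v, hv⟩)
      rw [Submodule.coe_sum] at h3
      exact h3.symm
    have h3 : bc (algebraMap F k) v = ∑ n, algebraMap F k (B.repr ⟨v, hv⟩ n) • bc (algebraMap F k) ((B n : W) : ι → F) := by
      conv_lhs => rw [h2]
      funext a
      rw [Finset.sum_apply]
      unfold bc
      rw [Finset.sum_apply, map_sum]
      refine Finset.sum_congr rfl fun n _ => ?_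
      rw [Pi.smul_apply, Pi.smul_apply, smul_eq_mul, smul_eq_mul, map_mul]
    rw [SetLike.mem_coe, h3]
    exact Submodule.sum_mem _ fun n _ => Submodule.smul_mem _ _ (Submodule.subset_span ⟨n, rfl⟩)
  refine (Submodule.finrank_mono h1).trans ?_
  have h2 := finrank_range_le_card (R := k) (fun n => bc (algebraMap F k) ((B n : W) : ι → F))
  rw [Fintype.card_fin] at h2
  exact h2

theorem finrank_le :
    Module.finrank k (W₂ (lin ρ (algebraMap F k))) ≤ Module.finrank F (W₂ (lin ρ (RingHom.id F))) := by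
  refine le_trans (Submodule.finrank_mono ?_) (finrank_span_bc (k := k) _)
  intro v hv
  exact mem_span_bc fun φ => coord_mem φ hv

theorem bc_mem {v : ι → F} (hv : v ∈ W₂ (lin ρ (RingHom.id F))) :
    bc (algebraMap F k) v ∈ W₂ (lin ρ (algebraMap F k)) := by
  rw [mem_W₂] at hv ⊢
  intro s t
  have h1 : ∀ (g : SpecialLinearGroup (Fin 2) E) (w : ι → F), lin ρ (RingHom.id F) g w = (ρ g : Matrix ι ι F) *ᵥ w := by
    intro g w
    rw [lin_apply']
    congr 1
  have h2 : ∀ (g : SpecialLinearGroup (Fin 2) E) (w : ι → F),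
      lin ρ (algebraMap F k) g (bc (algebraMap F k) w) = bc (algebraMap F k) (lin ρ (RingHom.id F) g w) := by
    intro g w
    rw [lin_bc, h1]
  have h3 : ∀ a b : ι → F, bc (algebraMap F k) (a - b) = bc (algebraMap F k) a - bc (algebraMap F k) b := by
    intro a b
    funext c
    exact map_sub _ _ _
  rw [h2, ← h3, h2, hv]

end descent

/-! ### the form -/

section core

variable {ι : Type} [Fintype ι] [DecidableEq ι] {F : Type u} [Field F] {E : Type w} [Field E] [Fintype E]
  {P : Subgroup (GL ι F)}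

/-- an invariant semilinear function is zero -/
theorem semi_zero (hC : Core P) {D : (ι → F) → F} (hadd : ∀ x y, D (x + y) = D x + D y)
    (hsmul : ∀ (c : F) x, D (c • x) = c ^ 2 * D x) (hinv : ∀ g ∈ P, ∀ x, D ((g : Matrix ι ι F) *ᵥ x) = D x)
    (v : ι → F) : D v = 0 := by
  have h0 : D 0 = 0 := by
    have h1 := hsmul 0 0
    rw [zero_smul] at h1
    rw [h1]
    ring
  let W : Submodule F (ι → F) :=
    { carrier := {x | D x = 0}
      add_mem' := fun {a b} ha hb => by
        change D (a + b) = 0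
        rw [hadd, ha, hb, add_zero]
      zero_mem' := h0
      smul_mem' := fun c x hx => by
        change D (c • x) = 0
        rw [hsmul, hx, mul_zero] }
  rcases hC.absIrred.1 W (by
    rintro _ ⟨g, hg, rfl⟩ _ ⟨x, hx, rfl⟩
    rw [Matrix.toLin'_apply]
    change D _ = 0
    rw [hinv g hg]
    exact hx) with h | h
  · exfalso
    have h1 : ∀ g ∈ P, g = 1 := by
      intro g hg
      apply Units.ext
      rw [Units.val_one]
      refine Matrix.mulVec_injective (funext fun x => ?_)
      have h2 : (g : Matrix ι ι F) *ᵥ x - x ∈ W := by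
        change D _ = 0
        have h3 : (g : Matrix ι ι F) *ᵥ x - x = (g : Matrix ι ι F) *ᵥ x + (-1 : F) • x := by
          rw [neg_one_smul, sub_eq_add_neg]
        have h4 : D ((g : Matrix ι ι F) *ᵥ x - x + x) = D ((g : Matrix ι ι F) *ᵥ x - x) + D x := hadd _ _
        rw [sub_add_cancel, hinv g hg] at h4
        exact (left_eq_add.1 (h4.trans (add_comm _ _)))
      rw [h] at h2
      rw [Matrix.one_mulVec]
      exact sub_eq_zero.1 ((Submodule.mem_bot F).1 h2)
    apply hC.nonabelian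
    refine ⟨⟨fun a b => ?_⟩⟩
    have h2 : Subsingleton P := ⟨fun a b => Subtype.ext ((h1 a a.2).trans (h1 b b.2).symm)⟩
    have h3 : Subsingleton (P ⧸ (scalars ι F).subgroupOf P) := (QuotientGroup.mk_surjective).subsingleton
    exact Subsingleton.elim _ _
  · have h1 : v ∈ W := by rw [h]; trivial
    exact h1

variable {θ : SpecialLinearGroup (Fin 2) E →* P} {k : Type v} [Field k] [Algebra F k] {j : E →+* k}
  {r : ℕ} {Φ : (ι → k) →ₗ[k] (E × E → k)} [CharP k 2]

/-- **Uniqueness of the invariant quadratic form.** -/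
theorem quad_unique (hC : Core P) (hθ : Function.Surjective θ)
    (hM : IsModel j (lin (P.subtype.comp θ) (algebraMap F k)) r Φ) (h4 : 4 ∣ (SS 2 r).card) {Q : (ι → F) → F}
    (hQ : IsNondegenerateQuadraticForm Q) (hPQ : FixesQuadForm (matrixSet P) Q) {v : ι → F} (hv : qq hM v = 0) :
    Q v = 0 := by
  obtain ⟨τ, h1, h2⟩ := quad_of hC hθ hM h4
  have hpol : ∀ {Q : (ι → F) → F}, FixesQuadForm (matrixSet P) Q → FixesForm (matrixSet P) (QuadraticMap.polar Q) := by
    intro Q hQ s hs u v
    unfold QuadraticMap.polar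
    rw [← Matrix.mulVec_add, hQ s hs, hQ s hs, hQ s hs]
  obtain ⟨c, hc⟩ := H920.form_unique hC.absIrred h1.polar_bilinear h1.nondegenerate (hpol h2) hQ.polar_bilinear
    (hpol hPQ)
  have h3 := semi_zero hC (D := fun x => Q x - c * τ (qq hM x)) ?_ ?_ ?_ v
  · rw [hv, map_zero, mul_zero, sub_zero] at h3
    exact h3
  · intro x y
    have h5 := hc x y
    unfold QuadraticMap.polar at h5
    linear_combination h5
  · intro a x
    have h5 := h1.smul a x
    have h6 := hQ.smul a x
    rw [h5, h6]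
    ring
  · intro g hg x
    have h5 : τ (qq hM ((g : Matrix ι ι F) *ᵥ x)) = τ (qq hM x) := h2 _ ⟨g, hg, rfl⟩ x
    have h6 : Q ((g : Matrix ι ι F) *ᵥ x) = Q x := hPQ _ ⟨g, hg, rfl⟩ x
    change Q ((g : Matrix ι ι F) *ᵥ x) - c * τ (qq hM ((g : Matrix ι ι F) *ᵥ x)) = Q x - c * τ (qq hM x)
    rw [h5, h6]

/-- four-dimensional subspaces -/
theorem exists_sub {F : Type u} [Field F] {M : Type v} [AddCommGroup M] [Module F M] [Module.Finite F M]
    (W : Submodule F M) {n : ℕ} (hn : n ≤ Module.finrank F W) :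
    ∃ W' : Submodule F M, W' ≤ W ∧ Module.finrank F W' = n := by
  let B := Module.finBasis F W
  let f : Fin n → M := fun a => ((B (Fin.castLE hn a) : W) : M)
  have h1 : LinearIndependent F f := by
    have h2 := (B.linearIndependent.comp (Fin.castLE hn) (Fin.castLE_injective hn))
    exact h2.map' W.subtype (Submodule.ker_subtype W)
  refine ⟨Submodule.span F (Set.range f), ?_, ?_⟩
  · rw [Submodule.span_le]
    rintro _ ⟨a, rfl⟩
    exact (B (Fin.castLE hn a) : W).2
  · rw [finrank_span_eq_card h1, Fintype.card_fin]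

end core

/-! ### the dimension of the second layer -/

section dim

variable {ι : Type} [Fintype ι] [DecidableEq ι] {F : Type u} [Field F] {E : Type w} [Field E] [Fintype E]
  {ρ : SpecialLinearGroup (Fin 2) E →* GL ι F} {k : Type v} [Field k] {i : F →+* k} {j : E →+* k}
  {r : ℕ} {Φ : (ι → k) →ₗ[k] (E × E → k)} [CharP k 2]

theorem mem_iff (hM : IsModel j (lin ρ i) r Φ) {v : ι → k} : v ∈ W₂ (lin ρ i) ↔
    ∀ s t : E, act E k (U s) (act E k (U t) (Φ v) - Φ v) = act E k (U t) (Φ v) - Φ v := by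
  rw [mem_W₂]
  refine forall_congr' fun s => forall_congr' fun t => ?_
  rw [← hM.act, ← map_sub, ← hM.act]
  exact hM.inj.eq_iff.symm

theorem four_le_finrank (hM : IsModel j (lin ρ i) r Φ) (h8 : (SS 2 r).card = 8) :
    4 ≤ Module.finrank k (W₂ (lin ρ i)) := by
  obtain ⟨a, b, c, hab, hbc, hrr⟩ := SS_of_eight h8
  obtain ⟨h0, ha, hb, hc⟩ := mem_three hab hbc
  rw [← hrr] at h0 ha hb hc
  have hab' : 2 ^ a < 2 ^ b := Nat.pow_lt_pow_right (by norm_num) hab
  have hbc' : 2 ^ b < 2 ^ c := Nat.pow_lt_pow_right (by norm_num) hbc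
  have ha' : 0 < 2 ^ a := pow_pos (by norm_num) a
  let f : Fin 4 → SS 2 r := ![⟨0, h0⟩, ⟨2 ^ a, ha⟩, ⟨2 ^ b, hb⟩, ⟨2 ^ c, hc⟩]
  have hf : StrictMono fun n => ((f n : SS 2 r) : ℕ) := by
    rw [Fin.strictMono_iff_lt_succ]
    intro n
    fin_cases n
    · exact ha'
    · exact hab'
    · exact hbc'
  have hinj : Function.Injective f := by
    intro x y hxy
    exact hf.injective (congrArg Subtype.val hxy)
  have hpow : ∀ n, ((f n : SS 2 r) : ℕ) = 0 ∨ ∃ e, ((f n : SS 2 r) : ℕ) = 2 ^ e := by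
    intro n
    fin_cases n
    · exact Or.inl rfl
    · exact Or.inr ⟨a, rfl⟩
    · exact Or.inr ⟨b, rfl⟩
    · exact Or.inr ⟨c, rfl⟩
  let B := (bas j 2 hM.le).map (psiK hM).symm
  have hB : ∀ m, Φ (B m) = mono j (r - m) m := by
    intro m
    rw [← psiK_coe hM]
    change ((psiK hM ((psiK hM).symm (bas j 2 hM.le m)) : L j r) : E × E → k) = _
    rw [LinearEquiv.apply_symm_apply, bas_apply]
  have hmem : ∀ n, B (f n) ∈ W₂ (lin ρ i) := by
    intro n
    rw [mem_iff hM]
    intro s t
    rw [hB]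
    exact mono_layer j (mem_SS.1 (f n).2).1 (hpow n) s t
  have hli : LinearIndependent k fun n : Fin 4 => (⟨B (f n), hmem n⟩ : W₂ (lin ρ i)) := by
    refine LinearIndependent.of_comp (W₂ (lin ρ i)).subtype ?_
    exact B.linearIndependent.comp f hinj
  have h := hli.fintype_card_le_finrank
  rwa [Fintype.card_fin] at h

end dim

section final

variable {ι : Type} [Fintype ι] [DecidableEq ι] {F : Type u} [Field F] [Fintype F] {E : Type w} [Field E] [Fintype E]
  {H P : Subgroup (GL ι F)}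

/-- **Dimension eight, characteristic two: the form is of plus type.** -/
theorem plus_two [CharP E 2] [CharP F 2] (hC : Core P) (e : Soc P ≃* ProjectiveSpecialLinearGroup (Fin 2) E)
    (hn : Fintype.card ι = 8) {Q : (ι → F) → F} (hQ : IsNondegenerateQuadraticForm Q)
    (hPQ : FixesQuadForm (matrixSet P) Q) : IsPlusTypeOn Q ⊤ := by
  have := Fact.mk Nat.prime_two
  obtain ⟨θ, hsurj, -⟩ := DefCov.exists_cover (m := 1) hC 2 (perf hC e) e
  obtain ⟨j⟩ := exists_emb F E 2
  have hk : CharP (AlgebraicClosure F) 2 := charP_of_injective_ringHom (algebraMap F (AlgebraicClosure F)).injective 2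
  obtain ⟨s, r₀, Φ, hs0, hs, hr0, hlt, hcard, hM⟩ := exists_param 2 θ hC hsurj (algebraMap F (AlgebraicClosure F)) j
  have h8 := hM.finrank 2
  rw [Module.finrank_fintype_fun_eq_card, hn] at h8
  have h1 := four_le_finrank hM h8.symm
  obtain ⟨W, hW, hW4⟩ := exists_sub _ (h1.trans finrank_le)
  refine ⟨W, le_top, ?_, ?_⟩
  · intro w hw
    refine quad_unique hC hsurj hM (by rw [← h8]; decide) hQ hPQ ?_
    have h2 := (mem_iff hM).1 (bc_mem (k := AlgebraicClosure F) (hW hw))
    unfold qq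
    exact QL_eq_zero j hM.le h8.symm h2
  · rw [hW4, finrank_top, Module.finrank_fintype_fun_eq_card, hn]

/-- **`PSL_2(E)` is not in `Ω_8^-(F)`**, defining characteristic. -/
theorem omega_minus_eight (p : ℕ) [hp : Fact p.Prime] [CharP E p] [CharP F p] {Q : (ι → F) → F}
    (hQ : IsNondegenerateQuadraticForm Q) (hminus : ¬ IsPlusTypeOn Q ⊤) (hn : Fintype.card ι = 8)
    (hH : IsMaximalIn (omegaGL Q) H) (hc : IsResidualCore H P) (e : Soc P ≃* ProjectiveSpecialLinearGroup (Fin 2) E) :
    False := by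
  by_cases h2 : (2 : F) = 0
  · have hp2 : p = 2 := by
      have h1 : ((2 : ℕ) : F) = 0 := by exact_mod_cast h2
      exact (Nat.prime_dvd_prime_iff_eq hp.out Nat.prime_two).1 ((CharP.cast_eq_zero_iff F p 2).1 h1)
    subst hp2
    refine hminus (plus_two (core_of_residual hc) e hn hQ ?_)
    rintro _ ⟨x, hx, rfl⟩ v
    exact H925.mem_iso_iff.1 (H925.omegaGL_le_iso Q (hH.1.le (hc.le hx))) v
  · exact PslRows.omega_eight p h2 hQ hn hH hc e

end final

end Cfsg.Agent.H875.TwoPlus
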