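import Cfsg.Agent.H875.SpBase

/-!
Isometries of odd order of symplectic spaces of dimension four over a field with `q` elements,
`q` even, are conjugate to their `q`-th powers (task 102 for S5791).
-/

set_option autoImplicit false

namespace Cfsg.Agent.H875.Sp4

open Module Polynomial

variable {K : Type*} [Field K] {W : Type*} [AddCommGroup W] [Module K W]

/-- An isometry of an alternating space. -/
structure Iso (f : W →ₗ[K] W →ₗ[K] K) (x : End K W) (n : ℕ) : Prop where
  alt : ∀ u, f u u = 0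
  nd : ∀ u, (∀ w, f u w = 0) → u = 0
  iso : ∀ u w, f (x u) (x w) = f u w
  pow : x ^ n = 1

variable {f : W →ₗ[K] W →ₗ[K] K} {x : End K W} {n : ℕ}

theorem Iso.skew (h : Iso f x n) (u w : W) : f u w = -f w u := by
  have := h.alt (u + w)
  simp only [map_add, LinearMap.add_apply, h.alt, zero_add, add_zero] at this
  exact eq_neg_of_add_eq_zero_right this

theorem Iso.iso_pow (h : Iso f x n) (k : ℕ) (u w : W) : f ((x ^ k) u) ((x ^ k) w) = f u w := by
  induction k with
  | zero => rfl
  | succ k ih => rw [pow_succ', Module.End.mul_apply, Module.End.mul_apply, h.iso, ih]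

theorem Iso.ext (h : Iso f x n) {u u' : W} (huu : ∀ w, f u w = f u' w) : u = u' := by
  apply sub_eq_zero.1
  apply h.nd
  intro w
  rw [map_sub, LinearMap.sub_apply, huu, sub_self]

theorem Iso.dual (h : Iso f x n) [FiniteDimensional K W] : Function.Surjective f := by
  have hinj : Function.Injective f := by
    rw [injective_iff_map_eq_zero]
    intro u hu
    exact h.nd u fun w => by rw [hu, LinearMap.zero_apply]
  have h1 : finrank K W = finrank K (W →ₗ[K] K) := (Subspace.dual_finrank_eq).symm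
  exact (LinearMap.injective_iff_surjective_of_finrank_eq_finrank h1).1 hinj

theorem aeval_pow_card [Fintype K] (p : K[X]) (k : ℕ) :
    (aeval x p) ^ (Fintype.card K ^ k) = aeval (x ^ (Fintype.card K ^ k)) p := by
  induction k with
  | zero => rw [pow_zero, pow_one, pow_one]
  | succ k ih =>
    rw [pow_succ, pow_mul, ih, ← map_pow, ← FiniteField.expand_card, expand_aeval, pow_mul]

/-- **The cyclic case.** -/
theorem Iso.cyclic [Fintype K] [CharP K 2] (h : Iso f x n) (hn : Odd n) [FiniteDimensional K W]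
    (v : W) (hv : ∀ w, ∃ p : K[X], aeval x p v = w) :
    ∃ g : End K W, (∀ u w, f (g u) (g w) = f u w) ∧
      ∀ u, g (x u) = (x ^ Fintype.card K) (g u) := by
  classical
  set q := Fintype.card K with hq
  have hq2 : ∃ a : ℕ, 1 ≤ a ∧ q = 2 ^ a := by
    obtain ⟨a, -, ha⟩ := FiniteField.card K 2
    exact ⟨a, a.2, ha⟩
  obtain ⟨a, ha1, ha⟩ := hq2
  have hn0 : 0 < n := hn.pos
  -- the exponent
  obtain ⟨Q, hQx, hQ2, hQk⟩ : ∃ Q : ℕ, x ^ Q = x ∧ (∃ m, Q = 2 * m + 2) ∧
      ∀ p : K[X], (aeval x p) ^ Q = aeval x p := by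
    have hcop : Nat.Coprime q n := by
      rw [ha]
      exact Nat.Coprime.pow_left _ (Nat.coprime_two_left.2 hn)
    have h1 := Nat.ModEq.pow_totient hcop
    have hφ : 0 < n.totient := Nat.totient_pos.2 hn0
    have hge : 1 ≤ q ^ n.totient := Nat.one_le_pow _ _ (by rw [ha]; positivity)
    have h3 : x ^ (q ^ n.totient) = x := by
      have h4 : n ∣ q ^ n.totient - 1 := (Nat.modEq_iff_dvd' hge).1 h1.symm
      obtain ⟨m, hm⟩ := h4
      have h5 : q ^ n.totient = n * m + 1 := by omega
      rw [h5, pow_succ, pow_mul, h.pow, one_pow, one_mul]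
    refine ⟨q ^ n.totient, h3, ?_, ?_⟩
    · have h5 : Even (q ^ n.totient) := by
        rw [ha, ← pow_mul]
        exact (Nat.even_pow.2 ⟨even_two, by positivity⟩)
      obtain ⟨m, hm⟩ := h5
      exact ⟨m - 1, by omega⟩
    · intro p
      rw [aeval_pow_card, ← hq, h3]
  have hcomm : ∀ p p' : K[X], ∀ w, aeval x p (aeval x p' w) = aeval x p' (aeval x p w) := by
    intro p p' w
    rw [← Module.End.mul_apply, ← Module.End.mul_apply, ← map_mul, ← map_mul, mul_comm]
  have hzero : ∀ p : K[X], aeval x p v = 0 → aeval x p = 0 := by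
    intro p hp
    apply LinearMap.ext
    intro w
    obtain ⟨p', rfl⟩ := hv w
    rw [hcomm, hp, map_zero, LinearMap.zero_apply]
  -- the intertwiner
  let ψ : K[X] →ₗ[K] W := (LinearMap.applyₗ v) ∘ₗ (aeval x).toLinearMap
  let Λ : K[X] →ₗ[K] W := (LinearMap.applyₗ v) ∘ₗ (aeval (x ^ q)).toLinearMap
  have hψ : ∀ p, ψ p = aeval x p v := fun _ => rfl
  have hΛ : ∀ p, Λ p = aeval (x ^ q) p v := fun _ => rfl
  have hψs : Function.Surjective ψ := hv
  obtain ⟨s, hs⟩ := LinearMap.exists_rightInverse_of_surjective ψ (LinearMap.range_eq_top.2 hψs)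
  have hs' : ∀ w, ψ (s w) = w := fun w => LinearMap.congr_fun hs w
  have hpq : ∀ p : K[X], aeval (x ^ q) p = (aeval x p) ^ q := by
    intro p
    have := aeval_pow_card (x := x) p 1
    rw [pow_one] at this
    exact this.symm
  have hker : ∀ p, ψ p = 0 → Λ p = 0 := by
    intro p hp
    rw [hΛ, hpq, hzero p hp, zero_pow (by rw [ha]; positivity), LinearMap.zero_apply]
  obtain ⟨G₀, hG₀⟩ : ∃ G₀ : End K W, G₀ = Λ ∘ₗ s := ⟨_, rfl⟩
  have hG : ∀ p : K[X], G₀ (aeval x p v) = aeval (x ^ q) p v := by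
    intro p
    rw [hG₀]
    change Λ (s (ψ p)) = Λ p
    rw [← sub_eq_zero, ← map_sub]
    apply hker
    rw [map_sub, hs', sub_self]
  have hGx : ∀ (p : K[X]) w, G₀ (aeval x p w) = aeval (x ^ q) p (G₀ w) := by
    intro p w
    obtain ⟨p', rfl⟩ := hv w
    have e : aeval x p (aeval x p' v) = aeval x (p * p') v := by rw [map_mul]; rfl
    rw [e, hG, hG, map_mul]
    rfl
  have hGx1 : ∀ w, G₀ (x w) = (x ^ q) (G₀ w) := by
    intro w
    have := hGx X w
    rwa [aeval_X, aeval_X] at this
  have hGinj : ∀ w, G₀ w = 0 → w = 0 := by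
    intro w hw
    obtain ⟨p, rfl⟩ := hv w
    rw [hG, hpq] at hw
    obtain ⟨m, hm⟩ := hQ2
    -- `A ^ q = 0` on `v` gives `A ^ (q * Q) = 0`
    have h1 : (aeval x p : End K W) ^ q = 0 := by
      rw [← map_pow]
      apply hzero
      rw [map_pow]; exact hw
    have h2 : (aeval x p : End K W) = 0 := by
      have h3 : ∀ k : ℕ, (aeval x p : End K W) ^ (Q ^ k) = aeval x p := by
        intro k
        induction k with
        | zero => rw [pow_zero, pow_one]
        | succ k ih => rw [pow_succ, pow_mul, ih, hQk]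
      have h4 : q ≤ Q ^ q := by
        have : q < 2 ^ q := Nat.lt_two_pow_self
        have h5 : 2 ^ q ≤ Q ^ q := Nat.pow_le_pow_left (by omega) q
        omega
      rw [← h3 q, ← Nat.sub_add_cancel h4, pow_add, h1, mul_zero]
    rw [h2, LinearMap.zero_apply]
  -- the correction
  obtain ⟨c₀, hc₀⟩ := h.dual ((f (G₀ v)) ∘ₗ G₀)
  have hc₀' : ∀ w, f c₀ w = f (G₀ v) (G₀ w) := fun w => LinearMap.congr_fun hc₀ w
  obtain ⟨pc, rfl⟩ := hv c₀
  set C := aeval x pc with hC
  have hform : ∀ u w, f (G₀ u) (G₀ w) = f (C u) w := by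
    intro u w
    -- enough for `u = x ^ i v`
    have h1 : ∀ i : ℕ, ∀ w, f (G₀ ((x ^ i) v)) (G₀ w) = f (C ((x ^ i) v)) w := by
      intro i w
      have hxi : ∃ j : ℕ, ∀ w, (x ^ i) ((x ^ j) w) = w := by
        refine ⟨(n - 1) * i, fun w => ?_⟩
        rw [← Module.End.mul_apply, ← pow_add]
        have : i + (n - 1) * i = n * i := by
          obtain ⟨k, rfl⟩ : ∃ k, n = k + 1 := ⟨n - 1, by omega⟩
          simp
          ring
        rw [this, pow_mul, h.pow, one_pow, Module.End.one_apply]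
      obtain ⟨j, hj⟩ := hxi
      have e1 : ∀ w, G₀ ((x ^ i) w) = ((x ^ q) ^ i) (G₀ w) := by
        intro w
        have := hGx (X ^ i) w
        rwa [map_pow, map_pow, aeval_X, aeval_X] at this
      have e2 : C ((x ^ i) v) = (x ^ i) (C v) := by
        have := hcomm pc (X ^ i) v
        rwa [map_pow, aeval_X] at this
      conv_lhs => rw [← hj w]
      rw [e1, e1, ← pow_mul, h.iso_pow, ← hc₀', e2]
      conv_rhs => rw [← hj w]
      rw [h.iso_pow]
    obtain ⟨p, rfl⟩ := hv u
    rw [aeval_eq_sum_range]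
    simp only [LinearMap.sum_apply, map_sum, LinearMap.smul_apply, map_smul, h1]
  have hCself : ∀ u w, f (C u) w = f u (C w) := by
    intro u w
    rw [← hform, h.skew, hform, ← h.skew]
  have hCinj : ∀ u, C u = 0 → u = 0 := by
    intro u hu
    apply hGinj
    apply h.nd
    have hsurj : Function.Surjective G₀ := by
      apply LinearMap.surjective_of_injective
      rw [injective_iff_map_eq_zero]
      exact hGinj
    intro w
    obtain ⟨w, rfl⟩ := hsurj w
    rw [hform, hu, map_zero, LinearMap.zero_apply]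
  obtain ⟨m, hm⟩ := hQ2
  have hC1 : ∀ u, C ((C ^ m) ((C ^ m) u)) = u := by
    intro u
    apply sub_eq_zero.1
    apply hCinj
    rw [map_sub, sub_eq_zero]
    have h1 : C (C ((C ^ m) ((C ^ m) u))) = (C ^ (2 * m + 2)) u := by
      rw [show 2 * m + 2 = 1 + (1 + (m + m)) by ring, pow_add, pow_add, pow_add, pow_one]
      rfl
    rw [h1, ← hm, hC, hQk]
  have hself : ∀ k : ℕ, ∀ u w, f ((C ^ k) u) w = f u ((C ^ k) w) := by
    intro k
    induction k with
    | zero => intro u w; rfl
    | succ k ih =>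
      intro u w
      rw [pow_succ, Module.End.mul_apply, ih, hCself]
      congr 1
      rw [← Module.End.mul_apply, ← pow_succ', pow_succ]
  refine ⟨G₀ ∘ₗ (C ^ m), fun u w => ?_, fun u => ?_⟩
  · rw [LinearMap.comp_apply, LinearMap.comp_apply, hform, ← hself]
    congr 2
    have h1 : (C ^ m) (C ((C ^ m) u)) = C ((C ^ m) ((C ^ m) u)) := by
      rw [← Module.End.mul_apply, ← Module.End.mul_apply, ← pow_succ, pow_succ']
      rfl
    rw [h1, hC1]
  · rw [LinearMap.comp_apply, LinearMap.comp_apply]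
    have h1 : (C ^ m) (x u) = x ((C ^ m) u) := by
      have := hcomm (pc ^ m) X u
      rwa [map_pow, aeval_X] at this
    rw [h1, hGx1]

/-- The space generated by `v`. -/
noncomputable def cyc (x : End K W) (v : W) : Submodule K W :=
  LinearMap.range ((LinearMap.applyₗ v) ∘ₗ (aeval (R := K) x).toLinearMap)

theorem mem_cyc {v w : W} : w ∈ cyc x v ↔ ∃ p : K[X], aeval x p v = w := Iff.rfl

theorem self_mem_cyc (v : W) : v ∈ cyc x v := ⟨1, by
  change aeval x (1 : K[X]) v = v
  rw [map_one]; rfl⟩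

theorem cyc_inv {v w : W} (hw : w ∈ cyc x v) : x w ∈ cyc x v := by
  obtain ⟨p, rfl⟩ := hw
  exact ⟨X * p, by
    change aeval x (X * p) v = x (aeval x p v)
    rw [map_mul, aeval_X]; rfl⟩

/-- A vector with `f v (x v) ≠ 0`. -/
theorem Iso.exists_vec [CharP K 2] (h : Iso f x n) (hn : Odd n) (hx : x ≠ 1) :
    ∃ v, f v (x v) ≠ 0 := by
  by_contra hcon
  push Not at hcon
  apply hx
  have h1 : ∀ u w, f (x u) w = f u (x w) := by
    intro u w
    have h3 := hcon (u + w)
    rw [map_add, map_add, map_add, LinearMap.add_apply, LinearMap.add_apply, hcon u, hcon w,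
      zero_add, add_zero] at h3
    rw [h.skew (x u) w]
    linear_combination -h3
  have h2 : ∀ w, (x ^ 2) w = w := by
    intro w
    have h3 : ∀ u, f (w - (x ^ 2) w) u = 0 := by
      intro u
      -- `u = x u'`
      have hu : ∃ u', x u' = u := by
        obtain ⟨k, hk⟩ := hn
        refine ⟨(x ^ (2 * k)) u, ?_⟩
        rw [← Module.End.mul_apply, ← pow_succ', ← hk, h.pow, Module.End.one_apply]
      obtain ⟨u', rfl⟩ := hu
      rw [map_sub, LinearMap.sub_apply, pow_two, Module.End.mul_apply, h.iso, sub_eq_zero, h1]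
    exact (sub_eq_zero.1 (h.nd _ h3)).symm
  obtain ⟨k, hk⟩ := hn
  have h3 : x ^ 2 = 1 := LinearMap.ext h2
  have h4 := h.pow
  rw [hk, pow_succ, pow_mul, h3, one_pow, one_mul] at h4
  exact h4

/-- Two vectors `v, x v` with `f v (x v) ≠ 0` are independent. -/
theorem Iso.two_le (h : Iso f x n) {v : W} (hv : f v (x v) ≠ 0) {Z : Submodule K W}
    (h1 : v ∈ Z) (h2 : x v ∈ Z) [FiniteDimensional K W] : 2 ≤ finrank K Z := by
  have hli : LinearIndependent K ![(⟨v, h1⟩ : Z), ⟨x v, h2⟩] := by
    rw [LinearIndependent.pair_iff]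
    intro s t hst
    have h3 : s • v + t • x v = 0 := congrArg Subtype.val hst
    constructor
    · have h4 := congrArg (fun w => f w (x v)) h3
      simp only [map_add, map_smul, LinearMap.add_apply, LinearMap.smul_apply, h.alt, smul_eq_mul,
        mul_zero, add_zero, map_zero, LinearMap.zero_apply] at h4
      exact (mul_eq_zero.1 h4).resolve_right hv
    · have h4 := congrArg (fun w => f v w) h3
      simp only [map_add, map_smul, h.alt, smul_eq_mul,
        mul_zero, zero_add, map_zero] at h4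
      exact (mul_eq_zero.1 h4).resolve_right hv
  simpa using hli.fintype_card_le_finrank

/-- Dimension two. -/
theorem Iso.dim_two [Fintype K] [CharP K 2] (h : Iso f x n) (hn : Odd n) [FiniteDimensional K W]
    (hd : finrank K W = 2) :
    ∃ g : End K W, (∀ u w, f (g u) (g w) = f u w) ∧
      ∀ u, g (x u) = (x ^ Fintype.card K) (g u) := by
  by_cases hx : x = 1
  · refine ⟨1, fun u w => rfl, fun u => ?_⟩
    rw [hx, one_pow]
  · obtain ⟨v, hv⟩ := h.exists_vec hn hx
    have h1 : cyc x v = ⊤ := by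
      apply Submodule.eq_top_of_finrank_eq
      apply le_antisymm (Submodule.finrank_le _)
      rw [hd]
      exact h.two_le hv (self_mem_cyc v) (cyc_inv (self_mem_cyc v))
    exact h.cyclic hn v fun w => by
      rw [← mem_cyc, h1]; trivial

/-- Restriction to a non-degenerate subspace. -/
theorem Iso.restrict (h : Iso f x n) {Z : Submodule K W} (hZ : ∀ z ∈ Z, x z ∈ Z)
    (hnd : ∀ z ∈ Z, (∀ w ∈ Z, f z w = 0) → z = 0) :
    Iso (f.domRestrict₁₂ Z Z) (x.restrict hZ) n where
  alt := fun u => h.alt _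
  nd := fun u hu => Subtype.ext (hnd u u.2 fun w hw => hu ⟨w, hw⟩)
  iso := fun u w => h.iso _ _
  pow := by
    apply LinearMap.ext
    intro z
    apply Subtype.ext
    rw [Module.End.pow_restrict]
    change (x ^ n) z = z
    rw [h.pow]; rfl

/-- Glueing. -/
theorem Iso.glue [Fintype K] [CharP K 2] (h : Iso f x n) (hn : Odd n) [FiniteDimensional K W]
    (hd : finrank K W = 4) {Z : Submodule K W} (hZ : ∀ z ∈ Z, x z ∈ Z)
    (hnd : ∀ z ∈ Z, (∀ w ∈ Z, f z w = 0) → z = 0) (hZ2 : finrank K Z = 2) :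
    ∃ g : End K W, (∀ u w, f (g u) (g w) = f u w) ∧
      ∀ u, g (x u) = (x ^ Fintype.card K) (g u) := by
  classical
  -- the orthogonal complement
  let Z' : Submodule K W :=
    { carrier := {w | ∀ z ∈ Z, f w z = 0}
      zero_mem' := fun z _ => by rw [map_zero, LinearMap.zero_apply]
      add_mem' := fun {a b} ha hb z hz => by
        rw [map_add, LinearMap.add_apply, ha z hz, hb z hz, add_zero]
      smul_mem' := fun c a ha z hz => by
        rw [map_smul, LinearMap.smul_apply, ha z hz, smul_zero] }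
  have hdisj : Disjoint Z Z' := by
    rw [Submodule.disjoint_def]
    intro z hz hz'
    exact hnd z hz fun w hw => hz' w hw
  have hZ'4 : 2 ≤ finrank K Z' := by
    let L : W →ₗ[K] (Z →ₗ[K] K) := (f.domRestrict₁₂ ⊤ Z) ∘ₗ (Submodule.topEquiv.symm.toLinearMap)
    have hker : LinearMap.ker L ≤ Z' := by
      intro w hw z hz
      exact LinearMap.congr_fun (LinearMap.mem_ker.1 hw) ⟨z, hz⟩
    have h1 := L.finrank_range_add_finrank_ker
    have h2 : finrank K (LinearMap.range L) ≤ 2 := by
      refine (Submodule.finrank_le _).trans ?_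
      rw [← hZ2]
      exact (Subspace.dual_finrank_eq (K := K) (V := Z)).le
    have h3 := Submodule.finrank_mono hker
    omega
  have hcompl : IsCompl Z Z' := by
    refine ⟨hdisj, ?_⟩
    rw [codisjoint_iff]
    apply Submodule.eq_top_of_finrank_eq
    have h1 := Submodule.finrank_sup_add_finrank_inf_eq Z Z'
    rw [disjoint_iff.1 hdisj, finrank_bot] at h1
    have h2 := Submodule.finrank_le (Z ⊔ Z')
    omega
  have hZ'2 : finrank K Z' = 2 := by
    have h1 := Submodule.finrank_sup_add_finrank_inf_eq Z Z'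
    rw [disjoint_iff.1 hdisj, finrank_bot, codisjoint_iff.1 hcompl.codisjoint, finrank_top] at h1
    omega
  have hsum : ∀ w : W, ∃ z ∈ Z, ∃ z' ∈ Z', w = z + z' := by
    intro w
    have : w ∈ Z ⊔ Z' := by rw [codisjoint_iff.1 hcompl.codisjoint]; trivial
    obtain ⟨z, hz, z', hz', rfl⟩ := Submodule.mem_sup.1 this
    exact ⟨z, hz, z', hz', rfl⟩
  have hZ' : ∀ z ∈ Z', x z ∈ Z' := by
    intro w hw z hz
    -- `z = x z₁`
    obtain ⟨k, hk⟩ := hn
    have hpow : ∀ k : ℕ, (x ^ k) z ∈ Z := by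
      intro k
      induction k with
      | zero => exact hz
      | succ k ih => rw [pow_succ', Module.End.mul_apply]; exact hZ _ ih
    have e : x ((x ^ (2 * k)) z) = z := by
      rw [← Module.End.mul_apply, ← pow_succ', ← hk, h.pow, Module.End.one_apply]
    rw [← e, h.iso]
    exact hw _ (hpow _)
  have hnd' : ∀ z ∈ Z', (∀ w ∈ Z', f z w = 0) → z = 0 := by
    intro z hz hz0
    apply h.nd
    intro w
    obtain ⟨a, ha, b, hb, rfl⟩ := hsum w
    rw [map_add, hz a ha, hz0 b hb, add_zero]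
  obtain ⟨g, hg, hgx⟩ := (h.restrict hZ hnd).dim_two hn hZ2
  obtain ⟨g', hg', hgx'⟩ := (h.restrict hZ' hnd').dim_two hn hZ'2
  let G : End K W := LinearMap.ofIsCompl hcompl (Z.subtype ∘ₗ g) (Z'.subtype ∘ₗ g')
  have hGl : ∀ z : Z, G z = g z := fun z => LinearMap.ofIsCompl_apply_left hcompl z
  have hGr : ∀ z : Z', G z = g' z := fun z => LinearMap.ofIsCompl_apply_right hcompl z
  have horth : ∀ (z : Z) (z' : Z'), f z z' = 0 := by
    intro z z'
    rw [h.skew, z'.2 z z.2, neg_zero]
  refine ⟨G, fun u w => ?_, fun u => ?_⟩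
  · obtain ⟨a, ha, b, hb, rfl⟩ := hsum u
    obtain ⟨c, hc, d, hd', rfl⟩ := hsum w
    have e1 : G (a + b) = g ⟨a, ha⟩ + g' ⟨b, hb⟩ := by
      rw [map_add, hGl ⟨a, ha⟩, hGr ⟨b, hb⟩]
    have e2 : G (c + d) = g ⟨c, hc⟩ + g' ⟨d, hd'⟩ := by
      rw [map_add, hGl ⟨c, hc⟩, hGr ⟨d, hd'⟩]
    rw [e1, e2]
    simp only [map_add, LinearMap.add_apply]
    have e3 : f (g ⟨a, ha⟩) (g ⟨c, hc⟩) = f a c := hg ⟨a, ha⟩ ⟨c, hc⟩
    have e4 : f (g' ⟨b, hb⟩) (g' ⟨d, hd'⟩) = f b d := hg' ⟨b, hb⟩ ⟨d, hd'⟩
    have e5 : f b c = 0 := hb c hc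
    have e6 : f a d = 0 := horth ⟨a, ha⟩ ⟨d, hd'⟩
    have e7 : f (g' ⟨b, hb⟩) (g ⟨c, hc⟩) = 0 := (g' ⟨b, hb⟩).2 _ (g ⟨c, hc⟩).2
    rw [e3, e4, e5, e6, e7, horth]
  · obtain ⟨a, ha, b, hb, rfl⟩ := hsum u
    have e1 : G (a + b) = g ⟨a, ha⟩ + g' ⟨b, hb⟩ := by
      rw [map_add, hGl ⟨a, ha⟩, hGr ⟨b, hb⟩]
    have e2 : G (x (a + b)) = g ⟨x a, hZ a ha⟩ + g' ⟨x b, hZ' b hb⟩ := by
      rw [map_add, map_add, hGl ⟨x a, hZ a ha⟩, hGr ⟨x b, hZ' b hb⟩]
    have e3 := congrArg Subtype.val (hgx ⟨a, ha⟩)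
    have e4 := congrArg Subtype.val (hgx' ⟨b, hb⟩)
    rw [Module.End.pow_restrict] at e3 e4
    rw [e1, e2, map_add]
    exact congrArg₂ (· + ·) e3 e4

/-- **Dimension four.** -/
theorem Iso.dim_four [Fintype K] [CharP K 2] (h : Iso f x n) (hn : Odd n)
    [FiniteDimensional K W] (hd : finrank K W = 4) :
    ∃ g : End K W, (∀ u w, f (g u) (g w) = f u w) ∧
      ∀ u, g (x u) = (x ^ Fintype.card K) (g u) := by
  classical
  by_cases hx : x = 1
  · refine ⟨1, fun u w => rfl, fun u => ?_⟩
    rw [hx, one_pow]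
  by_cases heig : ∃ u, u ≠ 0 ∧ ∃ a : K, x u = a • u
  · obtain ⟨u, hu, a, ha⟩ := heig
    -- the dual eigenvector
    obtain ⟨w₀, hw₀⟩ : ∃ w₀, f u w₀ ≠ 0 := by
      by_contra hcon
      push Not at hcon
      exact hu (h.nd u hcon)
    have hxu : ∀ i : ℕ, (x ^ i) u = a ^ i • u := by
      intro i
      induction i with
      | zero => simp
      | succ i ih => rw [pow_succ', Module.End.mul_apply, ih, map_smul, ha, smul_smul, pow_succ]
    have han : a ^ n = 1 := by
      have h1 := hxu n
      rw [h.pow, Module.End.one_apply] at h1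
      have h2 : (a ^ n - 1) • u = 0 := by rw [sub_smul, one_smul, ← h1, sub_self]
      exact sub_eq_zero.1 ((smul_eq_zero.1 h2).resolve_right hu)
    have ha0 : a ≠ 0 := by
      rintro rfl
      rw [zero_pow hn.pos.ne'] at han
      exact zero_ne_one han
    set w := ∑ i ∈ Finset.range n, a ^ i • (x ^ i) w₀ with hw
    have hfw : f u w = f u w₀ := by
      rw [hw, map_sum]
      have h1 : ∀ i ∈ Finset.range n, f u (a ^ i • (x ^ i) w₀) = f u w₀ := by
        intro i _
        rw [map_smul]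
        have h2 := h.iso_pow i u w₀
        rw [hxu, map_smul, LinearMap.smul_apply] at h2
        exact h2
      rw [Finset.sum_congr rfl h1, Finset.sum_const, Finset.card_range]
      obtain ⟨k, hk⟩ := hn
      rw [hk, add_smul, mul_smul, one_smul, two_smul, CharTwo.add_self_eq_zero, zero_add]
    have hxw : x w = a⁻¹ • w := by
      have h1 : a • x w = w := by
        rw [hw, map_sum, Finset.smul_sum]
        have h2 : ∀ i ∈ Finset.range n, a • x (a ^ i • (x ^ i) w₀) =
            (fun i => a ^ i • (x ^ i) w₀) (i + 1) := by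
          intro i _
          change _ = a ^ (i + 1) • (x ^ (i + 1)) w₀
          rw [map_smul, smul_smul, pow_succ', pow_succ', Module.End.mul_apply]
        rw [Finset.sum_congr rfl h2]
        have h3 := Finset.sum_range_succ' (fun i => a ^ i • (x ^ i) w₀) n
        rw [Finset.sum_range_succ] at h3
        simp only [h.pow, han, pow_zero, Module.End.one_apply, one_smul] at h3
        exact (add_right_cancel h3).symm
      rw [← h1, smul_smul, inv_mul_cancel₀ ha0, one_smul, h1]
    have hfw0 : f u w ≠ 0 := by rw [hfw]; exact hw₀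
    -- the plane
    refine h.glue hn hd (Z := Submodule.span K {u, w}) ?_ ?_ ?_
    · intro z hz
      rw [Submodule.mem_span_pair] at hz ⊢
      obtain ⟨s, t, rfl⟩ := hz
      refine ⟨s * a, t * a⁻¹, ?_⟩
      rw [map_add, map_smul, map_smul, ha, hxw, smul_smul, smul_smul]
    · intro z hz hz0
      rw [Submodule.mem_span_pair] at hz
      obtain ⟨s, t, rfl⟩ := hz
      have h1 := hz0 w (Submodule.subset_span (by simp))
      have h2 := hz0 u (Submodule.subset_span (by simp))
      simp only [map_add, map_smul, LinearMap.add_apply, LinearMap.smul_apply, h.alt, smul_eq_mul,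
        mul_zero, add_zero, zero_add] at h1 h2
      rw [h.skew w u] at h2
      rw [(mul_eq_zero.1 h1).resolve_right hfw0,
        (mul_eq_zero.1 h2).resolve_right (neg_ne_zero.2 hfw0), zero_smul, zero_smul, add_zero]
    · have hli : LinearIndependent K ![u, w] := by
        rw [LinearIndependent.pair_iff]
        intro s t hst
        constructor
        · have h4 := congrArg (fun z => f z w) hst
          simp only [map_add, map_smul, LinearMap.add_apply, LinearMap.smul_apply, h.alt,
            smul_eq_mul, mul_zero, add_zero, map_zero, LinearMap.zero_apply] at h4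
          exact (mul_eq_zero.1 h4).resolve_right hfw0
        · have h4 := congrArg (fun z => f u z) hst
          simp only [map_add, map_smul, h.alt, smul_eq_mul,
            mul_zero, zero_add, map_zero] at h4
          exact (mul_eq_zero.1 h4).resolve_right hfw0
      have := finrank_span_eq_card hli
      rw [Matrix.range_cons, Matrix.range_cons, Matrix.range_empty, Set.union_empty,
        Set.singleton_union, Fintype.card_fin] at this
      exact this
  · push Not at heig
    obtain ⟨v, hv⟩ := h.exists_vec hn hx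
    have h2 := h.two_le hv (self_mem_cyc v) (cyc_inv (self_mem_cyc v))
    have h4 := Submodule.finrank_le (cyc x v)
    rw [hd] at h4
    have hcases : finrank K (cyc x v) = 2 ∨ finrank K (cyc x v) = 3 ∨ finrank K (cyc x v) = 4 := by
      omega
    rcases hcases with h5 | h5 | h5
    · refine h.glue hn hd (Z := cyc x v) (fun z hz => cyc_inv hz) ?_ h5
      intro z hz hz0
      -- the plane is spanned by `v, x v`
      have hspan : Submodule.span K {v, x v} = cyc x v := by
        apply Submodule.eq_of_le_of_finrank_le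
        · rw [Submodule.span_le]
          intro y hy
          rcases hy with rfl | rfl
          · exact self_mem_cyc _
          · exact cyc_inv (self_mem_cyc _)
        · rw [h5]
          exact h.two_le hv (Submodule.subset_span (by simp)) (Submodule.subset_span (by simp))
      rw [← hspan, Submodule.mem_span_pair] at hz
      obtain ⟨s, t, rfl⟩ := hz
      have h6 := hz0 (x v) (cyc_inv (self_mem_cyc v))
      have h7 := hz0 v (self_mem_cyc v)
      simp only [map_add, map_smul, LinearMap.add_apply, LinearMap.smul_apply, h.alt, smul_eq_mul,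
        mul_zero, add_zero, zero_add] at h6 h7
      rw [h.skew (x v) v] at h7
      rw [(mul_eq_zero.1 h6).resolve_right hv,
        (mul_eq_zero.1 h7).resolve_right (neg_ne_zero.2 hv), zero_smul, zero_smul, add_zero]
    · -- the orthogonal complement is an invariant line
      exfalso
      let L : W →ₗ[K] (cyc x v →ₗ[K] K) :=
        (f.domRestrict₁₂ ⊤ (cyc x v)) ∘ₗ (Submodule.topEquiv.symm.toLinearMap)
      have hL : ∀ w, w ∈ LinearMap.ker L ↔ ∀ z ∈ cyc x v, f w z = 0 := by
        intro w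
        constructor
        · intro hw z hz
          exact LinearMap.congr_fun (LinearMap.mem_ker.1 hw) ⟨z, hz⟩
        · intro hw
          rw [LinearMap.mem_ker]
          apply LinearMap.ext
          intro z
          exact hw z z.2
      have hLs : Function.Surjective L := by
        intro φ
        obtain ⟨φ', hφ'⟩ := φ.exists_extend
        obtain ⟨u, hu⟩ := h.dual φ'
        refine ⟨u, ?_⟩
        rw [← hφ', ← hu]
        rfl
      have h1 := L.finrank_range_add_finrank_ker
      rw [LinearMap.range_eq_top.2 hLs, finrank_top, Subspace.dual_finrank_eq, h5, hd] at h1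
      have h6 : finrank K (LinearMap.ker L) = 1 := by omega
      obtain ⟨⟨u, hu⟩, hu0, huspan⟩ := finrank_eq_one_iff'.1 h6
      have hu0' : u ≠ 0 := fun h0 => hu0 (Subtype.ext h0)
      have hxu : x u ∈ LinearMap.ker L := by
        rw [hL] at hu ⊢
        intro z hz
        obtain ⟨k, hk⟩ := hn
        have hpow : ∀ k : ℕ, (x ^ k) z ∈ cyc x v := by
          intro k
          induction k with
          | zero => exact hz
          | succ k ih => rw [pow_succ', Module.End.mul_apply]; exact cyc_inv ih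
        have e : x ((x ^ (2 * k)) z) = z := by
          rw [← Module.End.mul_apply, ← pow_succ', ← hk, h.pow, Module.End.one_apply]
        rw [← e, h.iso]
        exact hu _ (hpow _)
      obtain ⟨c, hc⟩ := huspan ⟨x u, hxu⟩
      exact heig u hu0' c (congrArg Subtype.val hc).symm
    · have h6 : cyc x v = ⊤ := by
        apply Submodule.eq_top_of_finrank_eq
        rw [h5, hd]
      exact h.cyclic hn v fun w => by
        rw [← mem_cyc, h6]; trivial

open Cfsg Cfsg.Agent.ClassicalGeometry.SympBasic Cfsg.Agent.ClassicalGeometry.SympSiegel in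
/-- **Task 102.** -/
theorem sp4_conj {K : Type*} [Field K] [Finite K] [CharP K 2] (x : Cfsg.spGL 2 K)
    (hx : Odd (orderOf x)) : IsConj x (x ^ Nat.card K) := by
  classical
  have := Fintype.ofFinite K
  let X : End K (Fin 2 ⊕ Fin 2 → K) := Matrix.toLin' ((x : GL (Fin 2 ⊕ Fin 2) K) :
    Matrix (Fin 2 ⊕ Fin 2) (Fin 2 ⊕ Fin 2) K)
  have hXv : ∀ v, X v = Matrix.mulVec ((x : GL (Fin 2 ⊕ Fin 2) K) :
    Matrix (Fin 2 ⊕ Fin 2) (Fin 2 ⊕ Fin 2) K) v := fun v => Matrix.toLin'_apply _ v
  have hXp : ∀ (k : ℕ) v, (X ^ k) v = Matrix.mulVec (((x ^ k : Cfsg.spGL 2 K) :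
      GL (Fin 2 ⊕ Fin 2) K) : Matrix (Fin 2 ⊕ Fin 2) (Fin 2 ⊕ Fin 2) K) v := by
    intro k v
    induction k with
    | zero => simp
    | succ k ih =>
      rw [pow_succ', Module.End.mul_apply, ih, hXv, Matrix.mulVec_mulVec, pow_succ']
      rfl
  have h : Iso (sympBilin 2 K) X (orderOf x) :=
    { alt := fun u => sympForm_self u
      nd := fun u hu => eq_zero_of_forall_sympForm_right hu
      iso := fun u w => by
        rw [hXv, hXv]
        exact x.2 u w
      pow := by
        apply LinearMap.ext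
        intro v
        rw [hXp, pow_orderOf_eq_one]
        simp }
  obtain ⟨g, hg, hgx⟩ := h.dim_four hx (by
    rw [Module.finrank_fintype_fun_eq_card, Fintype.card_sum, Fintype.card_fin])
  have hgf : ∀ u v, sympForm 2 K (g u) (g v) = sympForm 2 K u v := hg
  let c : Cfsg.spGL 2 K := ⟨toGL 2 K (ofIso g hgf), toGL_mem_spGL _⟩
  have hc : ∀ v, Matrix.mulVec ((c : GL (Fin 2 ⊕ Fin 2) K) :
      Matrix (Fin 2 ⊕ Fin 2) (Fin 2 ⊕ Fin 2) K) v = g v := by
    intro v
    change Matrix.mulVec (toGL 2 K (ofIso g hgf) : Matrix _ _ K) v = g v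
    rw [toGL_mulVec, ofIso_smul]
  rw [isConj_iff]
  refine ⟨c, ?_⟩
  rw [mul_inv_eq_iff_eq_mul]
  apply Subtype.ext
  apply Units.ext
  have key : ∀ v, Matrix.mulVec (((c * x : Cfsg.spGL 2 K) : GL (Fin 2 ⊕ Fin 2) K) :
      Matrix (Fin 2 ⊕ Fin 2) (Fin 2 ⊕ Fin 2) K) v =
      Matrix.mulVec (((x ^ Nat.card K * c : Cfsg.spGL 2 K) : GL (Fin 2 ⊕ Fin 2) K) :
      Matrix (Fin 2 ⊕ Fin 2) (Fin 2 ⊕ Fin 2) K) v := by
    intro v
    have e1 : (((c * x : Cfsg.spGL 2 K) : GL (Fin 2 ⊕ Fin 2) K) :
      Matrix (Fin 2 ⊕ Fin 2) (Fin 2 ⊕ Fin 2) K) =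
      ((c : GL (Fin 2 ⊕ Fin 2) K) : Matrix (Fin 2 ⊕ Fin 2) (Fin 2 ⊕ Fin 2) K) *
      ((x : GL (Fin 2 ⊕ Fin 2) K) : Matrix (Fin 2 ⊕ Fin 2) (Fin 2 ⊕ Fin 2) K) := rfl
    have e2 : (((x ^ Nat.card K * c : Cfsg.spGL 2 K) : GL (Fin 2 ⊕ Fin 2) K) :
      Matrix (Fin 2 ⊕ Fin 2) (Fin 2 ⊕ Fin 2) K) =
      (((x ^ Nat.card K : Cfsg.spGL 2 K) : GL (Fin 2 ⊕ Fin 2) K) :
        Matrix (Fin 2 ⊕ Fin 2) (Fin 2 ⊕ Fin 2) K) *
      ((c : GL (Fin 2 ⊕ Fin 2) K) : Matrix (Fin 2 ⊕ Fin 2) (Fin 2 ⊕ Fin 2) K) := rfl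
    rw [e1, e2, ← Matrix.mulVec_mulVec, ← Matrix.mulVec_mulVec, hc, hc, ← hXv, hgx, ← hXp,
      Nat.card_eq_fintype_card]
  exact Matrix.mulVec_injective (funext key)

end Cfsg.Agent.H875.Sp4
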