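import Cfsg.Agent.H875.FnMono

/-!
# Models of `SL_2(E)`-modules: weights, uniqueness, isomorphism (helper875)

`IsModel j R r Φ` : `Φ : V → (E × E → k)` is an equivariant isomorphism onto `L j r`, `1 ≤ r ≤ q - 1`.
-/

set_option autoImplicit false
set_option linter.unusedSectionVars false
set_option linter.unusedSimpArgs false

namespace Cfsg.Agent.H875.Fn

open Matrix Cfsg.Agent.H911.SLTwo

universe u v w x

section

variable {E : Type u} [Field E] [Fintype E] {k : Type v} [Field k] (j : E →+* k)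
  {V : Type w} [AddCommGroup V] [Module k V] (R : SpecialLinearGroup (Fin 2) E →* Module.End k V)

/-- an isomorphism with `L j r` -/
structure IsModel (r : ℕ) (Φ : V →ₗ[k] (E × E → k)) : Prop where
  ne_zero : r ≠ 0
  le : r ≤ Fintype.card E - 1
  inj : Function.Injective Φ
  act : ∀ g v, Φ (R g v) = Fn.act E k g (Φ v)
  range : LinearMap.range Φ = L j r

/-- **Existence.** -/
theorem exists_isModel [Nontrivial V] (p : ℕ) [hp : Fact p.Prime] [CharP E p] [CharP k p]
    (hirr : ∀ N : Submodule k V, (∀ g, N ≤ N.comap (R g)) → N = ⊥ ∨ N = ⊤)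
    (hfix : ∀ v : V, (∀ g, R g v = v) → v = 0) : ∃ r Φ, IsModel j R r Φ := by
  obtain ⟨r, Φ, h1, h2, h3, h4, h5⟩ := exists_model j R p hirr hfix
  exact ⟨r, Φ, h1, h2, h3, h4, h5⟩

variable {j R}

theorem act_U_mono (t : E) (r : ℕ) : act E k (U t) (mono j r 0) = mono j r 0 := by
  funext v
  rw [act_apply, vm_U]
  unfold mono
  simp

theorem act_hh_mono (s : Eˣ) (r : ℕ) : act E k (hh s) (mono j r 0) = (j (s : E) ^ r) • mono j r 0 := by
  funext v
  rw [act_apply, Pi.smul_apply, smul_eq_mul]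
  unfold mono vm
  rw [hh00, hh10]
  simp [mul_pow, mul_comm]

namespace IsModel

variable {r : ℕ} {Φ : V →ₗ[k] (E × E → k)}

theorem exists_vec (h : IsModel j R r Φ) {f : E × E → k} (hf : f ∈ L j r) : ∃ v, Φ v = f := by
  rw [← h.range] at hf
  exact hf

theorem mem (h : IsModel j R r Φ) (v : V) : Φ v ∈ L j r := by
  rw [← h.range]
  exact ⟨v, rfl⟩

theorem exists_top (h : IsModel j R r Φ) : ∃ v, Φ v = mono j r 0 := by
  apply h.exists_vec
  rw [← pw_one_zero]
  exact Submodule.subset_span ⟨_, rfl⟩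

theorem mono_ne_zero (r : ℕ) : mono j r 0 ≠ 0 := by
  intro h
  have h1 := congrFun h (1, 0)
  rw [mono_apply] at h1
  simp at h1

/-- the highest weight vector -/
theorem exists_hw (h : IsModel j R r Φ) : ∃ v : V, v ≠ 0 ∧ Φ v = mono j r 0 ∧ (∀ t, R (U t) v = v) ∧
    (∀ s : Eˣ, R (hh s) v = (j (s : E) ^ r) • v) ∧ ∀ v' : V, (∀ t, R (U t) v' = v') → ∃ a : k, v' = a • v := by
  obtain ⟨v, hv⟩ := h.exists_top
  refine ⟨v, ?_, hv, ?_, ?_, ?_⟩
  · rintro rfl
    rw [map_zero] at hv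
    exact mono_ne_zero r hv.symm
  · intro t
    apply h.inj
    rw [h.act, hv, act_U_mono]
  · intro s
    apply h.inj
    rw [h.act, hv, act_hh_mono, map_smul, hv]
  · intro v' hv'
    obtain ⟨a, ha⟩ := eq_smul_of_fixed j h.le (h.mem v') (fun t => by rw [← h.act, hv'])
    refine ⟨a, h.inj ?_⟩
    rw [ha, map_smul, hv]

theorem pow_eq_of (q : ℕ) (hq : Fintype.card E = q) {r r' : ℕ} (hr : r ≠ 0) (hr' : r' ≠ 0) (hle : r ≤ q - 1)
    (hle' : r' ≤ q - 1) (h : ∀ s : Eˣ, j (s : E) ^ r = j (s : E) ^ r') : r = r' := by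
  classical
  obtain ⟨g, hg⟩ := IsCyclic.exists_generator (α := Eˣ)
  have ho : orderOf g = q - 1 := by
    rw [orderOf_eq_card_of_forall_mem_zpowers hg, Nat.card_eq_fintype_card, Fintype.card_units, hq]
  have h1 : g ^ r = g ^ r' := by
    have h2 := h g
    rw [← map_pow, ← map_pow] at h2
    have h3 := j.injective h2
    rw [← Units.val_pow_eq_pow_val, ← Units.val_pow_eq_pow_val] at h3
    exact Units.ext h3
  rw [pow_eq_pow_iff_modEq, ho] at h1
  have hq0 : 0 < q - 1 := by
    have := two_le_card (E := E)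
    omega
  rcases Nat.lt_or_ge r (q - 1) with hlt | hge
  · rcases Nat.lt_or_ge r' (q - 1) with hlt' | hge'
    · exact Nat.ModEq.eq_of_lt_of_lt h1 hlt hlt'
    · exfalso
      have h2 : r' = q - 1 := le_antisymm hle' hge'
      have h3 : r ≡ 0 [MOD (q - 1)] := h1.trans (by rw [h2]; exact (Nat.modEq_zero_iff_dvd.2 (dvd_refl _)))
      exact hr (Nat.ModEq.eq_of_lt_of_lt h3 hlt hq0)
  · have h2 : r = q - 1 := le_antisymm hle hge
    rcases Nat.lt_or_ge r' (q - 1) with hlt' | hge'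
    · exfalso
      have h3 : r' ≡ 0 [MOD (q - 1)] := h1.symm.trans (by rw [h2]; exact (Nat.modEq_zero_iff_dvd.2 (dvd_refl _)))
      exact hr' (Nat.ModEq.eq_of_lt_of_lt h3 hlt' hq0)
    · omega

/-- **Uniqueness from the weight.** `v'` a non-zero `U`-fixed vector with weight `j (s) ^ r'`. -/
theorem eq_of_weight (h : IsModel j R r Φ) {r' : ℕ} (hr' : r' ≠ 0) (hle' : r' ≤ Fintype.card E - 1) {v' : V}
    (h0 : v' ≠ 0) (hU : ∀ t, R (U t) v' = v') (hw : ∀ s : Eˣ, R (hh s) v' = (j (s : E) ^ r') • v') : r = r' := by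
  obtain ⟨v, -, -, -, h4, h5⟩ := h.exists_hw
  obtain ⟨a, rfl⟩ := h5 v' hU
  refine pow_eq_of (j := j) _ rfl h.ne_zero hr' h.le hle' fun s => ?_
  have h6 := hw s
  rw [map_smul, h4, smul_comm] at h6
  exact smul_left_injective k h0 h6

/-- isomorphic modules -/
theorem exists_iso (h : IsModel j R r Φ) {V' : Type x} [AddCommGroup V'] [Module k V']
    {R' : SpecialLinearGroup (Fin 2) E →* Module.End k V'} {Φ' : V' →ₗ[k] (E × E → k)} (h' : IsModel j R' r Φ') :
    ∃ θ : V ≃ₗ[k] V', (∀ g v, θ (R g v) = R' g (θ v)) ∧ ∀ v, Φ' (θ v) = Φ v := by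
  let e : V ≃ₗ[k] LinearMap.range Φ := LinearEquiv.ofInjective Φ h.inj
  let e' : V' ≃ₗ[k] LinearMap.range Φ' := LinearEquiv.ofInjective Φ' h'.inj
  let f : LinearMap.range Φ ≃ₗ[k] LinearMap.range Φ' := LinearEquiv.ofEq _ _ (by rw [h.range, h'.range])
  have key : ∀ v, Φ' ((e.trans (f.trans e'.symm)) v) = Φ v := by
    intro v
    have h1 : e' ((e.trans (f.trans e'.symm)) v) = f (e v) := by simp
    exact congrArg Subtype.val h1
  refine ⟨e.trans (f.trans e'.symm), ?_, key⟩
  intro g v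
  apply h'.inj
  rw [key, h'.act, key, h.act]

theorem trace_eq (h : IsModel j R r Φ) {V' : Type x} [AddCommGroup V'] [Module k V']
    {R' : SpecialLinearGroup (Fin 2) E →* Module.End k V'} {Φ' : V' →ₗ[k] (E × E → k)} (h' : IsModel j R' r Φ')
    (g : SpecialLinearGroup (Fin 2) E) : LinearMap.trace k V (R g) = LinearMap.trace k V' (R' g) := by
  obtain ⟨θ, hθ, -⟩ := h.exists_iso h'
  rw [← LinearMap.trace_conj' (R g) θ]
  congr 1
  ext v
  change θ (R g (θ.symm v)) = R' g v
  rw [hθ, LinearEquiv.apply_symm_apply]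

theorem finrank (h : IsModel j R r Φ) (p : ℕ) [hp : Fact p.Prime] [CharP k p] :
    Module.finrank k V = (SS p r).card := by
  rw [← finrank_L j p h.le, ← h.range]
  exact (LinearEquiv.ofInjective Φ h.inj).finrank_eq

/-- the lower unipotent translates of the highest weight vector generate -/
theorem span_Lo (h : IsModel j R r Φ) (p : ℕ) [hp : Fact p.Prime] [CharP k p] {v : V} (hv : Φ v = mono j r 0) :
    Submodule.span k (Set.range fun t : E => R (Lo t) v) = ⊤ := by
  have h1 : (Submodule.span k (Set.range fun t : E => R (Lo t) v)).map Φ = L j r := by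
    apply le_antisymm
    · rw [← h.range]
      exact LinearMap.map_le_range
    · rw [L_eq_span j p h.le, Submodule.span_le]
      rintro _ ⟨m, hm, rfl⟩
      refine mono_mem_span_Lo j p h.le (fun t => ?_) hm
      refine ⟨R (Lo t) v, Submodule.subset_span ⟨t, rfl⟩, ?_⟩
      rw [h.act, hv, pw_one_zero]
  rw [eq_top_iff]
  intro w _
  have h2 : Φ w ∈ (Submodule.span k (Set.range fun t : E => R (Lo t) v)).map Φ := by
    rw [h1]
    exact h.mem w
  obtain ⟨w', hw', hww⟩ := h2
  rw [← h.inj hww]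
  exact hw'

end IsModel

end

end Cfsg.Agent.H875.Fn
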