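import Cfsg.Agent.H949.GoodAlt
import Cfsg.Agent.H671.H5Facts
import Cfsg.Agent.S0253
import Cfsg.Agent.S0254
import Cfsg.Prelude.Def_LieTypeChar

/-!
# Hub H5: two characters of coprime degrees of the alternating groups, extending to the automorphism group
-/

set_option autoImplicit false

namespace Cfsg.Agent.H875.AltCop

open Cfsg Cfsg.Agent.H949.GoodAlt Cfsg.Agent.H614 Equiv

universe u v

theorem exists_of_dt {n : ℕ} (hn : 7 ≤ n) {m : ℕ} {β : Fin m → ℕ} {d : ℕ} (A : Dt n β d) :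
    ∃ α : Cfsg.IrrCharacter (alternatingGroup (Fin n)),
      Cfsg.charDegree (α : alternatingGroup (Fin n) → ℂ) = d ∧ Cfsg.Agent.H671.H5.ExtAut α := by
  obtain ⟨ψ, hψ, hψs⟩ := extends_ hn A.mono A.sum
  exact ⟨⟨_, irr_restrict (by omega) A.mono A.sum A.swap⟩, Cfsg.Agent.H687.charDegree_of_eq (ch_one A.deg),
    ⟨ψ, hψ⟩, hψs⟩

/-- The characters `(n-2,2)` and `(n-2,1,1)`. -/
theorem alt_cop {n : ℕ} (hn : 7 ≤ n) : ∃ α β : Cfsg.IrrCharacter (alternatingGroup (Fin n)),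
    Cfsg.charDegree (α : alternatingGroup (Fin n) → ℂ) = n * (n - 3) / 2 ∧
      Cfsg.charDegree (β : alternatingGroup (Fin n) → ℂ) = (n - 1) * (n - 2) / 2 ∧
      Cfsg.Agent.H671.H5.ExtAut α ∧ Cfsg.Agent.H671.H5.ExtAut β := by
  obtain ⟨k, rfl⟩ : ∃ k, n = k + 7 := ⟨n - 7, by omega⟩
  obtain ⟨d, hd, A⟩ := dt2 k
  obtain ⟨e, he, B⟩ := dt3 k
  obtain ⟨α, ha, ha'⟩ := exists_of_dt hn A
  obtain ⟨β, hb, hb'⟩ := exists_of_dt hn B
  refine ⟨α, β, ?_, ?_, ha', hb'⟩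
  · rw [ha, show k + 7 - 3 = k + 4 by omega, ← hd]
    omega
  · rw [hb, show k + 7 - 1 = k + 6 by omega, show k + 7 - 2 = k + 5 by omega, ← he]
    omega

/-- Transport along an isomorphism. -/
theorem ext_transport {S : Type u} [Group S] {T : Type v} [Group T] (e : S ≃* T) (θ : Cfsg.IrrCharacter T)
    (h : Cfsg.Agent.H671.H5.ExtAut θ) :
    ∃ θ' : Cfsg.IrrCharacter S, Cfsg.charDegree (θ' : S → ℂ) = Cfsg.charDegree (θ : T → ℂ) ∧
      Cfsg.Agent.H671.H5.ExtAut θ' := by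
  obtain ⟨ψ, hψ⟩ := h
  refine ⟨⟨(θ : T → ℂ) ∘ e, Characters.Core.isIrr_comp e.toMonoidHom e.surjective θ.2⟩, ?_, ?_⟩
  · unfold Cfsg.charDegree
    show ⌊((θ : T → ℂ) (e 1)).re⌋₊ = _
    rw [map_one]
  · refine ⟨⟨(ψ : MulAut T → ℂ) ∘ (MulAut.congr e), Characters.Core.isIrr_comp (MulAut.congr e).toMonoidHom
      (MulAut.congr e).surjective ψ.2⟩, fun s => ?_⟩
    show (ψ : MulAut T → ℂ) ((MulAut.congr e) (MulAut.conj s)) = (θ : T → ℂ) (e s)
    rw [← hψ]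
    have h1 : (MulAut.congr e) (MulAut.conj s) = MulAut.conj (e s) := by
      ext x
      simp [MulAut.congr]
    rw [h1]

/-- `A_n`, `n ≥ 7`. -/
theorem alt_seven {n : ℕ} (hn : 7 ≤ n) {S : Type u} [Group S] (e : S ≃* alternatingGroup (Fin n)) :
    ∃ α β : Cfsg.IrrCharacter S, Cfsg.charDegree (α : S → ℂ) ≠ 1 ∧ Cfsg.charDegree (β : S → ℂ) ≠ 1 ∧
      Nat.Coprime (Cfsg.charDegree (α : S → ℂ)) (Cfsg.charDegree (β : S → ℂ)) ∧
      Cfsg.Agent.H671.H5.ExtAut α ∧ Cfsg.Agent.H671.H5.ExtAut β := by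
  obtain ⟨k, rfl⟩ : ∃ k, n = k + 7 := ⟨n - 7, by omega⟩
  obtain ⟨d, hd, A⟩ := dt2 k
  obtain ⟨f, hf, B⟩ := dt3 k
  obtain ⟨α, ha, ha'⟩ := exists_of_dt hn A
  obtain ⟨β, hb, hb'⟩ := exists_of_dt hn B
  obtain ⟨α', h1, h2⟩ := ext_transport e α ha'
  obtain ⟨β', h3, h4⟩ := ext_transport e β hb'
  have hdf : f = d + 1 := by
    have : 2 * f = 2 * (d + 1) := by rw [hf, mul_add 2 d 1, hd]; ring
    omega
  have hd1 : 14 ≤ d := by nlinarith
  refine ⟨α', β', ?_, ?_, ?_, h2, h4⟩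
  · rw [h1, ha]; omega
  · rw [h3, hb]; omega
  · rw [h1, h3, ha, hb, hdf]
    exact Nat.coprime_self_add_right.2 (Nat.coprime_one_right d)

/-- **The alternating rows of `FactCop` and `FactExt`**; the Steinberg character is taken as hypothesis (`n = 5, 6`). -/
theorem alt_facts
    (hlie : ∀ (p : ℕ) [Fact p.Prime] (S : Type u) [Group S] [Finite S] [IsSimpleGroup S], ¬ IsMulCommutative S →
      Cfsg.IsLieTypeChar p S → ∃ θ : Cfsg.IrrCharacter S,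
        Cfsg.charDegree (θ : S → ℂ) = p ^ (Nat.card S).factorization p ∧ Cfsg.Agent.H671.H5.ExtAut θ)
    {n : ℕ} (hn : 5 ≤ n) {S : Type u} [Group S] [Finite S] [IsSimpleGroup S] (hna : ¬ IsMulCommutative S)
    (hS : Nonempty (S ≃* alternatingGroup (Fin n))) :
    ((∃ α β : Cfsg.IrrCharacter S, Cfsg.charDegree (α : S → ℂ) ≠ 1 ∧ Cfsg.charDegree (β : S → ℂ) ≠ 1 ∧
      Nat.Coprime (Cfsg.charDegree (α : S → ℂ)) (Cfsg.charDegree (β : S → ℂ)) ∧
      Cfsg.Agent.H671.H5.ExtAut α ∧ Cfsg.Agent.H671.H5.ExtAut β) ∨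
      ∃ α : Cfsg.IrrCharacter S, IsPrimePow (Cfsg.charDegree (α : S → ℂ)) ∧ Cfsg.Agent.H671.H5.ExtAut α) ∧
    (∃ θ : Cfsg.IrrCharacter S, Cfsg.charDegree (θ : S → ℂ) ≠ 1 ∧ Cfsg.Agent.H671.H5.ExtAut θ) := by
  obtain ⟨e⟩ := hS
  have key : ∀ (p : ℕ) (_ : p.Prime) (_ : Cfsg.IsLieTypeChar p S) (_ : p ∣ Nat.card S),
      ∃ α : Cfsg.IrrCharacter S, IsPrimePow (Cfsg.charDegree (α : S → ℂ)) ∧ Cfsg.Agent.H671.H5.ExtAut α := by
    intro p hp h hd
    have : Fact p.Prime := ⟨hp⟩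
    obtain ⟨θ, h1, h2⟩ := hlie p S hna h
    refine ⟨θ, ?_, h2⟩
    rw [h1]
    exact hp.isPrimePow.pow (hp.factorization_pos_of_dvd Nat.card_pos.ne' hd).ne'
  have key2 : (∃ α : Cfsg.IrrCharacter S, IsPrimePow (Cfsg.charDegree (α : S → ℂ)) ∧
      Cfsg.Agent.H671.H5.ExtAut α) → ∃ θ : Cfsg.IrrCharacter S, Cfsg.charDegree (θ : S → ℂ) ≠ 1 ∧
        Cfsg.Agent.H671.H5.ExtAut θ := by
    rintro ⟨α, h1, h2⟩
    exact ⟨α, h1.ne_one, h2⟩
  have hcard : Nat.card S = Nat.card (alternatingGroup (Fin n)) := Nat.card_congr e.toEquiv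
  rcases (by omega : n = 5 ∨ n = 6 ∨ 7 ≤ n) with rfl | rfl | h7
  · have : Fact (Nat.Prime 5) := ⟨by norm_num⟩
    obtain ⟨f⟩ := Cfsg.Agent.S0253.result (F := ZMod 5) (ZMod.card 5)
    have h := key 5 (by norm_num) (Or.inl ⟨ZMod 5, inferInstance, inferInstance, inferInstance, 2, le_rfl,
      fun _ => by rw [ZMod.card]; norm_num, ⟨e.trans f.symm⟩⟩) (by
      rw [hcard]
      have h1 := two_mul_nat_card_alternatingGroup (α := Fin 5)
      rw [Nat.card_perm, Nat.card_fin] at h1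
      have : Nat.card (alternatingGroup (Fin 5)) = 60 := by
        have h2 : Nat.factorial 5 = 120 := by decide
        omega
      rw [this]; norm_num)
    exact ⟨Or.inr h, key2 h⟩
  · have : Fact (Nat.Prime 3) := ⟨by norm_num⟩
    have hcF : Nat.card (GaloisField 3 2) = 9 := by rw [GaloisField.card 3 2 (by norm_num)]; norm_num
    have hF : Fintype (GaloisField 3 2) := Fintype.ofFinite _
    have hcF' : Fintype.card (GaloisField 3 2) = 9 := by rw [← Nat.card_eq_fintype_card, hcF]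
    obtain ⟨f⟩ := Cfsg.Agent.S0254.result (F := GaloisField 3 2) hcF'
    have h := key 3 (by norm_num) (Or.inl ⟨GaloisField 3 2, inferInstance, hF, inferInstance, 2, le_rfl,
      fun _ => by rw [hcF']; norm_num, ⟨e.trans f.symm⟩⟩) (by
      rw [hcard]
      have h1 := two_mul_nat_card_alternatingGroup (α := Fin 6)
      rw [Nat.card_perm, Nat.card_fin] at h1
      have : Nat.card (alternatingGroup (Fin 6)) = 360 := by
        have h2 : Nat.factorial 6 = 720 := by decide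
        omega
      rw [this]; norm_num)
    exact ⟨Or.inr h, key2 h⟩
  · obtain ⟨α, β, h1, h2, h3, h4, h5⟩ := alt_seven h7 e
    exact ⟨Or.inl ⟨α, β, h1, h2, h3, h4, h5⟩, α, h1, h4⟩

end Cfsg.Agent.H875.AltCop
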