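import Cfsg.Agent.H875.FnIso
import Cfsg.Agent.H875.SSet
import Cfsg.Agent.H915.LD
import Cfsg.Agent.H919.AschBurnside

/-!
# Cores covered by `SL_2(E)` in the same characteristic: the fields and the dimension (helper875)

`P ≤ GL(ι, F)` a core, `θ : SL_2(E) → P` onto, `char E = char F`, `Q = |F|`. For every field `k` with
`i : F →+* k`, `j : E →+* k` (`exists_param`): `|E| = Q ^ s`, `1 ≤ r₀ < Q`, `|ι| = |SS p r₀| ^ s`, and the
representation over `k` has the model `L(r₀ (1 + Q + ... + Q^(s-1)))`.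
-/

set_option autoImplicit false
set_option linter.unusedSectionVars false
set_option linter.unusedSimpArgs false

namespace Cfsg.Agent.H875.Fn

open Cfsg Cfsg.Geo Matrix Cfsg.Agent.H911.SLTwo

universe u v w x

/-! ### matrix representations over an extension field -/

section lin

variable {G : Type x} [Group G] {ι : Type} [Fintype ι] [DecidableEq ι] {F : Type u} [Field F] (ρ : G →* GL ι F)
  {k : Type v} [Field k] (i : F →+* k)

/-- the representation over an extension field -/
noncomputable def lin : G →* Module.End k (ι → k) :=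
  (Matrix.toLinAlgEquiv' : Matrix ι ι k ≃ₐ[k] _).toAlgHom.toRingHom.toMonoidHom.comp
    (i.mapMatrix.toMonoidHom.comp ((Units.coeHom _).comp ρ))

theorem lin_apply (g : G) : lin ρ i g = Matrix.toLin' ((ρ g : Matrix ι ι F).map i) := rfl

theorem lin_apply' (g : G) (v : ι → k) : lin ρ i g v = ((ρ g : Matrix ι ι F).map i) *ᵥ v := rfl

theorem trace_lin (g : G) : LinearMap.trace k _ (lin ρ i g) = i ((ρ g : Matrix ι ι F).trace) := by
  rw [lin_apply, Matrix.trace_toLin'_eq]
  simp [Matrix.trace]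

/-- applying a field homomorphism to the coordinates -/
theorem lin_map {k' : Type w} [Field k'] (σ : k →+* k') (g : G) (v : ι → k) :
    lin ρ (σ.comp i) g (fun a => σ (v a)) = fun a => σ (lin ρ i g v a) := by
  funext a
  rw [lin_apply', lin_apply']
  simp only [Matrix.mulVec, dotProduct, map_sum, map_mul, Matrix.map_apply, RingHom.comp_apply]

variable {ρ}

theorem span_eq_top (habs : ActsAbsolutelyIrreducibly (matrixSet ρ.range)) :
    Submodule.span F (Set.range fun g : G => (ρ g : Matrix ι ι F)) = ⊤ := by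
  have h := Cfsg.Agent.H919.adjoin_eq_top_of_absIrr habs
  rw [eq_top_iff]
  intro x _
  have hx : x ∈ Algebra.adjoin F (matrixSet ρ.range) := by rw [h]; trivial
  induction hx using Algebra.adjoin_induction with
  | mem x hx =>
    obtain ⟨_, ⟨g, rfl⟩, rfl⟩ := hx
    exact Submodule.subset_span ⟨g, rfl⟩
  | algebraMap r =>
    rw [Algebra.algebraMap_eq_smul_one]
    refine Submodule.smul_mem _ _ (Submodule.subset_span ⟨1, ?_⟩)
    simp
  | add x y _ _ hx hy => exact Submodule.add_mem _ (hx trivial) (hy trivial)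
  | mul x y _ _ hx hy =>
    have h1 := Submodule.mul_mem_mul (hx trivial) (hy trivial)
    rw [Submodule.span_mul_span] at h1
    refine Submodule.span_mono ?_ h1
    rintro _ ⟨_, ⟨g, rfl⟩, _, ⟨g', rfl⟩, rfl⟩
    exact ⟨g * g', by simp⟩

/-- an invariant subspace is invariant under all matrices over `F` -/
theorem mulVec_mem (habs : ActsAbsolutelyIrreducibly (matrixSet ρ.range)) {N : Submodule k (ι → k)}
    (hN : ∀ g, ∀ v ∈ N, lin ρ i g v ∈ N) (M : Matrix ι ι F) {v : ι → k} (hv : v ∈ N) : (M.map i) *ᵥ v ∈ N := by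
  have hM : M ∈ Submodule.span F (Set.range fun g : G => (ρ g : Matrix ι ι F)) := by
    rw [span_eq_top habs]; trivial
  induction hM using Submodule.span_induction with
  | mem x hx =>
    obtain ⟨g, rfl⟩ := hx
    exact hN g v hv
  | zero =>
    rw [Matrix.map_zero _ (map_zero _), Matrix.zero_mulVec]
    exact N.zero_mem
  | add x y _ _ hx hy =>
    rw [Matrix.map_add _ (map_add _), Matrix.add_mulVec]
    exact N.add_mem hx hy
  | smul a x _ hx =>
    have h2 : (a • x).map i = (i a) • x.map i := by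
      ext s t
      simp
    rw [h2, Matrix.smul_mulVec]
    exact N.smul_mem _ hx

theorem single_mem (habs : ActsAbsolutelyIrreducibly (matrixSet ρ.range)) {N : Submodule k (ι → k)}
    (hN : ∀ g, ∀ v ∈ N, lin ρ i g v ∈ N) {v : ι → k} (hv : v ∈ N) (h0 : v ≠ 0) (a : ι) :
    (Pi.single a 1 : ι → k) ∈ N := by
  obtain ⟨b, hb⟩ := Function.ne_iff.1 h0
  have h1 := mulVec_mem i habs hN (Matrix.single a b (1 : F)) hv
  have h2 : ((Matrix.single a b (1 : F)).map i) *ᵥ v = v b • (Pi.single a 1 : ι → k) := by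
    rw [Matrix.map_single, map_one, Matrix.single_mulVec]
    funext c
    simp [Pi.single_apply, Function.update_apply]
  rw [h2] at h1
  have h3 := N.smul_mem (v b)⁻¹ h1
  rwa [smul_smul, inv_mul_cancel₀ hb, one_smul] at h3

theorem lin_irr (habs : ActsAbsolutelyIrreducibly (matrixSet ρ.range)) (N : Submodule k (ι → k))
    (hN : ∀ g, N ≤ N.comap (lin ρ i g)) : N = ⊥ ∨ N = ⊤ := by
  by_cases h : N = ⊥
  · exact Or.inl h
  · right
    obtain ⟨v, hv, h0⟩ := Submodule.exists_mem_ne_zero_of_ne_bot h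
    rw [eq_top_iff]
    intro w _
    have h1 : w = ∑ a, w a • (Pi.single a 1 : ι → k) := by
      funext b
      simp [Finset.sum_apply, Pi.single_apply]
    rw [h1]
    exact N.sum_mem fun a _ => N.smul_mem _ (single_mem i habs (fun g v hv => hN g hv) hv h0 a)

theorem lin_fix (habs : ActsAbsolutelyIrreducibly (matrixSet ρ.range)) (h2 : 2 ≤ Fintype.card ι) (v : ι → k)
    (hv : ∀ g, lin ρ i g v = v) : v = 0 := by
  by_contra h0
  have h1 : ∀ a, (Pi.single a 1 : ι → k) ∈ Submodule.span k {v} := fun a =>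
    single_mem i habs (fun g w hw => by
      obtain ⟨c, rfl⟩ := Submodule.mem_span_singleton.1 hw
      rw [map_smul, hv]
      exact hw) (Submodule.mem_span_singleton_self v) h0 a
  obtain ⟨a, b, hab⟩ := Fintype.exists_pair_of_one_lt_card (α := ι) (by omega)
  obtain ⟨c, hc⟩ := Submodule.mem_span_singleton.1 (h1 a)
  obtain ⟨d, hd⟩ := Submodule.mem_span_singleton.1 (h1 b)
  have e1 : c * v a = 1 := by
    have := congrFun hc a
    simpa using this
  have e2 : c * v b = 0 := by
    have := congrFun hc b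
    simpa [Pi.single_apply, Ne.symm hab] using this
  have e3 : d * v b = 1 := by
    have := congrFun hd b
    simpa using this
  have hc0 : c ≠ 0 := by
    rintro rfl
    rw [zero_mul] at e1
    exact zero_ne_one e1
  rcases mul_eq_zero.1 e2 with h | h
  · exact hc0 h
  · rw [h, mul_zero] at e3
    exact zero_ne_one e3

end lin

/-! ### representations of `SL_2(E)` -/

section main

variable {ι : Type} [Fintype ι] [DecidableEq ι] {F : Type u} [Field F] {E : Type w} [Field E] [Fintype E]
  {k : Type v} [Field k] (i : F →+* k) (j : E →+* k) (ρ : SpecialLinearGroup (Fin 2) E →* GL ι F)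
  (p : ℕ) [hp : Fact p.Prime] [CharP E p]

theorem exists_isModel_lin [CharP k p] (habs : ActsAbsolutelyIrreducibly (matrixSet ρ.range))
    (h2 : 2 ≤ Fintype.card ι) : ∃ r Φ, IsModel j (lin ρ i) r Φ := by
  have hne : Nonempty ι := Fintype.card_pos_iff.1 (by omega)
  exact exists_isModel j (lin ρ i) p (lin_irr i habs) (lin_fix i habs h2)

variable {i j ρ}

/-- a field endomorphism fixing `F` fixes the weight -/
theorem IsModel.weight_fix {r : ℕ} {Φ} (h : IsModel j (lin ρ i) r Φ) (σ : k →+* k) (hσ : σ.comp i = i) (s : Eˣ) :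
    σ (j (s : E)) ^ r = j (s : E) ^ r := by
  obtain ⟨v, h0, -, hU, hw, huniq⟩ := h.exists_hw
  have h1 : ∀ g (v : ι → k), lin ρ i g (fun a => σ (v a)) = fun a => σ (lin ρ i g v a) := by
    intro g v
    have := lin_map ρ i σ g v
    rwa [hσ] at this
  obtain ⟨a, ha⟩ := huniq (fun a => σ (v a)) (fun t => by rw [h1, hU])
  have h2 := h1 (hh s) v
  rw [hw, ha, map_smul, hw] at h2
  have h3 : (fun a => σ (((j (s : E)) ^ r • v) a)) = σ (j (s : E)) ^ r • (fun a => σ (v a)) := by
    funext a
    simp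
  rw [h3, ha, smul_smul, smul_smul] at h2
  have hane : a • v ≠ 0 := by
    rw [← ha]
    intro h4
    apply h0
    funext b
    exact (map_eq_zero σ).1 (congrFun h4 b)
  rw [mul_comm, ← smul_smul, ← smul_smul] at h2
  exact (smul_left_injective k hane h2).symm

/-- a field endomorphism fixing the weight fixes the traces -/
theorem IsModel.trace_fix [CharP k p] {r : ℕ} {Φ} (h : IsModel j (lin ρ i) r Φ)
    (habs : ActsAbsolutelyIrreducibly (matrixSet ρ.range)) (h2 : 2 ≤ Fintype.card ι) (σ : k →+* k)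
    (hσ : ∀ s : Eˣ, σ (j (s : E)) ^ r = j (s : E) ^ r) (g : SpecialLinearGroup (Fin 2) E) :
    σ (i ((ρ g : Matrix ι ι F).trace)) = i ((ρ g : Matrix ι ι F).trace) := by
  obtain ⟨r', Φ', h'⟩ := exists_isModel_lin (σ.comp i) j ρ p habs h2
  obtain ⟨v, h0, -, hU, hw, -⟩ := h.exists_hw
  have h1 : r' = r := by
    refine h'.eq_of_weight h.ne_zero h.le (v' := fun a => σ (v a)) ?_ ?_ ?_
    · intro h4
      apply h0
      funext b
      exact (map_eq_zero σ).1 (congrFun h4 b)
    · intro t
      rw [lin_map, hU]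
    · intro s
      rw [lin_map, hw]
      funext a
      simp only [Pi.smul_apply, smul_eq_mul, map_mul, map_pow]
      rw [hσ]
  subst h1
  have h3 := h.trace_eq h' g
  rw [trace_lin, trace_lin] at h3
  exact h3.symm

/-- the numbers -/
theorem dvd_of_pow_eq {r Q : ℕ} (h : ∀ s : Eˣ, (j (s : E) ^ Q) ^ r = j (s : E) ^ r) (hQ : 1 ≤ Q) :
    (Fintype.card E - 1) ∣ r * (Q - 1) := by
  classical
  obtain ⟨g, hg⟩ := IsCyclic.exists_generator (α := Eˣ)
  have ho : orderOf g = Fintype.card E - 1 := by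
    rw [orderOf_eq_card_of_forall_mem_zpowers hg, Nat.card_eq_fintype_card, Fintype.card_units]
  have h1 : g ^ (r * (Q - 1)) * g ^ r = g ^ r := by
    have h2 := h g
    rw [← pow_mul, ← map_pow, ← map_pow] at h2
    have h3 := j.injective h2
    rw [← Units.val_pow_eq_pow_val, ← Units.val_pow_eq_pow_val] at h3
    rw [← pow_add]
    have h4 : r * (Q - 1) + r = Q * r := by
      obtain ⟨Q', rfl⟩ := Nat.exists_eq_add_of_le hQ
      rw [Nat.add_sub_cancel_left]
      ring
    rw [h4]
    exact Units.ext h3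
  rw [← ho]
  exact orderOf_dvd_of_pow_eq_one (mul_eq_right.1 h1)

theorem pow_eq_of_dvd {r Q : ℕ} (h : (Fintype.card E - 1) ∣ r * (Q - 1)) (hQ : 1 ≤ Q) (s : Eˣ) :
    (j (s : E) ^ Q) ^ r = j (s : E) ^ r := by
  obtain ⟨m, hm⟩ := h
  have h4 : Q * r = r * (Q - 1) + r := by
    obtain ⟨Q', rfl⟩ := Nat.exists_eq_add_of_le hQ
    rw [Nat.add_sub_cancel_left]
    ring
  rw [← pow_mul, h4, pow_add, hm, pow_mul, map_pow_card_sub_one j s.ne_zero, one_pow, one_mul]

end main

/-! ### cores -/

section core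

open Cfsg.Agent.H915.LD

variable {ι : Type} [Fintype ι] [DecidableEq ι] {F : Type u} [Field F] [Fintype F] {E : Type w} [Field E] [Fintype E]
  {P : Subgroup (GL ι F)} (p : ℕ) [hp : Fact p.Prime] [CharP E p] [CharP F p]
  (θ : SpecialLinearGroup (Fin 2) E →* P)

theorem range_cov (hθ : Function.Surjective θ) : (P.subtype.comp θ).range = P := by
  rw [MonoidHom.range_comp, MonoidHom.range_eq_top.2 hθ, ← MonoidHom.range_eq_map, Subgroup.range_subtype]

theorem cov_abs (hC : Core P) (hθ : Function.Surjective θ) :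
    ActsAbsolutelyIrreducibly (matrixSet (P.subtype.comp θ).range) := by
  rw [range_cov θ hθ]
  exact hC.absIrred

/-- **Parameters.** -/
theorem exists_param (hC : Core P) (hθ : Function.Surjective θ) {k : Type v} [Field k] (i : F →+* k) (j : E →+* k) :
    ∃ (s r₀ : ℕ) (Φ : (ι → k) →ₗ[k] (E × E → k)), s ≠ 0 ∧ Fintype.card E = Fintype.card F ^ s ∧ r₀ ≠ 0 ∧
      r₀ < Fintype.card F ∧ Fintype.card ι = (SS p r₀).card ^ s ∧
      IsModel j (lin (P.subtype.comp θ) i) (r₀ * ∑ l ∈ Finset.range s, Fintype.card F ^ l) Φ := by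
  have hk : CharP k p := charP_of_injective_ringHom i.injective p
  have habs := cov_abs θ hC hθ
  obtain ⟨r, Φ, h⟩ := exists_isModel_lin i j (P.subtype.comp θ) p habs hC.two_le
  obtain ⟨a, -, ha⟩ := FiniteField.card F p
  obtain ⟨f, -, hf⟩ := FiniteField.card E p
  have hQ1 : 1 ≤ Fintype.card F := Fintype.card_pos
  have hq2 := two_le_card (E := E)
  have hQ2 := two_le_card (E := F)
  -- the weight is fixed by `x ↦ x ^ |F|`
  have hw : ∀ s : Eˣ, (j (s : E) ^ Fintype.card F) ^ r = j (s : E) ^ r := by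
    intro s
    have h1 := h.weight_fix (iterateFrobenius k p a) (by
      ext x
      rw [RingHom.comp_apply, iterateFrobenius_def, ← ha, ← map_pow, FiniteField.pow_card]) s
    rw [iterateFrobenius_def, ← ha] at h1
    exact h1
  have hd1 := dvd_of_pow_eq hw hQ1
  -- the greatest common divisor
  set d := Nat.gcd a f with hd
  have hd2 : (Fintype.card E - 1) ∣ r * (p ^ d - 1) := by
    have h1 : (Fintype.card E - 1) ∣ r * (p ^ (f : ℕ) - 1) := by
      rw [← hf]
      exact Dvd.intro_left _ rfl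
    rw [ha] at hd1
    have h2 := Nat.dvd_gcd hd1 h1
    rw [Nat.gcd_mul_left, Nat.pow_sub_one_gcd_pow_sub_one] at h2
    exact h2
  have hd0 : d ≠ 0 := by
    rw [hd]
    exact Nat.gcd_ne_zero_left a.ne_zero
  have hfr : Fr P (p ^ d) := by
    intro g hg
    obtain ⟨x, hx⟩ := hθ ⟨g, hg⟩
    have h1 := h.trace_fix p habs hC.two_le (iterateFrobenius k p d) (fun s => by
      rw [iterateFrobenius_def]
      exact pow_eq_of_dvd hd2 (Nat.one_le_pow _ _ hp.out.pos) s) x
    rw [iterateFrobenius_def, MonoidHom.comp_apply, hx, ← map_pow] at h1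
    exact i.injective h1
  have hle := hC.card_le p hd0 hfr
  rw [ha] at hle
  have had : (a : ℕ) ≤ d := (Nat.pow_le_pow_iff_right hp.out.one_lt).1 hle
  have hda : d = a := le_antisymm (Nat.gcd_le_left _ a.pos) had
  have hdvd : (a : ℕ) ∣ f := by
    rw [← hda, hd]
    exact Nat.gcd_dvd_right _ _
  obtain ⟨s, hs⟩ := hdvd
  have hs0 : s ≠ 0 := by
    rintro rfl
    rw [mul_zero] at hs
    exact f.ne_zero hs
  have hcard : Fintype.card E = Fintype.card F ^ s := by rw [hf, ha, hs, pow_mul]
  -- the exponent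
  have hgeo : (∑ l ∈ Finset.range s, Fintype.card F ^ l) * (Fintype.card F - 1) = Fintype.card E - 1 := by
    rw [hcard]
    obtain ⟨Q', hQ'⟩ := Nat.exists_eq_add_of_le' hQ1
    rw [hQ', Nat.add_sub_cancel]
    have h1 := Nat.geomSum_eq (m := Q' + 1) (by omega) s
    rw [Nat.add_sub_cancel] at h1
    rw [h1]
    refine Nat.div_mul_cancel ?_
    have h2 := Nat.sub_dvd_pow_sub_pow (Q' + 1) 1 s
    rwa [Nat.add_sub_cancel, one_pow] at h2
  set S := ∑ l ∈ Finset.range s, Fintype.card F ^ l with hS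
  have hQpos : 0 < Fintype.card F - 1 := by omega
  have hSr : S ∣ r := by
    rw [← hgeo] at hd1
    exact (Nat.mul_dvd_mul_iff_right hQpos).1 hd1
  obtain ⟨r₀, hr₀⟩ := hSr
  have hSpos : 0 < S := by
    rcases Nat.eq_zero_or_pos S with h0 | h0
    · rw [h0, zero_mul] at hgeo
      omega
    · exact h0
  have hr : r = r₀ * S := by rw [hr₀, mul_comm]
  have h1 : r₀ ≠ 0 := by
    rintro rfl
    rw [zero_mul] at hr
    exact h.ne_zero hr
  have h2 : r₀ < Fintype.card F := by
    have h3 : S * r₀ ≤ S * (Fintype.card F - 1) := by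
      rw [← hr₀, hgeo]
      exact h.le
    have h4 := Nat.le_of_mul_le_mul_left h3 hSpos
    omega
  rw [hr] at h
  refine ⟨s, r₀, Φ, hs0, hcard, h1, h2, ?_, h⟩
  have h3 := h.finrank p
  rw [Module.finrank_fintype_fun_eq_card] at h3
  rw [h3, hS]
  rw [ha] at h2 ⊢
  exact card_SS_geom h2 s

end core

end Cfsg.Agent.H875.Fn
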