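import Mathlib
import Cfsg.Prelude.Def_Classical
import Cfsg.Agent.H430.CfBase
import Cfsg.Agent.ClassicalGeometry.PSUAutSylow
import Cfsg.Agent.LieClassical.HermCount
import Cfsg.Agent.H934.IdxPSU

/-!
# The row of the unitary groups for S5880
-/

set_option autoImplicit false

namespace Cfsg.Agent.H875.RowPSU

open Cfsg MulAction Cfsg.Agent.LieClassical.HermBasic Cfsg.Agent.LieClassical.HermSiegel
  Cfsg.Agent.LieClassical.HermGen Cfsg.Agent.LieClassical.SUBasic Cfsg.Agent.ClassicalGeometry.PSUAutBasic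
  Cfsg.Agent.ClassicalGeometry.PSUAutSylow Cfsg.Agent.H430.CfBase Matrix

variable {F : Type*} [Field F] [Fintype F] {q n : ℕ}

/-- The transvection groups. -/
def Om (n : ℕ) (hF : Fintype.card F = q ^ 2) : Type _ :=
  {R : Subgroup (PSU n F q) // ∃ (u : Fin n → F) (_ : u ≠ 0) (hu : hermForm n F q u u = 0), R = RR hF u hu}

theorem map_conj_RR (hF : Fintype.card F = q ^ 2) {u : Fin n → F} (hu0 : u ≠ 0) (hu : hermForm n F q u u = 0)
    (g : PSU n F q) : ∃ (u' : Fin n → F) (_ : u' ≠ 0) (hu' : hermForm n F q u' u' = 0),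
      (RR hF u hu).map (MulAut.conj g).toMonoidHom = RR hF u' hu' := by
  obtain ⟨g, rfl⟩ := pr_surjective g
  have h1 : hermForm n F q (act g u) (act g u) = 0 := by rw [herm_act]; exact hu
  refine ⟨act g u, ?_, h1, ?_⟩
  · intro h0
    apply hu0
    rw [← act_zero g] at h0
    exact (act_injective g) h0
  · ext x
    rw [RR_conj hF hu g h1]
    constructor
    · rintro ⟨y, hy, rfl⟩
      show (pr n F q g)⁻¹ * (pr n F q g * y * (pr n F q g)⁻¹) * pr n F q g ∈ _
      have : (pr n F q g)⁻¹ * (pr n F q g * y * (pr n F q g)⁻¹) * pr n F q g = y := by group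
      rw [this]
      exact hy
    · intro hx
      refine ⟨_, hx, ?_⟩
      show pr n F q g * ((pr n F q g)⁻¹ * x * pr n F q g) * (pr n F q g)⁻¹ = x
      group

instance (hF : Fintype.card F = q ^ 2) : MulAction (PSU n F q) (Om n hF) where
  smul g R := ⟨R.1.map (MulAut.conj g).toMonoidHom, by
    obtain ⟨R, u, hu0, hu, rfl⟩ := R
    exact map_conj_RR hF hu0 hu g⟩
  one_smul R := by
    apply Subtype.ext
    show R.1.map (MulAut.conj (1 : PSU n F q)).toMonoidHom = R.1
    rw [_root_.map_one, Cfsg.Agent.H430.CfBase.map_one]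
  mul_smul g h R := by
    apply Subtype.ext
    show R.1.map (MulAut.conj (g * h)).toMonoidHom =
      (R.1.map (MulAut.conj h).toMonoidHom).map (MulAut.conj g).toMonoidHom
    rw [map_mul, map_map_mul]

theorem pretransitive (hF : Fintype.card F = q ^ 2) (hn : 3 ≤ n) : IsPretransitive (PSU n F q) (Om n hF) := by
  refine ⟨?_⟩
  rintro ⟨_, u, hu0, hu, rfl⟩ ⟨_, v, hv0, hv, rfl⟩
  obtain ⟨g, -, hg⟩ := exists_map_iso hF hn le_rfl (mem_coordSub_top u) (mem_coordSub_top v) hu0 hv0 hu hv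
  refine ⟨pr n F q g, Subtype.ext ?_⟩
  show (RR hF u hu).map (MulAut.conj (pr n F q g)).toMonoidHom = RR hF v hv
  have h1 : hermForm n F q (act g u) (act g u) = 0 := by rw [herm_act]; exact hu
  rw [RR_congr hF hv h1 hg.symm]
  ext x
  rw [RR_conj hF hu g h1]
  constructor
  · rintro ⟨y, hy, rfl⟩
    show (pr n F q g)⁻¹ * (pr n F q g * y * (pr n F q g)⁻¹) * pr n F q g ∈ _
    have : (pr n F q g)⁻¹ * (pr n F q g * y * (pr n F q g)⁻¹) * pr n F q g = y := by group
    rw [this]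
    exact hy
  · intro hx
    refine ⟨_, hx, ?_⟩
    show pr n F q g * ((pr n F q g)⁻¹ * x * pr n F q g) * (pr n F q g)⁻¹ = x
    group

instance (hF : Fintype.card F = q ^ 2) : Finite (Om n hF) := by
  unfold Om
  infer_instance

theorem nontrivial (hF : Fintype.card F = q ^ 2) (hn : 3 ≤ n) : Nontrivial (Om n hF) := by
  obtain ⟨e, f, H⟩ := exists_frame (F := F) (q := q) (n := n) hF (by omega)
  have he0 : e ≠ 0 := by
    rintro rfl
    have := H.ef
    rw [herm_zero_left] at this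
    exact zero_ne_one this
  have hf0 : f ≠ 0 := by
    rintro rfl
    have := H.ef
    rw [herm_zero_right hF] at this
    exact zero_ne_one this
  refine ⟨⟨_, e, he0, H.ee, rfl⟩, ⟨_, f, hf0, H.ff, rfl⟩, fun h => ?_⟩
  have h1 : RR hF e H.ee = RR hF f H.ff := congrArg Subtype.val h
  have h2 := (RR_commute_iff hF hn he0 he0 H.ee H.ee).2 H.ee
  have h3 := (RR_commute_iff hF hn he0 hf0 H.ee H.ff).1 (by
    intro x hx y hy
    rw [← h1] at hy
    exact h2 x hx y hy)
  rw [H.ef] at h3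
  exact one_ne_zero h3

theorem card_le (hF : Fintype.card F = q ^ 2) (hn : 3 ≤ n) : Nat.card (Om n hF) ≤ (q ^ (n - 1)) ^ 2 := by
  classical
  have hq2 : 2 ≤ q := two_le hF
  have h1 : Nat.card (Om n hF × Fˣ) ≤ Nat.card {v : Fin n → F // hermForm n F q v v = 0} := by
    choose u hu0 hu hR using fun R : Om n hF => R.2
    refine Nat.card_le_card_of_injective (fun x => ⟨(x.2 : F) • u x.1, by
      rw [herm_smul_left, herm_smul_right, hu]; ring⟩) ?_
    rintro ⟨R, c⟩ ⟨R', c'⟩ h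
    have h1 : (c : F) • u R = (c' : F) • u R' := congrArg Subtype.val h
    have h2 : R.1 = R'.1 := by
      rw [hR R, hR R', RR_eq_iff hF hn (hu0 R) (hu0 R')]
      refine ⟨(c'⁻¹ * c : Fˣ), Units.ne_zero _, ?_⟩
      rw [Units.val_mul, mul_smul, h1, smul_smul, ← Units.val_mul, inv_mul_cancel, Units.val_one, one_smul]
    have h3 : R = R' := Subtype.ext h2
    subst h3
    have h4 : (c : F) = c' := smul_left_injective F (hu0 R) h1
    rw [Units.ext h4]
  rw [Nat.card_prod, Nat.card_units, Nat.card_eq_fintype_card (α := F), hF] at h1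
  have h2 := Cfsg.Agent.LieClassical.HermCount.card_herm_eq_zero hF n
  have h3 : ((-q : ℤ)) ^ n ≤ (q : ℤ) ^ n := by
    have := neg_pow (q : ℤ) n
    rw [this]
    rcases neg_one_pow_eq_or ℤ n with h | h <;> rw [h]
    · simp
    · have : (0 : ℤ) ≤ (q : ℤ) ^ n := by positivity
      linarith
  obtain ⟨m, rfl⟩ : ∃ m, n = m + 1 := ⟨n - 1, by omega⟩
  rw [Nat.add_sub_cancel]
  set I := Nat.card {v : Fin (m + 1) → F // hermForm (m + 1) F q v v = 0}
  set N := Nat.card (Om (m + 1) hF)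
  set Y := q ^ m with hY
  have hY1 : 1 ≤ Y := Nat.one_le_pow _ _ (by omega)
  have h4 : (q : ℤ) * I ≤ (q * Y) ^ 2 + (q * Y) * (q - 1) := by
    rw [h2]
    have e1 : (q : ℤ) ^ (2 * (m + 1)) = (q * Y) ^ 2 := by rw [hY]; push_cast; ring
    have e2 : (q : ℤ) ^ (m + 1) = q * Y := by rw [hY]; push_cast; ring
    rw [e1]
    rw [e2] at h3
    have : (0 : ℤ) ≤ q - 1 := by have : (2 : ℤ) ≤ q := by exact_mod_cast hq2
                                 linarith
    nlinarith
  have h5 : (I : ℤ) ≤ q * Y ^ 2 + Y * (q - 1) := by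
    have hq0 : (0 : ℤ) < q := by exact_mod_cast (by omega : 0 < q)
    have : (q : ℤ) * I ≤ q * (q * Y ^ 2 + Y * (q - 1)) := by
      calc (q : ℤ) * I ≤ _ := h4
        _ = _ := by ring
    exact le_of_mul_le_mul_left this hq0
  have h6 : (N : ℤ) * (q ^ 2 - 1) ≤ I := by
    have h7 : ((q ^ 2 - 1 : ℕ) : ℤ) = (q : ℤ) ^ 2 - 1 := by
      rw [Nat.cast_sub (Nat.one_le_pow _ _ (by omega))]; push_cast; ring
    rw [← h7]
    exact_mod_cast h1
  have hq2' : (2 : ℤ) ≤ q := by exact_mod_cast hq2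
  have hY1' : (1 : ℤ) ≤ Y := by exact_mod_cast hY1
  have h7 : (N : ℤ) * (q ^ 2 - 1) ≤ (Y : ℤ) ^ 2 * (q ^ 2 - 1) := by
    refine h6.trans (h5.trans ?_)
    have h8 : (Y : ℤ) ≤ Y ^ 2 := by nlinarith
    have h9 : (0 : ℤ) ≤ q - 1 := by linarith
    have h10 : (Y : ℤ) * (q - 1) ≤ Y ^ 2 * (q - 1) := mul_le_mul_of_nonneg_right h8 h9
    have h11 : (q : ℤ) * Y ^ 2 + Y ^ 2 * (q - 1) ≤ Y ^ 2 * (q ^ 2 - 1) := by
      have h12 : (0 : ℤ) ≤ Y ^ 2 := by positivity
      have h13 : (0 : ℤ) ≤ q ^ 2 - 2 * q := by nlinarith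
      nlinarith [mul_nonneg h12 h13]
    linarith
  have h8 : (0 : ℤ) < q ^ 2 - 1 := by nlinarith
  exact_mod_cast le_of_mul_le_mul_right h7 h8

/-- A proper subgroup of index at most `q ^ (2 (n - 1))` whose class is invariant. -/
theorem hasInv (hF : Fintype.card F = q ^ 2) (hn : 3 ≤ n) : HasInv (PSU n F q) ((q ^ (n - 1)) ^ 2) := by
  have := pretransitive (F := F) (q := q) hF hn
  refine HasInv.of_action (Ω := Om n hF) (nontrivial hF hn) (card_le hF hn) fun α => ?_
  refine ⟨fun R => ⟨R.1.map α.toMonoidHom, ?_⟩, ?_, ?_⟩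
  · obtain ⟨R, u, hu0, hu, rfl⟩ := R
    exact exists_map_RR hF hn α hu0 hu
  · intro R R' h
    have h1 : R.1.map α.toMonoidHom = R'.1.map α.toMonoidHom := congrArg Subtype.val h
    exact Subtype.ext (Subgroup.map_injective α.injective h1)
  · intro g R
    apply Subtype.ext
    show (R.1.map (MulAut.conj g).toMonoidHom).map α.toMonoidHom =
      (R.1.map α.toMonoidHom).map (MulAut.conj (α g)).toMonoidHom
    rw [map_map_mul, map_map_mul]
    congr 2
    ext x
    simp

/-- The row of the unitary groups. -/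
theorem row_psu {S : Type*} [Group S] [Finite S] [IsSimpleGroup S] (h : Cfsg.IsPSU S) : Row S := by
  obtain ⟨F, _, _, n, q, hF, hn, -, ⟨e⟩⟩ := h
  have hS : HasInv (PSU n F q) ((q ^ (n - 1)) ^ 2) := hasInv hF hn
  have hR : Row (PSU n F q) := by
    refine Row.of_hasInv hS fun L hL => ?_
    have h1 := Cfsg.Agent.H934.IdxPSU.pow_le_index hF hn e (L.comap e.toMonoidHom) (by
      intro h0
      apply hL
      rw [eq_top_iff]
      intro y _
      have h2 : e.symm y ∈ L.comap e.toMonoidHom := by rw [h0]; exact Subgroup.mem_top _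
      have h3 : e (e.symm y) ∈ L := h2
      rwa [e.apply_symm_apply] at h3)
    rw [Subgroup.index_comap_of_surjective L (f := e.toMonoidHom) e.surjective] at h1
    exact Nat.pow_le_pow_left h1 2
  exact Row.of_equiv e.symm hR

end Cfsg.Agent.H875.RowPSU
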