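import Cfsg.Agent.H875.FnQuad
import Cfsg.Agent.H875.PslRows

/-!
# Characteristic two: cores with socle `PSL_2(E)` fix a quadratic form (helper875)

* `fixQ_two` : `Core P`, `Soc P ≃* PSL_2(E)`, `char E = char F = 2`, dimension `≥ 3`: `FixQ P`.
-/

set_option autoImplicit false
set_option linter.unusedSectionVars false
set_option linter.unusedSimpArgs false

namespace Cfsg.Agent.H875.TwoQuad

open Cfsg Cfsg.Geo Matrix Cfsg.Agent.H911.SLTwo Cfsg.Agent.H915.LD Cfsg.Agent.H875.Fn Cfsg.Agent.H875.Psl2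

universe u v w

section

variable {ι : Type} [Fintype ι] [DecidableEq ι] {F : Type u} [Field F] {E : Type w} [Field E] [Fintype E]
  {k : Type v} [Field k] {i : F →+* k} {j : E →+* k} {ρ : SpecialLinearGroup (Fin 2) E →* GL ι F} {r : ℕ}
  {Φ : (ι → k) →ₗ[k] (E × E → k)}

/-- the isomorphism with `L j r` -/
noncomputable def psiK (hM : IsModel j (lin ρ i) r Φ) : (ι → k) ≃ₗ[k] L j r :=
  (LinearEquiv.ofInjective Φ hM.inj).trans (LinearEquiv.ofEq _ _ hM.range)

theorem psiK_coe (hM : IsModel j (lin ρ i) r Φ) (v : ι → k) : ((psiK hM v : L j r) : E × E → k) = Φ v := rfl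

theorem psiK_lin (hM : IsModel j (lin ρ i) r Φ) (g : SpecialLinearGroup (Fin 2) E) (v : ι → k) :
    psiK hM (lin ρ i g v) = actL j r g.1 (psiK hM v) := by
  apply Subtype.ext
  rw [coe_actL, psiK_coe, psiK_coe, actM_coe, hM.act]

/-- base change of a vector -/
def bc (i : F →+* k) (v : ι → F) : ι → k := fun a => i (v a)

theorem bc_add (v w : ι → F) : bc i (v + w) = bc i v + bc i w := by
  funext a
  exact map_add i _ _

theorem bc_smul (c : F) (v : ι → F) : bc i (c • v) = i c • bc i v := by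
  funext a
  exact map_mul i _ _

theorem lin_bc (g : SpecialLinearGroup (Fin 2) E) (v : ι → F) :
    lin ρ i g (bc i v) = bc i ((ρ g : Matrix ι ι F) *ᵥ v) := by
  funext a
  rw [lin_apply']
  simp only [Matrix.mulVec, dotProduct, Matrix.map_apply, bc, map_sum, map_mul]

/-- the quadratic form on `F^ι` with values in `k` -/
noncomputable def qq [CharP k 2] (hM : IsModel j (lin ρ i) r Φ) (v : ι → F) : k := QL j hM.le (psiK hM (bc i v))

/-- its polar form -/
noncomputable def bb [CharP k 2] (hM : IsModel j (lin ρ i) r Φ) (u v : ι → F) : k :=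
  frm j 2 hM.le (psiK hM (bc i u)) (psiK hM (bc i v))

variable [CharP k 2]

theorem qq_smul (hM : IsModel j (lin ρ i) r Φ) (c : F) (v : ι → F) : qq hM (c • v) = i c ^ 2 * qq hM v := by
  unfold qq
  rw [bc_smul, map_smul, QL_smul]

theorem qq_add (hM : IsModel j (lin ρ i) r Φ) (u v : ι → F) : qq hM (u + v) = qq hM u + qq hM v + bb hM u v := by
  unfold qq bb
  rw [bc_add, map_add, QL_add j hM.le hM.ne_zero]

theorem qq_act (hM : IsModel j (lin ρ i) r Φ) (h4 : 4 ∣ (SS 2 r).card) (g : SpecialLinearGroup (Fin 2) E)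
    (v : ι → F) : qq hM ((ρ g : Matrix ι ι F) *ᵥ v) = qq hM v := by
  unfold qq
  rw [← lin_bc, psiK_lin, QL_act j hM.le hM.ne_zero h4 g.2]

theorem bb_act (hM : IsModel j (lin ρ i) r Φ) (g : SpecialLinearGroup (Fin 2) E)
    (u v : ι → F) : bb hM ((ρ g : Matrix ι ι F) *ᵥ u) ((ρ g : Matrix ι ι F) *ᵥ v) = bb hM u v := by
  unfold bb
  have hg : (g.1).det = 1 := g.2
  rw [← lin_bc, ← lin_bc, psiK_lin, psiK_lin, frm_act, hg, map_one, one_pow, one_mul]

theorem bb_add_left (hM : IsModel j (lin ρ i) r Φ) (u u' v : ι → F) : bb hM (u + u') v = bb hM u v + bb hM u' v := by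
  unfold bb
  rw [bc_add, map_add, map_add, LinearMap.add_apply]

theorem bb_add_right (hM : IsModel j (lin ρ i) r Φ) (u v v' : ι → F) : bb hM u (v + v') = bb hM u v + bb hM u v' := by
  unfold bb
  rw [bc_add, map_add, map_add]

theorem bb_smul_left (hM : IsModel j (lin ρ i) r Φ) (c : F) (u v : ι → F) : bb hM (c • u) v = i c * bb hM u v := by
  unfold bb
  rw [bc_smul, map_smul, map_smul, LinearMap.smul_apply, smul_eq_mul]

theorem bb_smul_right (hM : IsModel j (lin ρ i) r Φ) (c : F) (u v : ι → F) : bb hM u (c • v) = i c * bb hM u v := by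
  unfold bb
  rw [bc_smul, map_smul, map_smul, smul_eq_mul]

theorem bb_comm (hM : IsModel j (lin ρ i) r Φ) (u v : ι → F) : bb hM v u = bb hM u v := by
  unfold bb
  rw [frm_symm, neg_eq, one_pow, one_mul]

theorem exists_bb_ne (hM : IsModel j (lin ρ i) r Φ) : ∃ u v, bb hM u v ≠ 0 := by
  by_contra hcon
  push Not at hcon
  have h1 : ∀ x y : ι → k, frm j 2 hM.le (psiK hM x) (psiK hM y) = 0 := by
    have h2 : ((frm j 2 hM.le).comp (psiK hM).toLinearMap).compl₂ (psiK hM).toLinearMap = 0 := by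
      refine (Pi.basisFun k ι).ext fun a => (Pi.basisFun k ι).ext fun b => ?_
      have h3 := hcon (Pi.single a 1) (Pi.single b 1)
      have h4 : ∀ c : ι, bc i (Pi.single c (1 : F)) = (Pi.basisFun k ι) c := by
        intro c
        funext d
        rw [Pi.basisFun_apply]
        unfold bc
        by_cases hd : d = c
        · subst hd; simp
        · simp [Pi.single_apply, hd]
      unfold bb at h3
      rw [h4, h4] at h3
      exact h3
    intro x y
    have h3 := congrArg (fun f => f x y) h2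
    exact h3
  have h2 := h1 ((psiK hM).symm (pL j r (1, 0))) ((psiK hM).symm (pL j r (0, 1)))
  rw [LinearEquiv.apply_symm_apply, LinearEquiv.apply_symm_apply, frm_pL] at h2
  have h3 : dt ((1 : E), (0 : E)) (0, 1) = 1 := by
    unfold dt
    simp
  rw [h3, map_one, one_pow] at h2
  exact one_ne_zero h2

end

section core

variable {ι : Type} [Fintype ι] [DecidableEq ι] {F : Type u} [Field F] {E : Type w} [Field E] [Fintype E]
  {P : Subgroup (GL ι F)} {θ : SpecialLinearGroup (Fin 2) E →* P} {k : Type v} [Field k] [Algebra F k] {j : E →+* k}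
  {r : ℕ} {Φ : (ι → k) →ₗ[k] (E × E → k)} [CharP k 2]

theorem polar_qq (hM : IsModel j (lin (P.subtype.comp θ) (algebraMap F k)) r Φ) (τ : k →ₗ[F] F) (u v : ι → F) :
    QuadraticMap.polar (fun v => τ (qq hM v)) u v = τ (bb hM u v) := by
  change τ (qq hM (u + v)) - τ (qq hM u) - τ (qq hM v) = _
  rw [qq_add, map_add, map_add]
  ring

theorem nondeg_of (hC : Core P) (hθ : Function.Surjective θ)
    (hM : IsModel j (lin (P.subtype.comp θ) (algebraMap F k)) r Φ) {τ : k →ₗ[F] F} {u₀ v₀ : ι → F}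
    (h0 : τ (bb hM u₀ v₀) ≠ 0) : IsNondegenerateForm fun u v => τ (bb hM u v) := by
  have hact : ∀ g ∈ P, ∀ u v, bb hM ((g : Matrix ι ι F) *ᵥ u) ((g : Matrix ι ι F) *ᵥ v) = bb hM u v := by
    intro g hg u v
    obtain ⟨x, hx⟩ := hθ ⟨g, hg⟩
    have h1 := bb_act hM x u v
    rw [MonoidHom.comp_apply, hx] at h1
    exact h1
  let W : Submodule F (ι → F) :=
    { carrier := {v | ∀ u, τ (bb hM u v) = 0}
      add_mem' := fun {a b} ha hb u => by rw [bb_add_right, map_add, ha u, hb u, add_zero]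
      zero_mem' := fun u => by
        have h1 := bb_smul_right hM (0 : F) u (0 : ι → F)
        rw [zero_smul, map_zero, zero_mul] at h1
        rw [h1, map_zero]
      smul_mem' := fun c v hv u => by
        rw [bb_smul_right, ← Algebra.smul_def, map_smul, hv u, smul_zero] }
  have hW : W = ⊥ := by
    rcases hC.absIrred.1 W (by
      rintro _ ⟨g, hg, rfl⟩ _ ⟨v, hv, rfl⟩ u
      have h1 : u = (g : Matrix ι ι F) *ᵥ (((g⁻¹ : GL ι F) : Matrix ι ι F) *ᵥ u) := by
        rw [Matrix.mulVec_mulVec, ← Units.val_mul, mul_inv_cancel, Units.val_one, Matrix.one_mulVec]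
      rw [Matrix.toLin'_apply, h1]
      change τ (bb hM ((g : Matrix ι ι F) *ᵥ _) ((g : Matrix ι ι F) *ᵥ v)) = 0
      rw [hact g hg]
      exact hv _) with h | h
    · exact h
    · exfalso
      have h1 : v₀ ∈ W := by rw [h]; trivial
      exact h0 (h1 u₀)
  intro v hv
  have h1 : ∃ u, τ (bb hM u v) ≠ 0 := by
    by_contra hcon
    push Not at hcon
    have h2 : v ∈ W := hcon
    rw [hW] at h2
    exact hv ((Submodule.mem_bot F).1 h2)
  obtain ⟨u, hu⟩ := h1
  refine ⟨⟨u, hu⟩, u, ?_⟩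
  change τ (bb hM v u) ≠ 0
  rw [bb_comm]
  exact hu

theorem quad_of (hC : Core P) (hθ : Function.Surjective θ)
    (hM : IsModel j (lin (P.subtype.comp θ) (algebraMap F k)) r Φ) (h4 : 4 ∣ (SS 2 r).card) :
    ∃ τ : k →ₗ[F] F, IsNondegenerateQuadraticForm (fun v => τ (qq hM v)) ∧
      FixesQuadForm (matrixSet P) (fun v => τ (qq hM v)) := by
  obtain ⟨u₀, v₀, h0⟩ := exists_bb_ne hM
  obtain ⟨τ, hτ⟩ : ∃ τ : k →ₗ[F] F, τ (bb hM u₀ v₀) ≠ 0 := by
    by_contra hcon
    push Not at hcon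
    exact h0 ((Module.forall_dual_apply_eq_zero_iff F (bb hM u₀ v₀)).1 hcon)
  have hpol : QuadraticMap.polar (fun v => τ (qq hM v)) = fun u v => τ (bb hM u v) := by
    funext u v
    exact polar_qq hM τ u v
  refine ⟨τ, ⟨fun c v => ?_, ?_, ?_⟩, ?_⟩
  · rw [qq_smul, ← map_pow, ← Algebra.smul_def, map_smul, smul_eq_mul]
  · rw [hpol]
    refine ⟨fun x y v => ?_, fun c x v => ?_, fun v x y => ?_, fun c v x => ?_⟩
    · rw [bb_add_left, map_add]
    · rw [bb_smul_left, ← Algebra.smul_def, map_smul, smul_eq_mul]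
    · rw [bb_add_right, map_add]
    · rw [bb_smul_right, ← Algebra.smul_def, map_smul, smul_eq_mul]
  · rw [hpol]
    exact nondeg_of hC hθ hM hτ
  · rintro _ ⟨g, hg, rfl⟩ v
    obtain ⟨x, hx⟩ := hθ ⟨g, hg⟩
    have h1 := qq_act hM h4 x v
    rw [MonoidHom.comp_apply, hx] at h1
    exact congrArg τ h1

end core

section final

variable {ι : Type} [Fintype ι] [DecidableEq ι] {F : Type u} [Field F] [Fintype F] {E : Type w} [Field E] [Fintype E]
  {P : Subgroup (GL ι F)} [CharP E 2] [CharP F 2]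

/-- **Characteristic two, dimension at least three: a quadratic form is fixed.** -/
theorem fixQ_two (hC : Core P) (e : Soc P ≃* ProjectiveSpecialLinearGroup (Fin 2) E) (hn : 3 ≤ Fintype.card ι) :
    FixQ P := by
  have := Fact.mk Nat.prime_two
  obtain ⟨θ, hsurj, -⟩ := DefCov.exists_cover (m := 1) hC 2 (perf hC e) e
  obtain ⟨j⟩ := exists_emb F E 2
  have hk : CharP (AlgebraicClosure F) 2 := charP_of_injective_ringHom (algebraMap F (AlgebraicClosure F)).injective 2
  obtain ⟨s, r₀, Φ, hs0, hs, hr0, hlt, hcard, hM⟩ := exists_param 2 θ hC hsurj (algebraMap F (AlgebraicClosure F)) j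
  obtain ⟨d, hd⟩ := PslRows.card_SS_two (r₀ * ∑ l ∈ Finset.range s, Fintype.card F ^ l)
  have h1 := hM.finrank 2
  rw [Module.finrank_fintype_fun_eq_card, hd] at h1
  have h2 : 2 ≤ d := by
    by_contra hlt
    have h3 : 2 ^ d ≤ 2 ^ 1 := Nat.pow_le_pow_right (by norm_num) (by omega)
    omega
  obtain ⟨τ, h3, h4⟩ := quad_of hC hsurj hM (by
    rw [hd]
    exact pow_dvd_pow 2 h2)
  exact ⟨_, h3, h4⟩

end final

end Cfsg.Agent.H875.TwoQuad
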