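import Cfsg.Agent.H875.PslRows
import Cfsg.Agent.H875.TwoQuad

/-!
# The invariant alternating trilinear form on `L(6 p^t)`, `p ≥ 7` (helper875)

* `tri` : the trilinear form on `L j 6` with value `(dt c d) ^ 3 (dt d e) ^ 3 (dt e c) ^ 3` on the generators;
* `tri_seven` : `H` maximal in `omegaGL Q`, dimension 7, `P` the residual core of `H`, `Soc P ≃* PSL_2(E)`, defining
  characteristic: `P` fixes a nonzero alternating trilinear form.
-/

set_option autoImplicit false
set_option linter.unusedSectionVars false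
set_option linter.unusedSimpArgs false

namespace Cfsg.Agent.H875.TriSeven

open Cfsg Cfsg.Geo Matrix Cfsg.Agent.H911.SLTwo Cfsg.Agent.H915.LD Cfsg.Agent.H875.Fn Cfsg.Agent.H875.Psl2
  Cfsg.Agent.H875.TwoQuad

universe u v w

section form

variable {E : Type u} [Field E] [Fintype E] {k : Type v} [Field k] (j : E →+* k) (p : ℕ) [hp : Fact p.Prime] [CharP k p]
  (hr : 6 ≤ Fintype.card E - 1)

theorem mem_SS_six (h7 : 7 ≤ p) {m : ℕ} (hm : m ≤ 6) : m ∈ SS p 6 := by
  refine mem_SS.2 ⟨hm, fun h => ?_⟩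
  have h1 : p ∣ (6 : ℕ).factorial := h.trans (by
    have := Nat.choose_mul_factorial_mul_factorial hm
    exact ⟨m.factorial * (6 - m).factorial, by rw [← this]; ring⟩)
  have h2 := (hp.out.dvd_factorial).1 h1
  omega

open Classical in
/-- the coefficient functional -/
noncomputable def lam (m : ℕ) : L j 6 →ₗ[k] k :=
  if h : m ∈ SS p 6 then (((6 : ℕ).choose m : ℕ) : k)⁻¹ • (bas j p hr).coord ⟨m, h⟩ else 0

theorem lam_pL (h7 : 7 ≤ p) {m : ℕ} (hm : m ≤ 6) (c : E × E) :
    lam j p hr m (pL j 6 c) = j c.2 ^ m * j c.1 ^ (6 - m) := by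
  classical
  have h := mem_SS_six p h7 hm
  have h0 : (((6 : ℕ).choose m : ℕ) : k) ≠ 0 := choose_ne_zero p h
  unfold lam
  rw [dif_pos h, LinearMap.smul_apply, pL_eq_sum j p hr c, map_sum]
  rw [Finset.sum_eq_single ⟨m, h⟩]
  · rw [map_smul, Module.Basis.coord_apply, Module.Basis.repr_self, Finsupp.single_eq_same, smul_eq_mul, smul_eq_mul]
    field_simp
  · intro b _ hb
    rw [map_smul, Module.Basis.coord_apply, Module.Basis.repr_self, Finsupp.single_eq_of_ne (Ne.symm hb), smul_zero]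
  · intro h
    exact absurd (Finset.mem_univ _) h

/-- the trilinear form -/
noncomputable def tri : L j 6 →ₗ[k] L j 6 →ₗ[k] L j 6 →ₗ[k] k :=
  ∑ a ∈ Finset.range 4, ∑ b ∈ Finset.range 4, ∑ c ∈ Finset.range 4,
    ((-1 : k) ^ (a + b + c) * ((3 : ℕ).choose a : k) * ((3 : ℕ).choose b : k) * ((3 : ℕ).choose c : k)) •
      (lam j p hr (a + (3 - c))).smulRight ((lam j p hr (3 - a + b)).smulRight (lam j p hr (3 - b + c)))

theorem tri_pL (h7 : 7 ≤ p) (c d e : E × E) :
    tri j p hr (pL j 6 c) (pL j 6 d) (pL j 6 e) = (j (dt c d) * j (dt d e) * j (dt e c)) ^ 3 := by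
  unfold tri
  simp only [LinearMap.sum_apply, LinearMap.smul_apply, LinearMap.smulRight_apply, smul_eq_mul]
  have h1 : ∀ a ∈ Finset.range 4, ∀ b ∈ Finset.range 4, ∀ l ∈ Finset.range 4,
      ((-1 : k) ^ (a + b + l) * ((3 : ℕ).choose a : k) * ((3 : ℕ).choose b : k) * ((3 : ℕ).choose l : k)) *
        (lam j p hr (a + (3 - l)) (pL j 6 c) * (lam j p hr (3 - a + b) (pL j 6 d) * lam j p hr (3 - b + l) (pL j 6 e))) =
      ((-(j c.2 * j d.1)) ^ a * (j c.1 * j d.2) ^ (3 - a) * ((3 : ℕ).choose a : k)) *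
      ((-(j d.2 * j e.1)) ^ b * (j d.1 * j e.2) ^ (3 - b) * ((3 : ℕ).choose b : k)) *
      ((-(j e.2 * j c.1)) ^ l * (j e.1 * j c.2) ^ (3 - l) * ((3 : ℕ).choose l : k)) := by
    intro a ha b hb l hl
    rw [Finset.mem_range] at ha hb hl
    rw [lam_pL j p hr h7 (by omega), lam_pL j p hr h7 (by omega), lam_pL j p hr h7 (by omega)]
    have e1 : 6 - (a + (3 - l)) = (3 - a) + l := by omega
    have e2 : 6 - (3 - a + b) = a + (3 - b) := by omega
    have e3 : 6 - (3 - b + l) = b + (3 - l) := by omega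
    rw [e1, e2, e3]
    simp only [neg_pow (j c.2 * j d.1), neg_pow (j d.2 * j e.1), neg_pow (j e.2 * j c.1), pow_add, mul_pow]
    ring
  rw [Finset.sum_congr rfl fun a ha => Finset.sum_congr rfl fun b hb => Finset.sum_congr rfl fun l hl =>
    h1 a ha b hb l hl]
  simp only [← Finset.mul_sum, ← Finset.sum_mul]
  have h2 : ∀ x y : k, ∑ m ∈ Finset.range 4, (-x) ^ m * y ^ (3 - m) * ((3 : ℕ).choose m : k) = (y - x) ^ 3 := by
    intro x y
    rw [show y - x = -x + y by ring, add_pow]
  rw [h2, h2, h2]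
  unfold dt
  simp only [map_sub, map_mul]
  ring

theorem span_ind {q : L j 6 → Prop} (x : L j 6) (h1 : ∀ c, q (pL j 6 c)) (h0 : q 0) (hadd : ∀ x y, q x → q y → q (x + y))
    (hs : ∀ (a : k) x, q x → q (a • x)) : q x := by
  have hx : x ∈ Submodule.span k (Set.range (pL j 6)) := by rw [span_pL]; trivial
  induction hx using Submodule.span_induction with
  | mem x hx =>
    obtain ⟨c, rfl⟩ := hx
    exact h1 c
  | zero => exact h0
  | add x y _ _ hx hy => exact hadd x y hx hy
  | smul a x _ hx => exact hs a x hx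

/-- two trilinear maps equal on the generators -/
theorem ext_tri {f g : L j 6 →ₗ[k] L j 6 →ₗ[k] L j 6 →ₗ[k] k}
    (h : ∀ c d e, f (pL j 6 c) (pL j 6 d) (pL j 6 e) = g (pL j 6 c) (pL j 6 d) (pL j 6 e)) : f = g := by
  refine LinearMap.ext fun x => LinearMap.ext fun y => LinearMap.ext fun z => ?_
  refine span_ind j (q := fun x => f x y z = g x y z) x (fun c => ?_) ?_ (fun x x' h h' => ?_) fun a x h => ?_
  · refine span_ind j (q := fun y => f (pL j 6 c) y z = g (pL j 6 c) y z) y (fun d => ?_) ?_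
      (fun x x' h h' => ?_) fun a x h => ?_
    · refine span_ind j (q := fun z => f (pL j 6 c) (pL j 6 d) z = g (pL j 6 c) (pL j 6 d) z) z (fun e => h c d e) ?_
        (fun x x' h h' => ?_) fun a x h => ?_
      · rw [map_zero, map_zero]
      · rw [map_add, map_add, h, h']
      · rw [map_smul, map_smul, h]
    · rw [map_zero, map_zero]
    · rw [map_add, map_add, LinearMap.add_apply, LinearMap.add_apply, h, h']
    · rw [map_smul, map_smul, LinearMap.smul_apply, LinearMap.smul_apply, h]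
  · rw [map_zero, map_zero]
  · rw [map_add, map_add, LinearMap.add_apply, LinearMap.add_apply, LinearMap.add_apply, LinearMap.add_apply, h, h']
  · rw [map_smul, map_smul, LinearMap.smul_apply, LinearMap.smul_apply, LinearMap.smul_apply, LinearMap.smul_apply, h]

/-- precomposition -/
def comp3 {V W : Type*} [AddCommGroup V] [Module k V] [AddCommGroup W] [Module k W] (f : W →ₗ[k] W →ₗ[k] W →ₗ[k] k)
    (A : V →ₗ[k] W) : V →ₗ[k] V →ₗ[k] V →ₗ[k] k where
  toFun x := (f (A x)).compl₁₂ A A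
  map_add' x y := by
    ext u v
    simp only [map_add, LinearMap.compl₁₂_apply, LinearMap.add_apply]
  map_smul' c x := by
    ext u v
    simp only [map_smul, LinearMap.compl₁₂_apply, LinearMap.smul_apply, RingHom.id_apply]

theorem comp3_apply {V W : Type*} [AddCommGroup V] [Module k V] [AddCommGroup W] [Module k W]
    (f : W →ₗ[k] W →ₗ[k] W →ₗ[k] k) (A : V →ₗ[k] W) (x y z : V) : comp3 f A x y z = f (A x) (A y) (A z) := rfl

theorem tri_act (h7 : 7 ≤ p) {A : Matrix (Fin 2) (Fin 2) E} (hA : A.det = 1) (x y z : L j 6) :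
    tri j p hr (actL j 6 A x) (actL j 6 A y) (actL j 6 A z) = tri j p hr x y z := by
  have h : comp3 (tri j p hr) (actL j 6 A) = tri j p hr := by
    refine ext_tri j fun c d e => ?_
    rw [comp3_apply, actL_pL, actL_pL, actL_pL, tri_pL j p hr h7, tri_pL j p hr h7, dt_mvM, dt_mvM, dt_mvM, hA,
      one_mul, one_mul, one_mul]
  rw [← comp3_apply, h]

theorem tri_swap12 (h7 : 7 ≤ p) (x y z : L j 6) : tri j p hr y x z = - tri j p hr x y z := by
  have h : (tri j p hr).flip = (-1 : k) • tri j p hr := by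
    refine ext_tri j fun c d e => ?_
    rw [LinearMap.flip_apply, LinearMap.smul_apply, LinearMap.smul_apply, LinearMap.smul_apply, tri_pL j p hr h7,
      tri_pL j p hr h7, dt_comm c d, dt_comm e c, dt_comm d e, smul_eq_mul]
    simp only [map_neg]
    ring
  have h1 : (tri j p hr).flip x y z = ((-1 : k) • tri j p hr) x y z := by rw [h]
  rw [LinearMap.flip_apply, LinearMap.smul_apply, LinearMap.smul_apply, LinearMap.smul_apply, smul_eq_mul] at h1
  rw [h1]
  ring

theorem tri_swap23 (h7 : 7 ≤ p) (x y z : L j 6) : tri j p hr x z y = - tri j p hr x y z := by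
  let g : L j 6 →ₗ[k] L j 6 →ₗ[k] L j 6 →ₗ[k] k := LinearMap.lflip.comp (tri j p hr)
  have h : g = (-1 : k) • tri j p hr := by
    refine ext_tri j fun c d e => ?_
    change tri j p hr (pL j 6 c) (pL j 6 e) (pL j 6 d) = _
    rw [LinearMap.smul_apply, LinearMap.smul_apply, LinearMap.smul_apply, tri_pL j p hr h7,
      tri_pL j p hr h7, dt_comm e c, dt_comm d e, dt_comm c d, smul_eq_mul]
    simp only [map_neg]
    ring
  have h1 : g x y z = ((-1 : k) • tri j p hr) x y z := by rw [h]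
  rw [LinearMap.smul_apply, LinearMap.smul_apply, LinearMap.smul_apply, smul_eq_mul] at h1
  change g x y z = _
  rw [h1]
  ring

theorem two_ne (h7 : 7 ≤ p) : (2 : k) ≠ 0 := by
  intro h
  have h1 : ((2 : ℕ) : k) = 0 := by exact_mod_cast h
  have h2 := Nat.le_of_dvd (by norm_num) ((CharP.cast_eq_zero_iff k p 2).1 h1)
  omega

theorem tri_self (h7 : 7 ≤ p) (x y : L j 6) : tri j p hr x x y = 0 := by
  have h := tri_swap12 j p hr h7 x x y
  have h2 := two_ne (k := k) p h7
  have h3 : (2 : k) * tri j p hr x x y = 0 := by linear_combination h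
  exact (mul_eq_zero.1 h3).resolve_left h2

theorem tri_self' (h7 : 7 ≤ p) (x y : L j 6) : tri j p hr x y y = 0 := by
  have h := tri_swap23 j p hr h7 x y y
  have h2 := two_ne (k := k) p h7
  have h3 : (2 : k) * tri j p hr x y y = 0 := by linear_combination h
  exact (mul_eq_zero.1 h3).resolve_left h2

theorem tri_one (h7 : 7 ≤ p) : tri j p hr (pL j 6 (1, 0)) (pL j 6 (0, 1)) (pL j 6 (1, 1)) = 1 := by
  rw [tri_pL j p hr h7]
  unfold dt
  simp

end form

/-! ### Frobenius twists -/

section twist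

variable {E : Type u} [Field E] [Fintype E] {k : Type v} [Field k] (j : E →+* k) (p : ℕ) [hp : Fact p.Prime] [CharP k p]
  {V : Type w} [AddCommGroup V] [Module k V] {R : SpecialLinearGroup (Fin 2) E →* Module.End k V}

theorem pw_twist (t c : ℕ) (v : E × E) : pw j (p ^ t * c) v = pw ((iterateFrobenius k p t).comp j) c v := by
  funext w
  unfold pw
  rw [RingHom.comp_apply, iterateFrobenius_def, pow_mul]

theorem L_twist (t c : ℕ) : L j (p ^ t * c) = L ((iterateFrobenius k p t).comp j) c := by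
  unfold L
  rw [show pw j (p ^ t * c) = pw ((iterateFrobenius k p t).comp j) c from funext fun v => pw_twist j p t c v]

/-- the exponent `p ^ t * c` for `j` is the exponent `c` for `j` followed by a power of the Frobenius map -/
theorem isModel_twist {t c : ℕ} {Φ : V →ₗ[k] (E × E → k)} (hM : IsModel j R (p ^ t * c) Φ) :
    IsModel ((iterateFrobenius k p t).comp j) R c Φ where
  ne_zero := by
    rintro rfl
    exact hM.ne_zero (mul_zero _)
  le := le_trans (Nat.le_mul_of_pos_left c (pow_pos hp.out.pos t)) hM.le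
  inj := hM.inj
  act := hM.act
  range := by rw [hM.range, L_twist]

end twist

/-! ### the seven-dimensional orthogonal groups -/

section final

variable {ι : Type} [Fintype ι] [DecidableEq ι] {F : Type u} [Field F] [Fintype F] {E : Type w} [Field E] [Fintype E]
  {H P : Subgroup (GL ι F)} (p : ℕ) [hp : Fact p.Prime] [CharP E p] [CharP F p]

theorem tri_of_model {θ : SpecialLinearGroup (Fin 2) E →* P} (hθ : Function.Surjective θ) {J : E →+* F} (h7 : 7 ≤ p)
    {Φ : (ι → F) →ₗ[F] (E × E → F)} (hM : IsModel J (lin (P.subtype.comp θ) (RingHom.id F)) 6 Φ) :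
    ∃ f : (ι → F) →ₗ[F] (ι → F) →ₗ[F] (ι → F) →ₗ[F] F, f ≠ 0 ∧ (∀ x y, f x x y = 0) ∧ (∀ x y, f x y y = 0) ∧
      ∀ g ∈ P, ∀ x y z, f ((g : Matrix ι ι F) *ᵥ x) ((g : Matrix ι ι F) *ᵥ y) ((g : Matrix ι ι F) *ᵥ z) = f x y z := by
  refine ⟨comp3 (tri J p hM.le) (psiK hM).toLinearMap, fun h => ?_, fun x y => tri_self J p hM.le h7 _ _,
    fun x y => tri_self' J p hM.le h7 _ _, fun g hg x y z => ?_⟩
  · have h1 := congrArg (fun f => f ((psiK hM).symm (pL J 6 (1, 0))) ((psiK hM).symm (pL J 6 (0, 1)))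
      ((psiK hM).symm (pL J 6 (1, 1)))) h
    have h2 : tri J p hM.le (psiK hM ((psiK hM).symm (pL J 6 (1, 0)))) (psiK hM ((psiK hM).symm (pL J 6 (0, 1))))
      (psiK hM ((psiK hM).symm (pL J 6 (1, 1)))) = 0 := h1
    rw [LinearEquiv.apply_symm_apply, LinearEquiv.apply_symm_apply, LinearEquiv.apply_symm_apply,
      tri_one J p hM.le h7] at h2
    exact one_ne_zero h2
  · obtain ⟨a, ha⟩ := hθ ⟨g, hg⟩
    have h1 : ∀ x : ι → F, psiK hM ((g : Matrix ι ι F) *ᵥ x) = actL J 6 a.1 (psiK hM x) := by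
      intro x
      rw [← psiK_lin]
      congr 1
      rw [lin_apply', MonoidHom.comp_apply, ha]
      congr 1
    rw [comp3_apply, comp3_apply]
    change tri J p hM.le (psiK hM _) (psiK hM _) (psiK hM _) = tri J p hM.le (psiK hM _) (psiK hM _) (psiK hM _)
    rw [h1, h1, h1, tri_act J p hM.le h7 a.2]

include hp in
/-- **Dimension 7, socle `PSL_2(E)`, defining characteristic: an alternating trilinear form is fixed.** -/
theorem tri_seven {Q : (ι → F) → F} (h2 : (2 : F) ≠ 0) (hQ : IsNondegenerateQuadraticForm Q) (hn : Fintype.card ι = 7)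
    (hH : IsMaximalIn (omegaGL Q) H) (hc : IsResidualCore H P) (e : Soc P ≃* ProjectiveSpecialLinearGroup (Fin 2) E) :
    ∃ f : (ι → F) →ₗ[F] (ι → F) →ₗ[F] (ι → F) →ₗ[F] F, f ≠ 0 ∧ (∀ x y, f x x y = 0) ∧ (∀ x y, f x y y = 0) ∧
      ∀ g ∈ P, ∀ x y z, f ((g : Matrix ι ι F) *ᵥ x) ((g : Matrix ι ι F) *ᵥ y) ((g : Matrix ι ι F) *ᵥ z) = f x y z := by
  have hEF := card_eq_of_not_pow p (core_of_residual hc) e (PslRows.not_pow (by rw [hn]; omega))
  obtain ⟨θ, J, t, c, Φ, hsurj, -, hc0, hcp, hcard, hM⟩ := omega_single p h2 hQ (by omega) hH hc e hEF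
  have hc6 : c = 6 := by omega
  subst hc6
  exact tri_of_model p hsurj (by omega) (isModel_twist (J : E →+* F) p hM)

end final

end Cfsg.Agent.H875.TriSeven
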