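import Cfsg.Agent.H875.FnModel

/-!
# The modules `L(r)` of `SL_2(E)`: monomials (helper875)

`mono j a b = X^a Y^b` as a function on `E × E`; `SS p r = {m ≤ r : p ∤ C(r, m)}`.

* `mono_mem` : `X^(r-m) Y^m ∈ L(r)` for `m ∈ SS p r`, `r ≤ q - 1`;
* `L_eq_span` : `L(r)` is spanned by these monomials; `linInd` : they are linearly independent;
* `finrank_L` : `dim L(r) = |SS p r|`;
* `mono_mem_span_Lo` : the translates of `X^r` by the lower unipotent group span `L(r)`;
* `eq_smul_of_fixed` : the vectors of `L(r)` fixed by `U` are the multiples of `X^r`.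
-/

set_option autoImplicit false
set_option linter.unusedSectionVars false
set_option linter.unusedSimpArgs false

namespace Cfsg.Agent.H875.Fn

open Matrix Cfsg.Agent.H911.SLTwo

universe u v w

/-- the exponents of `L(r)` -/
def SS (p r : ℕ) : Finset ℕ := (Finset.range (r + 1)).filter fun m => ¬ p ∣ r.choose m

theorem mem_SS {p r m : ℕ} : m ∈ SS p r ↔ m ≤ r ∧ ¬ p ∣ r.choose m := by
  unfold SS
  rw [Finset.mem_filter, Finset.mem_range, Nat.lt_succ_iff]

section mono

variable {E : Type u} [Field E] {k : Type v} [Field k] (j : E →+* k)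

/-- the monomial `X^a Y^b` -/
def mono (a b : ℕ) : E × E → k := fun v => j v.1 ^ a * j v.2 ^ b

theorem mono_apply (a b : ℕ) (x y : E) : mono j a b (x, y) = j x ^ a * j y ^ b := rfl

theorem pw_one_zero (r : ℕ) : pw j r (1, 0) = mono j r 0 := by
  funext v
  unfold pw mono
  simp

theorem pw_eq_sum (r : ℕ) (c : E × E) :
    pw j r c = ∑ m ∈ Finset.range (r + 1), (j c.2 ^ m) • ((j c.1 ^ (r - m) * (r.choose m : k)) • mono j (r - m) m) := by
  funext v
  rw [Finset.sum_apply]
  unfold pw
  rw [map_add, map_mul, map_mul, add_comm (j v.1 * j c.1), add_pow]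
  refine Finset.sum_congr rfl fun m _ => ?_
  simp only [Pi.smul_apply, smul_eq_mul, mono]
  ring

/-- `C(r, m) X^(r-m) Y^m` -/
def wm (r m : ℕ) : E × E → k := (r.choose m : k) • mono j (r - m) m

theorem act_Lo_pw (t : E) (r : ℕ) :
    act E k (Lo t) (pw j r (1, 0)) = ∑ m ∈ Finset.range (r + 1), (j t ^ m) • wm j r m := by
  rw [act_pw]
  have h1 : mv (Lo t) ((1 : E), (0 : E)) = (1, t) := by
    unfold mv
    rw [Lo00, Lo01, Lo10, Lo11]
    simp
  rw [h1, pw_eq_sum]
  refine Finset.sum_congr rfl fun m _ => ?_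
  unfold wm
  simp

variable [Fintype E]

/-- interpolation: if all the values `∑ t^m w_m` are in `N`, the coefficients are in `N` -/
theorem coeff_mem {M : Type w} [AddCommGroup M] [Module k M] (N : Submodule k M) {r : ℕ} (hr : r ≤ Fintype.card E - 1)
    (c : ℕ → M) (h : ∀ t : E, ∑ m ∈ Finset.range (r + 1), (j t ^ m) • c m ∈ N) {m : ℕ} (hm : m ≤ r) : c m ∈ N := by
  have hq := two_le_card (E := E)
  by_cases hm0 : m = 0
  · subst hm0
    have h1 := h 0
    rw [Finset.sum_eq_single 0] at h1
    · rwa [pow_zero, one_smul] at h1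
    · intro b _ hb
      rw [map_zero, zero_pow hb, zero_smul]
    · intro h2
      exact absurd (Finset.mem_range.2 (by omega)) h2
  · have h1 : ∑ t : E, (j t ^ (Fintype.card E - 1 - m)) • ∑ i ∈ Finset.range (r + 1), (j t ^ i) • c i ∈ N :=
      N.sum_mem fun t _ => N.smul_mem _ (h t)
    have h2 : ∑ t : E, (j t ^ (Fintype.card E - 1 - m)) • ∑ i ∈ Finset.range (r + 1), (j t ^ i) • c i = - c m := by
      simp only [Finset.smul_sum, smul_smul, ← pow_add]
      rw [Finset.sum_comm]
      rw [Finset.sum_eq_single m]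
      · rw [← Finset.sum_smul]
        have h3 : Fintype.card E - 1 - m + m = Fintype.card E - 1 := by omega
        rw [h3, sum_map_pow j (by omega), if_pos (dvd_refl _), neg_one_smul]
      · intro i hi hne
        rw [← Finset.sum_smul]
        rw [Finset.mem_range] at hi
        by_cases h0 : Fintype.card E - 1 - m + i = 0
        · rw [h0]
          simp only [pow_zero]
          rw [Finset.sum_const, Finset.card_univ, nsmul_eq_mul, card_cast_zero j, zero_mul, zero_smul]
        · rw [sum_map_pow j h0, if_neg, zero_smul]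
          rintro ⟨d, hd⟩
          have hd1 : d < 2 := by
            by_contra hd2
            have : (Fintype.card E - 1) * 2 ≤ (Fintype.card E - 1) * d := Nat.mul_le_mul_left _ (by omega)
            omega
          interval_cases d
          · omega
          · apply hne; omega
      · intro h3
        exact absurd (Finset.mem_range.2 (by omega)) h3
    rw [h2] at h1
    simpa using N.neg_mem h1

variable (p : ℕ) [hp : Fact p.Prime] [CharP k p]

include hp in
theorem choose_ne_zero {r m : ℕ} (hm : m ∈ SS p r) : ((r.choose m : ℕ) : k) ≠ 0 := by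
  rw [Ne, CharP.cast_eq_zero_iff k p]
  exact (mem_SS.1 hm).2

/-- the translates of `X^r` by the lower unipotent group span -/
theorem mono_mem_span_Lo {r : ℕ} (hr : r ≤ Fintype.card E - 1) {N : Submodule k (E × E → k)}
    (hN : ∀ t : E, act E k (Lo t) (pw j r (1, 0)) ∈ N) {m : ℕ} (hm : m ∈ SS p r) : mono j (r - m) m ∈ N := by
  have h1 := coeff_mem j N hr (wm j r) (fun t => by rw [← act_Lo_pw]; exact hN t) (mem_SS.1 hm).1
  have h2 := N.smul_mem (((r.choose m : ℕ) : k)⁻¹) h1
  unfold wm at h2
  rwa [smul_smul, inv_mul_cancel₀ (choose_ne_zero p hm), one_smul] at h2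

theorem pw_mem_L (r : ℕ) (c : E × E) : pw j r c ∈ L j r := Submodule.subset_span ⟨c, rfl⟩

theorem mono_mem {r : ℕ} (hr : r ≤ Fintype.card E - 1) {m : ℕ} (hm : m ∈ SS p r) : mono j (r - m) m ∈ L j r :=
  mono_mem_span_Lo j p hr (fun t => act_L j _ r (pw_mem_L j r _)) hm

/-- `L(r)` is spanned by the monomials -/
theorem L_le_span (r : ℕ) : L j r ≤ Submodule.span k ((fun m => mono j (r - m) m) '' (SS p r : Set ℕ)) := by
  conv_lhs => unfold L
  rw [Submodule.span_le]
  rintro _ ⟨c, rfl⟩
  rw [pw_eq_sum]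
  refine Submodule.sum_mem _ fun m hm => ?_
  by_cases h : m ∈ SS p r
  · exact Submodule.smul_mem _ _ (Submodule.smul_mem _ _ (Submodule.subset_span ⟨m, h, rfl⟩))
  · have h1 : ((r.choose m : ℕ) : k) = 0 := by
      rw [CharP.cast_eq_zero_iff k p]
      by_contra h2
      exact h (mem_SS.2 ⟨Nat.lt_succ_iff.1 (Finset.mem_range.1 hm), h2⟩)
    rw [h1, mul_zero, zero_smul, smul_zero]
    exact Submodule.zero_mem _

theorem L_eq_span {r : ℕ} (hr : r ≤ Fintype.card E - 1) :
    L j r = Submodule.span k ((fun m => mono j (r - m) m) '' (SS p r : Set ℕ)) := by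
  apply le_antisymm (L_le_span j p r)
  rw [Submodule.span_le]
  rintro _ ⟨m, hm, rfl⟩
  exact mono_mem j p hr hm

/-- the monomials `X^(r-m) Y^m`, `m ≤ r ≤ q - 1`, are linearly independent -/
theorem eq_zero_of_sum {r : ℕ} (hr : r ≤ Fintype.card E - 1) (c : ℕ → k)
    (h : ∀ t : E, ∑ m ∈ Finset.range (r + 1), c m * mono j (r - m) m (1, t) = 0) {m : ℕ} (hm : m ≤ r) : c m = 0 := by
  have h1 := coeff_mem (M := k) j (⊥ : Submodule k k) hr c (fun t => by
    rw [Submodule.mem_bot, ← h t]
    refine Finset.sum_congr rfl fun m _ => ?_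
    rw [mono_apply, map_one, one_pow, one_mul, smul_eq_mul, mul_comm]) hm
  exact (Submodule.mem_bot k).1 h1

theorem linInd {r : ℕ} (hr : r ≤ Fintype.card E - 1) :
    LinearIndependent k (fun m : SS p r => mono j (r - m) m) := by
  classical
  rw [Fintype.linearIndependent_iff]
  intro g hg m
  let c : ℕ → k := fun m => if h : m ∈ SS p r then g ⟨m, h⟩ else 0
  have h1 : ∀ t : E, ∑ m ∈ Finset.range (r + 1), c m * mono j (r - m) m (1, t) = 0 := by
    intro t
    have h2 := congrFun hg (1, t)
    rw [Finset.sum_apply] at h2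
    have h3 : ∑ m ∈ Finset.range (r + 1), c m * mono j (r - m) m (1, t) =
        ∑ m ∈ SS p r, c m * mono j (r - m) m (1, t) := by
      symm
      refine Finset.sum_subset (Finset.filter_subset _ _) fun m _ hm => ?_
      have : c m = 0 := dif_neg hm
      rw [this, zero_mul]
    rw [h3, ← Finset.sum_coe_sort]
    rw [← show (0 : E × E → k) (1, t) = 0 from rfl, ← h2]
    refine Finset.sum_congr rfl fun m _ => ?_
    have : c m = g m := dif_pos m.2
    rw [this]
    rfl
  have h2 := eq_zero_of_sum j hr c h1 (mem_SS.1 m.2).1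
  have h3 : c m = g m := dif_pos m.2
  rw [← h3]
  exact h2

/-- the basis of `L(r)` -/
noncomputable def bas {r : ℕ} (hr : r ≤ Fintype.card E - 1) : Module.Basis (SS p r) k (L j r) :=
  (Module.Basis.span (linInd j p hr)).map (LinearEquiv.ofEq _ _ (by
    rw [L_eq_span j p hr]
    congr 1
    ext f
    constructor
    · rintro ⟨m, rfl⟩
      exact ⟨m, m.2, rfl⟩
    · rintro ⟨m, hm, rfl⟩
      exact ⟨⟨m, hm⟩, rfl⟩))

theorem bas_apply {r : ℕ} (hr : r ≤ Fintype.card E - 1) (m : SS p r) :
    ((bas j p hr m : L j r) : E × E → k) = mono j (r - m) m := by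
  unfold bas
  rw [Module.Basis.map_apply, LinearEquiv.coe_ofEq_apply, Module.Basis.span_apply]

theorem finrank_L {r : ℕ} (hr : r ≤ Fintype.card E - 1) : Module.finrank k (L j r) = (SS p r).card := by
  rw [Module.finrank_eq_card_basis (bas j p hr), Fintype.card_coe]

/-- elements of `L(r)` in terms of monomials -/
theorem exists_coeff {r : ℕ} {f : E × E → k} (hf : f ∈ L j r) :
    ∃ c : ℕ → k, f = ∑ m ∈ Finset.range (r + 1), c m • mono j (r - m) m := by
  refine Submodule.span_induction (p := fun f _ => ∃ c : ℕ → k, f = ∑ m ∈ Finset.range (r + 1), c m • mono j (r - m) m)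
    ?_ ?_ ?_ ?_ hf
  · rintro _ ⟨c, rfl⟩
    refine ⟨fun m => j c.2 ^ m * (j c.1 ^ (r - m) * (r.choose m : k)), ?_⟩
    rw [pw_eq_sum]
    refine Finset.sum_congr rfl fun m _ => ?_
    rw [smul_smul]
  · exact ⟨fun _ => 0, by simp⟩
  · rintro f g _ _ ⟨c, rfl⟩ ⟨d, rfl⟩
    refine ⟨fun m => c m + d m, ?_⟩
    rw [← Finset.sum_add_distrib]
    exact Finset.sum_congr rfl fun m _ => (add_smul _ _ _).symm
  · rintro a f _ ⟨c, rfl⟩
    refine ⟨fun m => a * c m, ?_⟩
    rw [Finset.smul_sum]
    exact Finset.sum_congr rfl fun m _ => smul_smul _ _ _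

/-- the vectors fixed by the upper unipotent group -/
theorem eq_smul_of_fixed {r : ℕ} (hr : r ≤ Fintype.card E - 1) {f : E × E → k} (hf : f ∈ L j r)
    (hU : ∀ t : E, act E k (U t) f = f) : ∃ a : k, f = a • mono j r 0 := by
  obtain ⟨c, rfl⟩ := exists_coeff j hf
  set f : E × E → k := ∑ m ∈ Finset.range (r + 1), c m • mono j (r - m) m with hfd
  have h1 : ∀ t : E, f (1, t) = f (1, 0) := by
    intro t
    have h2 := congrFun (hU t) (1, 0)
    rw [act_apply, vm_U] at h2
    rw [one_mul, add_zero] at h2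
    exact h2
  have h2 : ∀ t : E, f (1, t) = ∑ m ∈ Finset.range (r + 1), c m * mono j (r - m) m (1, t) := by
    intro t
    rw [hfd, Finset.sum_apply]
    rfl
  have h0 : ∀ t : E, f (1, 0) = ∑ m ∈ Finset.range (r + 1), (if m = 0 then f (1, 0) else 0) * mono j (r - m) m (1, t) := by
    intro t
    rw [Finset.sum_eq_single 0]
    · rw [if_pos rfl, mono_apply, map_one, one_pow, pow_zero, mul_one, mul_one]
    · intro b _ hb
      rw [if_neg hb, zero_mul]
    · intro h
      exact absurd (Finset.mem_range.2 (by omega)) h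
  have h3 : ∀ m, m ≤ r → c m - (if m = 0 then f (1, 0) else 0) = 0 := by
    intro m hm
    refine eq_zero_of_sum j hr (fun m => c m - (if m = 0 then f (1, 0) else 0)) (fun t => ?_) hm
    simp only [sub_mul]
    rw [Finset.sum_sub_distrib, ← h2, ← h0, h1, sub_self]
  refine ⟨c 0, ?_⟩
  rw [hfd, Finset.sum_eq_single 0]
  · rw [Nat.sub_zero]
  · intro b hb hb0
    have h4 := h3 b (by rw [Finset.mem_range] at hb; omega)
    rw [if_neg hb0, sub_zero] at h4
    rw [h4, zero_smul]
  · intro h
    exact absurd (Finset.mem_range.2 (by omega)) h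

end mono

end Cfsg.Agent.H875.Fn
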