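import Cfsg.Agent.H875.SpDec

/-!
A subgroup of the symplectic group over a field with more than two elements containing the full
transvection groups of a connected spanning set of vectors is the whole group.
-/

set_option autoImplicit false
open Cfsg
open scoped Matrix
open Cfsg.Agent.ClassicalGeometry.SympBasic Cfsg.Agent.ClassicalGeometry.SympSiegel

namespace Cfsg.Agent.H875

variable {F : Type*} [Field F] {m : ℕ}

local notation "V" => (Fin m ⊕ Fin m → F)
local notation "G" => Matrix.symplecticGroup (Fin m) F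
local notation "f" => sympForm m F

theorem Full.comb {M : Subgroup G} {u v : V} (hu : Full M u) (hv : Full M v)
    (h : f u v ≠ 0) (a b : F) : Full M (a • u + b • v) := by
  by_cases ha : a = 0
  · rw [ha, zero_smul, zero_add]; exact hv.smul_vec b
  · apply (hu.smul_vec a).add_smul hv
    rw [sympForm_smul_left]
    exact mul_ne_zero ha h

/-- A plane spanned by two non-orthogonal vectors is non-degenerate. -/
theorem nondeg_pair {u v : V} (h : f u v ≠ 0) :
    Cfsg.Geo.IsNondegenerateOn f (Submodule.span F {u, v}) := by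
  intro w hw hw0
  obtain ⟨a, b, rfl⟩ := Submodule.mem_span_pair.1 hw
  have hu : u ∈ Submodule.span F {u, v} := Submodule.subset_span (by simp)
  have hv : v ∈ Submodule.span F {u, v} := Submodule.subset_span (by simp)
  have key : ∃ x ∈ Submodule.span F {u, v}, f (a • u + b • v) x ≠ 0 := by
    by_cases ha : a = 0
    · refine ⟨u, hu, ?_⟩
      have hb : b ≠ 0 := by
        rintro rfl
        rw [ha, zero_smul, zero_smul, add_zero] at hw0
        exact hw0 rfl
      rw [ha, zero_smul, zero_add, sympForm_smul_left, sympForm_swap]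
      exact mul_ne_zero hb (neg_ne_zero.2 h)
    · refine ⟨v, hv, ?_⟩
      rw [sympForm_add_left, sympForm_smul_left, sympForm_smul_left, sympForm_self, mul_zero,
        add_zero]
      exact mul_ne_zero ha h
  obtain ⟨x, hx, hx'⟩ := key
  exact ⟨⟨x, hx, by rw [sympForm_swap]; exact neg_ne_zero.2 hx'⟩, ⟨x, hx, hx'⟩⟩

/-- Projection to a non-degenerate subspace. -/
theorem exists_split {W : Submodule F V} (hW : Cfsg.Geo.IsNondegenerateOn f W) (x : V) :
    ∃ w ∈ W, ∃ u : V, x = w + u ∧ ∀ y ∈ W, f y u = 0 := by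
  let B : LinearMap.BilinForm F V := sympBilin m F
  have hrefl : B.IsRefl := fun a b h => by
    change f b a = 0
    exact form_eq_zero_comm.1 h
  have hnd : (B.restrict W).Nondegenerate := by
    constructor
    · intro a ha
      by_contra hne
      have h0 : (a : V) ≠ 0 := fun h => hne (Subtype.ext h)
      obtain ⟨-, y, hy, hay⟩ := hW a a.2 h0
      exact hay (ha ⟨y, hy⟩)
    · intro a ha
      by_contra hne
      have h0 : (a : V) ≠ 0 := fun h => hne (Subtype.ext h)
      obtain ⟨⟨y, hy, hay⟩, -⟩ := hW a a.2 h0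
      exact hay (ha ⟨y, hy⟩)
  have hcompl := LinearMap.BilinForm.isCompl_orthogonal_of_restrict_nondegenerate hrefl hnd
  have hx : x ∈ W ⊔ B.orthogonal W := by rw [hcompl.sup_eq_top]; trivial
  obtain ⟨w, hw, u, hu, hwu⟩ := Submodule.mem_sup.1 hx
  exact ⟨w, hw, u, hwu.symm, fun y hy => hu y hy⟩

/-- The inductive step: a full non-degenerate subspace can be enlarged to everything. -/
theorem mcl_step {M : Subgroup G} (hs : ∃ s : F, s ≠ 0 ∧ s ≠ -1)
    (X : Set (Fin m ⊕ Fin m → F)) (hX : ∀ x ∈ X, Full M x)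
    (hsp : ∀ v : V, v ≠ 0 → ∃ x ∈ X, f v x ≠ 0)
    (hconn : ∀ W : Submodule F V, W ≠ ⊥ → W ≠ ⊤ → ∃ x ∈ X, x ∉ W ∧ ∃ w ∈ W, f w x ≠ 0)
    (W : Submodule F V) (hW : Cfsg.Geo.IsNondegenerateOn f W) (hne : W ≠ ⊥)
    (hfull : ∀ w ∈ W, Full M w) : ∀ v : V, Full M v := by
  induction W using WellFoundedGT.induction with
  | ind W ih =>
    by_cases htop : W = ⊤
    · intro v
      apply hfull
      rw [htop]
      trivial
    obtain ⟨x, hxX, hxW, w, hw, hwx⟩ := hconn W hne htop
    obtain ⟨w₀, hw₀, u₁, hxu, hu₁⟩ := exists_split hW x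
    have hw₀0 : w₀ ≠ 0 := by
      rintro rfl
      rw [hxu, zero_add] at hwx
      exact hwx (hu₁ w hw)
    have hu₁0 : u₁ ≠ 0 := by
      rintro rfl
      rw [add_zero] at hxu
      rw [hxu] at hxW
      exact hxW hw₀
    have hxfull : Full M (w₀ + u₁) := by rw [← hxu]; exact hX x hxX
    have hA := lemA hW hfull hw₀ hw₀0 hu₁ hxfull
    obtain ⟨y, hyX, hy⟩ := hsp u₁ hu₁0
    obtain ⟨w₁, hw₁, y₁, hyy, hy₁⟩ := exists_split hW y
    have huy : f u₁ y₁ ≠ 0 := by
      rw [hyy, sympForm_add_right, sympForm_swap u₁ w₁, hu₁ w₁ hw₁, neg_zero, zero_add] at hy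
      exact hy
    have hyfull : Full M (w₁ + y₁) := by rw [← hyy]; exact hX y hyX
    obtain ⟨z, hz, hz0⟩ := Submodule.exists_mem_ne_zero_of_ne_bot hne
    -- `u₁` and `y₁` are full
    have hboth : Full M u₁ ∧ Full M y₁ := by
      by_cases hw₁0 : w₁ = 0
      · rw [hw₁0, zero_add] at hyfull
        exact ⟨lemB (Or.inl hs) hu₁ hy₁ hyfull huy hA ⟨z, hz, hz0⟩, hyfull⟩
      · have hA' := lemA hW hfull hw₁ hw₁0 hy₁ hyfull
        have hcomb : ∀ s : F, s ≠ 0 → Full M (u₁ + s • y₁) := by
          intro s hs0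
          have h1 := hA (-s • z) (W.smul_mem _ hz) (smul_ne_zero (neg_ne_zero.2 hs0) hz0)
          have h2 : Full M ((-s • z + u₁) + s • (z + y₁)) := by
            apply h1.add_smul (hA' z hz hz0)
            rw [sympForm_add_left, sympForm_add_right, sympForm_add_right, sympForm_smul_left,
              sympForm_self, mul_zero, hy₁ _ (W.smul_mem _ hz), sympForm_swap u₁ z, hu₁ z hz,
              neg_zero, zero_add, zero_add, zero_add]
            exact huy
          convert h2 using 1
          module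
        obtain ⟨s, hs0, hs1⟩ := hs
        have hs1' : (1 + s : F) ≠ 0 := fun hh => hs1 (by linear_combination hh)
        have h1 := hcomb 1 one_ne_zero
        have h2 := hcomb (-s) (neg_ne_zero.2 hs0)
        have h3 : f (u₁ + (1 : F) • y₁) (u₁ + (-s) • y₁) ≠ 0 := by
          have : f (u₁ + (1 : F) • y₁) (u₁ + (-s) • y₁) = -((1 + s) * f u₁ y₁) := by
            simp only [sympForm_add_left, sympForm_add_right, sympForm_smul_left,
              sympForm_smul_right, sympForm_self, sympForm_swap y₁ u₁]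
            ring
          rw [this]
          exact neg_ne_zero.2 (mul_ne_zero hs1' huy)
        constructor
        · have h4 := h1.comb h2 h3 (1 - (1 + s)⁻¹) ((1 + s)⁻¹)
          convert h4 using 1
          have e : ((1 + s)⁻¹ * s : F) = 1 - (1 + s)⁻¹ := by
            field_simp
            ring
          have e2 : (1 - (1 + s)⁻¹) • (u₁ + (1 : F) • y₁) + (1 + s)⁻¹ • (u₁ + (-s) • y₁) =
              u₁ + ((1 - (1 + s)⁻¹) - (1 + s)⁻¹ * s) • y₁ := by module
          rw [e2, e, sub_self, zero_smul, add_zero]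
        · have h4 := h1.comb h2 h3 ((1 + s)⁻¹) (-(1 + s)⁻¹)
          convert h4 using 1
          have e2 : (1 + s)⁻¹ • (u₁ + (1 : F) • y₁) + (-(1 + s)⁻¹) • (u₁ + (-s) • y₁) =
              ((1 + s)⁻¹ * (1 + s)) • y₁ := by module
          rw [e2, inv_mul_cancel₀ hs1', one_smul]
    -- the enlarged subspace
    set W₁ : Submodule F V := Submodule.span F {u₁, y₁} with hW₁
    have hu₁W₁ : u₁ ∈ W₁ := Submodule.subset_span (by simp)
    have horth : ∀ a ∈ W, ∀ b ∈ W₁, f a b = 0 := by
      intro a ha b hb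
      obtain ⟨c, d, rfl⟩ := Submodule.mem_span_pair.1 hb
      rw [sympForm_add_right, sympForm_smul_right, sympForm_smul_right, hu₁ a ha, hy₁ a ha,
        mul_zero, mul_zero, add_zero]
    have hW₁full : ∀ v ∈ W₁, Full M v := by
      intro v hv
      obtain ⟨c, d, rfl⟩ := Submodule.mem_span_pair.1 hv
      exact hboth.1.comb hboth.2 huy c d
    have hW₁nd : Cfsg.Geo.IsNondegenerateOn f W₁ := nondeg_pair huy
    apply ih (W ⊔ W₁)
    · refine lt_of_le_of_ne le_sup_left ?_
      intro heq
      have h1 : u₁ ∈ W := by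
        rw [heq]
        exact Submodule.mem_sup_right hu₁W₁
      obtain ⟨⟨a, ha, hau⟩, -⟩ := hW u₁ h1 hu₁0
      exact hau (hu₁ a ha)
    · intro v hv hv0
      obtain ⟨a, ha, b, hb, rfl⟩ := Submodule.mem_sup.1 hv
      have key : ∃ z ∈ W ⊔ W₁, f (a + b) z ≠ 0 := by
        by_cases ha0 : a = 0
        · rw [ha0, zero_add] at hv0 ⊢
          obtain ⟨-, z, hz, hbz⟩ := hW₁nd b hb hv0
          exact ⟨z, Submodule.mem_sup_right hz, hbz⟩
        · obtain ⟨-, z, hz, haz⟩ := hW a ha ha0
          refine ⟨z, Submodule.mem_sup_left hz, ?_⟩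
          rw [sympForm_add_left, sympForm_swap b z, horth z hz b hb, neg_zero, add_zero]
          exact haz
      obtain ⟨z, hz, hz'⟩ := key
      exact ⟨⟨z, hz, by rw [sympForm_swap]; exact neg_ne_zero.2 hz'⟩, ⟨z, hz, hz'⟩⟩
    · intro h
      apply hne
      rw [eq_bot_iff, ← h]
      exact le_sup_left
    · intro v hv
      obtain ⟨a, ha, b, hb, rfl⟩ := Submodule.mem_sup.1 hv
      by_cases ha0 : a = 0
      · rw [ha0, zero_add]; exact hW₁full b hb
      by_cases hb0 : b = 0
      · rw [hb0, add_zero]; exact hfull a ha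
      have h1 : Full M (u₁ + a) := by
        rw [add_comm]
        exact hA a ha ha0
      have h2 := lemA hW₁nd hW₁full hu₁W₁ hu₁0 (fun c hc => by
        rw [sympForm_swap, horth a ha c hc, neg_zero]) h1 b hb hb0
      rw [add_comm]
      exact h2

/-- **Transvection groups of a connected spanning set generate the symplectic group.** -/
theorem full_of_connected {M : Subgroup G} (hs : ∃ s : F, s ≠ 0 ∧ s ≠ -1)
    (X : Set (Fin m ⊕ Fin m → F)) (hX : ∀ x ∈ X, Full M x)
    (hsp : ∀ v : V, v ≠ 0 → ∃ x ∈ X, f v x ≠ 0)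
    (hconn : ∀ W : Submodule F V, W ≠ ⊥ → W ≠ ⊤ → ∃ x ∈ X, x ∉ W ∧ ∃ w ∈ W, f w x ≠ 0) :
    ∀ v : V, Full M v := by
  intro v
  by_cases hv : v = 0
  · rw [hv]; exact full_zero M
  obtain ⟨x, hx, hvx⟩ := hsp v hv
  have hx0 : x ≠ 0 := by
    rintro rfl
    rw [sympForm_zero_right] at hvx
    exact hvx rfl
  obtain ⟨y, hy, hxy⟩ := hsp x hx0
  refine mcl_step hs X hX hsp hconn (Submodule.span F {x, y}) (nondeg_pair hxy) ?_ ?_ v
  · intro h
    apply hx0
    have : x ∈ Submodule.span F {x, y} := Submodule.subset_span (by simp)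
    rw [h] at this
    exact (Submodule.mem_bot F).1 this
  · intro w hw
    obtain ⟨c, d, rfl⟩ := Submodule.mem_span_pair.1 hw
    exact (hX x hx).comb (hX y hy) hxy c d

end Cfsg.Agent.H875
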