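import Cfsg.Agent.H875.FnIso
import Cfsg.Agent.H875.SSet

/-!
# The action of `GL_2(E)` and the invariant form on `L(r)` (helper875)

* `actM` : the monoid of all matrices acts on functions, `actL` : on `L j r`;
* `frm` : the bilinear form on `L j r` with `frm ((v·c)^r) ((v·d)^r) = j (det (c, d)) ^ r`; `frm_act`, `frm_symm`,
  `frm_nondeg`.
-/

set_option autoImplicit false
set_option linter.unusedSectionVars false
set_option linter.unusedSimpArgs false

namespace Cfsg.Agent.H875.Fn

open Matrix Cfsg.Agent.H911.SLTwo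

universe u v w

/-! ### matrices acting on functions -/

section mat

variable {E : Type u} [Field E] {k : Type v} [Field k] (j : E →+* k)

/-- right multiplication of a row by a matrix -/
def vmM (v : E × E) (A : Matrix (Fin 2) (Fin 2) E) : E × E :=
  (v.1 * A 0 0 + v.2 * A 1 0, v.1 * A 0 1 + v.2 * A 1 1)

/-- left multiplication of a column by a matrix -/
def mvM (A : Matrix (Fin 2) (Fin 2) E) (c : E × E) : E × E :=
  (A 0 0 * c.1 + A 0 1 * c.2, A 1 0 * c.1 + A 1 1 * c.2)

theorem vmM_one (v : E × E) : vmM v 1 = v := by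
  unfold vmM
  ext <;> simp

theorem vmM_mul (v : E × E) (A B : Matrix (Fin 2) (Fin 2) E) : vmM v (A * B) = vmM (vmM v A) B := by
  unfold vmM
  simp only [Matrix.mul_apply, Fin.sum_univ_two]
  ext <;> simp <;> ring

variable (E k) in
/-- the monoid of matrices acts on functions -/
def actM : Matrix (Fin 2) (Fin 2) E →* Module.End k (E × E → k) where
  toFun A := LinearMap.funLeft k k (fun v => vmM v A)
  map_one' := by
    ext f v
    simp [LinearMap.funLeft, vmM_one]
  map_mul' g h := by
    ext f v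
    simp [LinearMap.funLeft, vmM_mul]

theorem actM_apply (A : Matrix (Fin 2) (Fin 2) E) (f : E × E → k) (v : E × E) : actM E k A f v = f (vmM v A) := rfl

theorem actM_coe (g : SpecialLinearGroup (Fin 2) E) : actM E k g.1 = act E k g := rfl

theorem actM_pw (A : Matrix (Fin 2) (Fin 2) E) (r : ℕ) (c : E × E) : actM E k A (pw j r c) = pw j r (mvM A c) := by
  funext v
  rw [actM_apply]
  unfold pw vmM mvM
  congr 2
  ring

theorem actM_L (A : Matrix (Fin 2) (Fin 2) E) (r : ℕ) {f : E × E → k} (hf : f ∈ L j r) : actM E k A f ∈ L j r := by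
  have h1 : L j r ≤ (L j r).comap (actM E k A) := by
    conv_lhs => unfold L
    rw [Submodule.span_le]
    rintro _ ⟨c, rfl⟩
    change actM E k A (pw j r c) ∈ L j r
    rw [actM_pw]
    exact Submodule.subset_span ⟨_, rfl⟩
  exact h1 hf

/-- the action on `L j r` -/
def actL (r : ℕ) : Matrix (Fin 2) (Fin 2) E →* Module.End k (L j r) where
  toFun A := (actM E k A).restrict fun _ hf => actM_L j A r hf
  map_one' := by
    ext f : 2
    rw [LinearMap.coe_restrict_apply, map_one]
    rfl
  map_mul' A B := by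
    ext f : 2
    rw [LinearMap.coe_restrict_apply, map_mul]
    rfl

theorem coe_actL (r : ℕ) (A : Matrix (Fin 2) (Fin 2) E) (x : L j r) : (actL j r A x : E × E → k) = actM E k A x := rfl

/-- the determinant of two columns -/
def dt (c d : E × E) : E := c.1 * d.2 - c.2 * d.1

theorem dt_mvM (A : Matrix (Fin 2) (Fin 2) E) (c d : E × E) : dt (mvM A c) (mvM A d) = A.det * dt c d := by
  unfold dt mvM
  rw [Matrix.det_fin_two]
  ring

theorem dt_comm (c d : E × E) : dt d c = - dt c d := by
  unfold dt
  ring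

/-- the generators -/
def pL (r : ℕ) (c : E × E) : L j r := ⟨pw j r c, Submodule.subset_span ⟨c, rfl⟩⟩

theorem actL_pL (r : ℕ) (A : Matrix (Fin 2) (Fin 2) E) (c : E × E) : actL j r A (pL j r c) = pL j r (mvM A c) :=
  Subtype.ext (actM_pw j A r c)

theorem span_pL (r : ℕ) : Submodule.span k (Set.range (pL j r)) = ⊤ := by
  apply Submodule.map_injective_of_injective (f := (L j r).subtype) Subtype.val_injective
  rw [Submodule.map_span, Submodule.map_subtype_top, ← Set.range_comp]
  rfl

end mat

/-! ### the form -/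

section form

variable {E : Type u} [Field E] [Fintype E] {k : Type v} [Field k] (j : E →+* k) (p : ℕ) [hp : Fact p.Prime] [CharP k p]

theorem sub_mem_SS {r m : ℕ} (h : m ∈ SS p r) : r - m ∈ SS p r := by
  rw [mem_SS] at h ⊢
  exact ⟨Nat.sub_le _ _, by rw [Nat.choose_symm h.1]; exact h.2⟩

/-- the involution of the exponents -/
def cpl (r : ℕ) (m : SS p r) : SS p r := ⟨r - m, sub_mem_SS p m.2⟩

theorem pL_eq_sum {r : ℕ} (hr : r ≤ Fintype.card E - 1) (c : E × E) :
    pL j r c = ∑ m : SS p r, (j c.2 ^ (m : ℕ) * (j c.1 ^ (r - m) * (r.choose m : k))) • bas j p hr m := by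
  apply Subtype.ext
  rw [AddSubmonoidClass.coe_finsetSum]
  change pw j r c = _
  rw [pw_eq_sum]
  have h1 : ∑ m ∈ Finset.range (r + 1), (j c.2 ^ m) • ((j c.1 ^ (r - m) * (r.choose m : k)) • mono j (r - m) m) =
      ∑ m ∈ SS p r, (j c.2 ^ m) • ((j c.1 ^ (r - m) * (r.choose m : k)) • mono j (r - m) m) := by
    symm
    refine Finset.sum_subset (Finset.filter_subset _ _) fun m hm hm' => ?_
    have h2 : ((r.choose m : ℕ) : k) = 0 := by
      rw [CharP.cast_eq_zero_iff k p]
      by_contra h2
      exact hm' (mem_SS.2 ⟨Nat.lt_succ_iff.1 (Finset.mem_range.1 hm), h2⟩)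
    rw [h2, mul_zero, zero_smul, smul_zero]
  rw [h1, ← Finset.sum_coe_sort]
  refine Finset.sum_congr rfl fun m _ => ?_
  rw [Submodule.coe_smul, bas_apply, smul_smul]

/-- the bilinear form -/
noncomputable def frm {r : ℕ} (hr : r ≤ Fintype.card E - 1) : L j r →ₗ[k] L j r →ₗ[k] k :=
  (bas j p hr).constr k fun m => (bas j p hr).constr k fun m' =>
    if m' = cpl p r m then (-1) ^ (m : ℕ) * ((r.choose m : k))⁻¹ else 0

theorem frm_bas {r : ℕ} (hr : r ≤ Fintype.card E - 1) (m m' : SS p r) :
    frm j p hr (bas j p hr m) (bas j p hr m') = if m' = cpl p r m then (-1) ^ (m : ℕ) * ((r.choose m : k))⁻¹ else 0 := by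
  unfold frm
  rw [Module.Basis.constr_basis, Module.Basis.constr_basis]

theorem frm_pL {r : ℕ} (hr : r ≤ Fintype.card E - 1) (c d : E × E) :
    frm j p hr (pL j r c) (pL j r d) = j (dt c d) ^ r := by
  rw [pL_eq_sum j p hr c, map_sum, LinearMap.sum_apply, pL_eq_sum j p hr d]
  simp only [map_smul, LinearMap.smul_apply, map_sum, smul_eq_mul, frm_bas, mul_ite, mul_zero]
  simp only [Finset.sum_ite_eq', Finset.mem_univ, if_true]
  have h1 : j (dt c d) ^ r = ∑ m ∈ Finset.range (r + 1), (-(j c.2 * j d.1)) ^ m * (j c.1 * j d.2) ^ (r - m) *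
      (r.choose m : k) := by
    rw [← add_pow]
    congr 1
    unfold dt
    rw [map_sub, map_mul, map_mul]
    ring
  have h2 : ∑ m ∈ Finset.range (r + 1), (-(j c.2 * j d.1)) ^ m * (j c.1 * j d.2) ^ (r - m) * (r.choose m : k) =
      ∑ m ∈ SS p r, (-(j c.2 * j d.1)) ^ m * (j c.1 * j d.2) ^ (r - m) * (r.choose m : k) := by
    symm
    refine Finset.sum_subset (Finset.filter_subset _ _) fun m hm hm' => ?_
    have h2 : ((r.choose m : ℕ) : k) = 0 := by
      rw [CharP.cast_eq_zero_iff k p]
      by_contra h2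
      exact hm' (mem_SS.2 ⟨Nat.lt_succ_iff.1 (Finset.mem_range.1 hm), h2⟩)
    rw [h2, mul_zero]
  rw [h1, h2]
  refine Eq.trans ?_ (Finset.sum_coe_sort (SS p r) fun m : ℕ =>
    (-(j c.2 * j d.1)) ^ m * (j c.1 * j d.2) ^ (r - m) * (r.choose m : k))
  refine Finset.sum_congr rfl fun m _ => ?_
  have h3 : ((r.choose m : ℕ) : k) ≠ 0 := choose_ne_zero p m.2
  have h4 := (mem_SS.1 m.2).1
  have h5 : ((cpl p r m : SS p r) : ℕ) = r - m := rfl
  rw [h5, Nat.choose_symm h4, Nat.sub_sub_self h4]
  field_simp
  rw [neg_pow]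
  ring

/-- semi-invariance under `GL_2(E)` -/
theorem frm_act {r : ℕ} (hr : r ≤ Fintype.card E - 1) (A : Matrix (Fin 2) (Fin 2) E) (x y : L j r) :
    frm j p hr (actL j r A x) (actL j r A y) = j A.det ^ r * frm j p hr x y := by
  have hx : x ∈ Submodule.span k (Set.range (pL j r)) := by rw [span_pL]; trivial
  have hy : y ∈ Submodule.span k (Set.range (pL j r)) := by rw [span_pL]; trivial
  induction hx using Submodule.span_induction with
  | mem x hx =>
    obtain ⟨c, rfl⟩ := hx
    induction hy using Submodule.span_induction with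
    | mem y hy =>
      obtain ⟨d, rfl⟩ := hy
      rw [actL_pL, actL_pL, frm_pL, frm_pL, dt_mvM, map_mul, mul_pow]
    | zero => simp
    | add y y' _ _ hy hy' => rw [map_add, map_add, map_add, hy, hy', mul_add]
    | smul a y _ hy => rw [map_smul, map_smul, map_smul, hy, smul_eq_mul, smul_eq_mul]; ring
  | zero => simp
  | add x x' _ _ hx hx' =>
    rw [map_add, map_add, map_add, LinearMap.add_apply, LinearMap.add_apply, hx, hx', mul_add]
  | smul a x _ hx =>
    rw [map_smul, map_smul, map_smul, LinearMap.smul_apply, LinearMap.smul_apply, hx, smul_eq_mul, smul_eq_mul]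
    ring

theorem frm_symm {r : ℕ} (hr : r ≤ Fintype.card E - 1) (x y : L j r) :
    frm j p hr y x = (-1) ^ r * frm j p hr x y := by
  have hx : x ∈ Submodule.span k (Set.range (pL j r)) := by rw [span_pL]; trivial
  have hy : y ∈ Submodule.span k (Set.range (pL j r)) := by rw [span_pL]; trivial
  induction hx using Submodule.span_induction with
  | mem x hx =>
    obtain ⟨c, rfl⟩ := hx
    induction hy using Submodule.span_induction with
    | mem y hy =>
      obtain ⟨d, rfl⟩ := hy
      rw [frm_pL, frm_pL, dt_comm, map_neg, neg_pow]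
    | zero => simp
    | add y y' _ _ hy hy' => rw [map_add, map_add, LinearMap.add_apply, hy, hy', mul_add]
    | smul a y _ hy => rw [map_smul, map_smul, LinearMap.smul_apply, hy, smul_eq_mul, smul_eq_mul]; ring
  | zero => simp
  | add x x' _ _ hx hx' => rw [map_add, map_add, LinearMap.add_apply, hx, hx', mul_add]
  | smul a x _ hx => rw [map_smul, map_smul, LinearMap.smul_apply, hx, smul_eq_mul, smul_eq_mul]; ring

theorem frm_nondeg {r : ℕ} (hr : r ≤ Fintype.card E - 1) {x : L j r} (h : ∀ y, frm j p hr x y = 0) : x = 0 := by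
  rw [← (bas j p hr).sum_repr x] at h ⊢
  refine Finset.sum_eq_zero fun m _ => ?_
  have h1 := h (bas j p hr (cpl p r m))
  rw [map_sum, LinearMap.sum_apply] at h1
  simp only [map_smul, LinearMap.smul_apply, smul_eq_mul, frm_bas, mul_ite, mul_zero] at h1
  rw [Finset.sum_eq_single m] at h1
  · rw [if_pos rfl] at h1
    have h3 : ((r.choose m : ℕ) : k) ≠ 0 := choose_ne_zero p m.2
    rcases mul_eq_zero.1 h1 with h2 | h2
    · rw [h2, zero_smul]
    · exfalso
      rcases mul_eq_zero.1 h2 with h4 | h4
      · exact pow_ne_zero _ (neg_ne_zero.2 one_ne_zero) h4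
      · exact inv_ne_zero h3 h4
  · intro b _ hb
    rw [if_neg]
    intro h2
    apply hb
    apply Subtype.ext
    have h3 : (cpl p r m : ℕ) = cpl p r b := congrArg Subtype.val h2
    change r - (m : ℕ) = r - b at h3
    have h4 := (mem_SS.1 m.2).1
    have h5 := (mem_SS.1 b.2).1
    omega
  · intro h2
    exact absurd (Finset.mem_univ _) h2

end form

end Cfsg.Agent.H875.Fn
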