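import Cfsg.Agent.H875.FnField
import Cfsg.Agent.H875.FnForm
import Cfsg.Agent.ClassicalGeometry.AutPSL.Main

/-!
# The normaliser of a core covered by `SL_2(E)`, `|E| = |F|` (helper875)

`P ≤ GL(ι, F)` a core, `θ : SL_2(E) → P` onto over `e : Soc P ≃* PSL_2(E)`, `j : E → F` an isomorphism,
`ψ : F^ι ≃ L j r` equivariant. Every `h` normalising `P` is a scalar times the image of an element of `GL_2(E)`
(`exists_norm_GL`).
-/

set_option autoImplicit false
set_option linter.unusedSectionVars false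
set_option linter.unusedSimpArgs false

namespace Cfsg.Agent.H875.Fn

open Cfsg Cfsg.Geo Matrix Cfsg.Agent.H911.SLTwo
open scoped commutatorElement

universe u v w x y

/-! ### transport to matrices -/

section gl

variable {G : Type x} [Group G] {ι : Type} [Fintype ι] [DecidableEq ι] {k : Type v} [Field k]
  {W : Type y} [AddCommMonoid W] [Module k W] (ψ : (ι → k) ≃ₗ[k] W) (R : G →* Module.End k W)

/-- endomorphisms as matrices -/
noncomputable def mat : Module.End k W →* Matrix ι ι k where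
  toFun f := LinearMap.toMatrix' (ψ.symm.toLinearMap ∘ₗ f ∘ₗ ψ.toLinearMap)
  map_one' := by
    have h : ψ.symm.toLinearMap ∘ₗ (1 : Module.End k W) ∘ₗ ψ.toLinearMap = LinearMap.id := by
      ext v
      simp
    rw [h, LinearMap.toMatrix'_id]
  map_mul' f g := by
    rw [← LinearMap.toMatrix'_mul]
    congr 1
    ext v
    simp

theorem mat_mulVec (f : Module.End k W) (v : ι → k) : mat ψ f *ᵥ v = ψ.symm (f (ψ v)) :=
  LinearMap.toMatrix'_mulVec _ v

/-- a representation as matrices -/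
noncomputable def gl : G →* GL ι k := (Units.map (mat ψ)).comp R.toHomUnits

theorem gl_mulVec (g : G) (v : ι → k) : ((gl ψ R g : GL ι k) : Matrix ι ι k) *ᵥ v = ψ.symm (R g (ψ v)) :=
  mat_mulVec ψ (R g) v

theorem psi_gl (g : G) (v : ι → k) : ψ (((gl ψ R g : GL ι k) : Matrix ι ι k) *ᵥ v) = R g (ψ v) := by
  rw [gl_mulVec, LinearEquiv.apply_symm_apply]

theorem gl_ext {g h : GL ι k} (H : ∀ v : ι → k, (g : Matrix ι ι k) *ᵥ v = (h : Matrix ι ι k) *ᵥ v) : g = h := by
  apply Units.ext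
  apply Matrix.toLin'.injective
  ext1 i
  ext1
  simp only [LinearMap.comp_apply, Matrix.toLin'_apply]
  exact H _

end gl

/-! ### automorphisms of finite fields -/

section frob

variable {F : Type u} [Field F] {p : ℕ} [hp : Fact p.Prime] [CharP F p]

/-- an automorphism of a finite field of characteristic `p` is a power of the Frobenius -/
theorem exists_frob [Finite F] (τ : F ≃+* F) : ∃ l : ℕ, ∀ x : F, τ x = x ^ p ^ l := by
  let _ : Algebra (ZMod p) F := ZMod.algebra F p
  have hcomm : (τ : F →+* F).comp (algebraMap (ZMod p) F) = algebraMap (ZMod p) F := Subsingleton.elim _ _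
  let τ' : F →ₐ[ZMod p] F := { (τ : F →+* F) with commutes' := fun r => RingHom.congr_fun hcomm r }
  have : Fintype F := Fintype.ofFinite F
  obtain ⟨l, hl⟩ := (FiniteField.bijective_frobeniusAlgHom_pow (ZMod p) F).2 τ'
  refine ⟨l, fun x => ?_⟩
  have h1 : ∀ (n : ℕ) (y : F), ((FiniteField.frobeniusAlgHom (ZMod p) F) ^ n) y = y ^ p ^ n := by
    intro n y
    induction n generalizing y with
    | zero => simp
    | succ n ih =>
      rw [pow_succ, AlgHom.mul_apply, ih]
      simp [pow_succ, mul_comm, ← pow_mul]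
  have h2 : τ' x = τ x := rfl
  rw [← h2, ← hl]
  exact h1 _ x

end frob

/-! ### homomorphisms from perfect groups -/

theorem hom_ext_of_central {G : Type x} [Group G] {P : Type y} [Group P] (hG : commutator G = ⊤) (f g : G →* P)
    (h : ∀ a, f a * (g a)⁻¹ ∈ Subgroup.center P) : f = g := by
  have h1 : commutator G ≤ f.eqLocus g := by
    rw [commutator_def, Subgroup.commutator_le]
    intro a _ b _
    change f ⁅a, b⁆ = g ⁅a, b⁆
    have ha : ∀ x : P, x * (f a * (g a)⁻¹) = (f a * (g a)⁻¹) * x := Subgroup.mem_center_iff.1 (h a)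
    have hb : ∀ x : P, x * (f b * (g b)⁻¹) = (f b * (g b)⁻¹) * x := Subgroup.mem_center_iff.1 (h b)
    set z := f a * (g a)⁻¹ with hz
    set t := f b * (g b)⁻¹ with ht
    have e1 : f a = z * g a := by rw [hz, inv_mul_cancel_right]
    have e2 : f b = t * g b := by rw [ht, inv_mul_cancel_right]
    rw [map_commutatorElement, map_commutatorElement, e1, e2, commutatorElement_def, commutatorElement_def]
    have ha' : ∀ x : P, z * x = x * z := fun x => (ha x).symm
    have hb' : ∀ x : P, t * x = x * t := fun x => (hb x).symm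
    calc z * g a * (t * g b) * (z * g a)⁻¹ * (t * g b)⁻¹
        = z * (g a * t) * g b * (g a)⁻¹ * z⁻¹ * ((g b)⁻¹ * t⁻¹) := by group
      _ = z * (t * g a) * g b * (g a)⁻¹ * z⁻¹ * ((g b)⁻¹ * t⁻¹) := by rw [hb' (g a)]
      _ = z * (t * (g a * g b * (g a)⁻¹ * (z⁻¹ * (g b)⁻¹) * t⁻¹)) := by group
      _ = z * ((g a * g b * (g a)⁻¹ * (z⁻¹ * (g b)⁻¹) * t⁻¹) * t) := by rw [hb']
      _ = z * (g a * g b * (g a)⁻¹ * z⁻¹ * (g b)⁻¹) := by group
      _ = (g a * g b * (g a)⁻¹ * z⁻¹ * (g b)⁻¹) * z := by rw [ha']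
      _ = g a * g b * (g a)⁻¹ * z⁻¹ * ((g b)⁻¹ * z) := by group
      _ = g a * g b * (g a)⁻¹ * z⁻¹ * (z * (g b)⁻¹) := by rw [ha']
      _ = _ := by group
  rw [hG, top_le_iff] at h1
  ext a
  have h3 : a ∈ f.eqLocus g := by rw [h1]; trivial
  exact h3

/-! ### the normaliser -/

section norm

open Cfsg.Agent.H915.LD
open Cfsg.Agent.ClassicalGeometry.AutPSL.Root Cfsg.Agent.ClassicalGeometry.AutPSL.Auto
  Cfsg.Agent.ClassicalGeometry.AutPSL.Main

variable {ι : Type} [Fintype ι] [DecidableEq ι] {F : Type u} [Field F] [Fintype F] {E : Type w} [Field E] [Fintype E]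
  {P : Subgroup (GL ι F)} (p : ℕ) [hp : Fact p.Prime] [CharP E p] [CharP F p]

/-- the automorphism of `PSL_2(E)` induced by `h` -/
theorem exists_aut (e : Soc P ≃* ProjectiveSpecialLinearGroup (Fin 2) E) {h : GL ι F}
    (hh' : ∀ x ∈ P, h * x * h⁻¹ ∈ P) :
    ∃ α : MulAut (ProjectiveSpecialLinearGroup (Fin 2) E), ∀ x : P, ∀ x' : P, (x' : GL ι F) = h * x * h⁻¹ →
      α (e (toSoc P x)) = e (toSoc P x') := by
  let b : P →* P :=
    { toFun := fun x => ⟨h * x * h⁻¹, hh' _ x.2⟩
      map_one' := by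
        apply Subtype.ext
        simp
      map_mul' := fun x y => by
        apply Subtype.ext
        change h * ((x * y : P) : GL ι F) * h⁻¹ = (h * x * h⁻¹) * (h * y * h⁻¹)
        rw [Subgroup.coe_mul]
        group }
  have hbinj : Function.Injective b := by
    intro x y hxy
    have h1 : h * (x : GL ι F) * h⁻¹ = h * y * h⁻¹ := congrArg Subtype.val hxy
    exact Subtype.ext (mul_left_cancel (mul_right_cancel h1))
  let β : P ≃* P := MulEquiv.ofBijective b ⟨hbinj, Finite.injective_iff_surjective.1 hbinj⟩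
  have hβ : ∀ x ∈ (scalars ι F).subgroupOf P, β x = x := by
    intro x hx
    rw [Subgroup.mem_subgroupOf, mem_scalars_iff] at hx
    obtain ⟨c, hc⟩ := hx
    apply Subtype.ext
    change h * x * h⁻¹ = x
    have h1 : h * x = x * h := by
      apply Units.ext
      rw [Units.val_mul, Units.val_mul, hc, Matrix.mul_smul, Matrix.smul_mul, mul_one, one_mul]
    rw [h1, mul_inv_cancel_right]
  have hmap : ((scalars ι F).subgroupOf P).map β.toMonoidHom = (scalars ι F).subgroupOf P := by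
    ext x
    rw [Subgroup.mem_map]
    constructor
    · rintro ⟨y, hy, rfl⟩
      change β y ∈ _
      rw [hβ y hy]
      exact hy
    · intro hx
      exact ⟨x, hx, hβ x hx⟩
  let γ : Soc P ≃* Soc P := QuotientGroup.congr _ _ β hmap
  refine ⟨(e.symm.trans γ).trans e, fun x x' hx => ?_⟩
  have h1 : ((e.symm.trans γ).trans e) (e (toSoc P x)) = e (γ (toSoc P x)) := by simp
  have h2 : β x = x' := Subtype.ext hx.symm
  have h3 : γ (toSoc P x) = toSoc P (β x) := rfl
  change ((e.symm.trans γ).trans e) (e (toSoc P x)) = _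
  rw [h1, h3, h2]

include hp in
/-- `h θ(g) h⁻¹ = θ(A σ(g) A⁻¹)` -/
theorem exists_twist (_hC : Core P) (hperf : commutator (SpecialLinearGroup (Fin 2) E) = ⊤)
    (e : Soc P ≃* ProjectiveSpecialLinearGroup (Fin 2) E) (θ : SpecialLinearGroup (Fin 2) E →* P)
    (hθ : ∀ g, e (toSoc P (θ g)) = QuotientGroup.mk' _ g) {h : GL ι F} (hh' : ∀ x ∈ P, h * x * h⁻¹ ∈ P) :
    ∃ (A : GL (Fin 2) E) (σ : E ≃+* E), ∀ g, h * (θ g : GL ι F) * h⁻¹ = (θ (cj A (fld σ g)) : GL ι F) := by
  obtain ⟨α, hα⟩ := exists_aut e hh'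
  obtain ⟨A, σ, hA⟩ := surj_two p α
  refine ⟨A, σ, fun g => ?_⟩
  let f₁ : SpecialLinearGroup (Fin 2) E →* P :=
    { toFun := fun g => ⟨h * (θ g : GL ι F) * h⁻¹, hh' _ (θ g).2⟩
      map_one' := by
        apply Subtype.ext
        simp
      map_mul' := fun a b => by
        apply Subtype.ext
        change h * ((θ (a * b) : P) : GL ι F) * h⁻¹ = (h * (θ a : GL ι F) * h⁻¹) * (h * (θ b : GL ι F) * h⁻¹)
        rw [map_mul, Subgroup.coe_mul]
        group }
  let f₂ : SpecialLinearGroup (Fin 2) E →* P := θ.comp ((cj A * fld σ : MulAut _).toMonoidHom)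
  have h1 : f₁ = f₂ := by
    refine hom_ext_of_central hperf f₁ f₂ fun a => ?_
    apply ker_toSoc_le P
    rw [MonoidHom.mem_ker]
    apply e.injective
    rw [map_mul, map_mul, map_inv, map_inv, map_one]
    have h2 : e (toSoc P (f₁ a)) = α (e (toSoc P (θ a))) := (hα (θ a) (f₁ a) rfl).symm
    have h3 : e (toSoc P (f₂ a)) = QuotientGroup.mk' _
        ((cj A * fld σ : MulAut (SpecialLinearGroup (Fin 2) E)) a) := hθ _
    rw [h2, h3, hθ, hA, mul_inv_eq_one]
    exact lift_pr _ _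
  have h2 := congrArg (fun f : SpecialLinearGroup (Fin 2) E →* P => ((f g : P) : GL ι F)) h1
  exact h2

variable {j : E →+* F} {r : ℕ} {θ : SpecialLinearGroup (Fin 2) E →* P} {Φ : (ι → F) →ₗ[F] (E × E → F)}

/-- the isomorphism with `L j r` -/
noncomputable def psi (hM : IsModel j (lin (P.subtype.comp θ) (RingHom.id F)) r Φ) : (ι → F) ≃ₗ[F] L j r :=
  (LinearEquiv.ofInjective Φ hM.inj).trans (LinearEquiv.ofEq _ _ hM.range)

theorem psi_coe (hM : IsModel j (lin (P.subtype.comp θ) (RingHom.id F)) r Φ) (v : ι → F) :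
    ((psi hM v : L j r) : E × E → F) = Φ v := rfl

theorem psi_theta (hM : IsModel j (lin (P.subtype.comp θ) (RingHom.id F)) r Φ) (g : SpecialLinearGroup (Fin 2) E)
    (v : ι → F) : psi hM (((θ g : P) : GL ι F).1 *ᵥ v) = actL j r g.1 (psi hM v) := by
  apply Subtype.ext
  rw [coe_actL, psi_coe, psi_coe, actM_coe, ← hM.act, lin_apply']
  congr 2

variable (j r) in
/-- the action of `GL_2(E)` on `L j r` -/
def GLrep : GL (Fin 2) E →* Module.End F (L j r) := (actL j r).comp (Units.coeHom _)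

theorem GLrep_apply (A : GL (Fin 2) E) : GLrep j r A = actL j r (A : Matrix (Fin 2) (Fin 2) E) := rfl

theorem theta_cj (hM : IsModel j (lin (P.subtype.comp θ) (RingHom.id F)) r Φ) (A : GL (Fin 2) E)
    (g : SpecialLinearGroup (Fin 2) E) :
    ((θ (cj A g) : P) : GL ι F) = gl (psi hM) (GLrep j r) A * (θ g : P) * (gl (psi hM) (GLrep j r) A)⁻¹ := by
  rw [eq_mul_inv_iff_mul_eq]
  apply gl_ext
  intro v
  apply (psi hM).injective
  rw [Units.val_mul, Units.val_mul, ← Matrix.mulVec_mulVec, ← Matrix.mulVec_mulVec, psi_theta, psi_gl, psi_gl,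
    psi_theta, GLrep_apply, coe_cj]
  change (actL j r _ * actL j r _) _ = (actL j r _ * actL j r _) _
  rw [← map_mul, ← map_mul, mul_assoc, ← Units.val_mul, inv_mul_cancel, Units.val_one, mul_one]

theorem fld_U (σ : E ≃+* E) (t : E) : fld σ (U t) = U (σ t) := by
  apply ext' <;> rw [coe_fld_apply]
  · rw [U00, U00, map_one]
  · rw [U01, U01]
  · rw [U10, U10, map_zero]
  · rw [U11, U11, map_one]

theorem fld_hh (σ : E ≃+* E) (s : Eˣ) : fld σ (hh s) = hh (Units.map (σ : E →* E) s) := by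
  apply ext' <;> rw [coe_fld_apply]
  · rw [hh00, hh00]; rfl
  · rw [hh01, hh01, map_zero]
  · rw [hh10, hh10, map_zero]
  · rw [hh11, hh11]
    simp

include hp in
/-- **The normaliser.** -/
theorem exists_norm_GL (hC : Core P) (hperf : commutator (SpecialLinearGroup (Fin 2) E) = ⊤)
    (e : Soc P ≃* ProjectiveSpecialLinearGroup (Fin 2) E) (hθ : ∀ g, e (toSoc P (θ g)) = QuotientGroup.mk' _ g)
    (hsurj : Function.Surjective θ) (hj : Function.Bijective j)
    (hM : IsModel j (lin (P.subtype.comp θ) (RingHom.id F)) r Φ) {h : GL ι F} (hh' : ∀ x ∈ P, h * x * h⁻¹ ∈ P) :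
    ∃ (A : GL (Fin 2) E) (c : F), (h : Matrix ι ι F) = c • (gl (psi hM) (GLrep j r) A : Matrix ι ι F) := by
  obtain ⟨A, σ, hA⟩ := exists_twist p hC hperf e θ hθ hh'
  set Θ := gl (psi hM) (GLrep j r) A with hΘ
  -- `B` intertwines `θ` and `θ ∘ σ`
  set B := Θ⁻¹ * h with hB
  have hBt : ∀ g, B * ((θ g : P) : GL ι F) = ((θ (fld σ g) : P) : GL ι F) * B := by
    intro g
    have h1 := hA g
    rw [theta_cj hM, ← hΘ] at h1
    rw [hB]
    calc Θ⁻¹ * h * ((θ g : P) : GL ι F) = Θ⁻¹ * (h * ((θ g : P) : GL ι F) * h⁻¹) * h := by group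
      _ = Θ⁻¹ * (Θ * ((θ (fld σ g) : P) : GL ι F) * Θ⁻¹) * h := by rw [h1]
      _ = _ := by group
  have hBl : ∀ g (v : ι → F), (B : Matrix ι ι F) *ᵥ (lin (P.subtype.comp θ) (RingHom.id F) g v) =
      lin (P.subtype.comp θ) (RingHom.id F) (fld σ g) ((B : Matrix ι ι F) *ᵥ v) := by
    intro g v
    have h1 := congrArg (fun x : GL ι F => (x : Matrix ι ι F) *ᵥ v) (hBt g)
    simp only [Units.val_mul, ← Matrix.mulVec_mulVec] at h1
    exact h1
  -- the weight
  obtain ⟨v, h0, -, hU, hw, huniq⟩ := hM.exists_hw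
  obtain ⟨a, ha⟩ := huniq ((B : Matrix ι ι F) *ᵥ v) (fun t => by
    have h1 := hBl (U (σ.symm t)) v
    rw [hU, fld_U, RingEquiv.apply_symm_apply] at h1
    exact h1.symm)
  have hBv : (B : Matrix ι ι F) *ᵥ v ≠ 0 := by
    intro h1
    apply h0
    have h2 : (((B⁻¹ : GL ι F) * B : GL ι F) : Matrix ι ι F) *ᵥ v = 0 := by
      rw [Units.val_mul, ← Matrix.mulVec_mulVec, h1, Matrix.mulVec_zero]
    rwa [inv_mul_cancel, Units.val_one, Matrix.one_mulVec] at h2
  have hσw : ∀ s : Eˣ, j (σ (s : E)) ^ r = j (s : E) ^ r := by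
    intro s
    have h1 := hBl (hh s) v
    rw [fld_hh, hw, Matrix.mulVec_smul, ha, map_smul, hw, smul_comm] at h1
    have hav : v ≠ 0 := h0
    have ha0 : a ≠ 0 := by
      rintro rfl
      rw [zero_smul] at ha
      exact hBv ha
    have h2 := smul_right_injective _ ha0 h1
    exact (smul_left_injective F hav h2).symm
  -- the field automorphism
  let J : E ≃+* F := RingEquiv.ofBijective j hj
  let σ' : F ≃+* F := (J.symm.trans σ).trans J
  have hσ' : ∀ x : E, σ' (j x) = j (σ x) := by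
    intro x
    change J (σ (J.symm (J x))) = J (σ x)
    rw [RingEquiv.symm_apply_apply]
  obtain ⟨l, hl⟩ := exists_frob (p := p) σ'
  have hfr : Fr P (p ^ l) := by
    intro g hg
    obtain ⟨x, hx⟩ := hsurj ⟨g, hg⟩
    have h1 := hM.trace_fix p (cov_abs θ hC hsurj) hC.two_le (σ' : F →+* F) (fun s => by
      rw [RingEquiv.coe_toRingHom, hσ', hσw]) x
    rw [MonoidHom.comp_apply, hx, RingHom.id_apply, RingEquiv.coe_toRingHom, hl] at h1
    exact h1
  have hσ1 : σ = 1 := by
    ext x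
    apply j.injective
    have h1 := hC.pow_eq p hfr (j x)
    rw [← hl, hσ'] at h1
    exact h1
  subst hσ1
  have hfld : ∀ g : SpecialLinearGroup (Fin 2) E, fld (1 : E ≃+* E) g = g := by
    intro g
    rw [map_one]
    rfl
  have hcom : ∀ s ∈ matrixSet P, (B : Matrix ι ι F) * s = s * (B : Matrix ι ι F) := by
    rintro _ ⟨x, hx, rfl⟩
    obtain ⟨g, hg⟩ := hsurj ⟨x, hx⟩
    have h1 := hBt g
    rw [hfld, hg] at h1
    have h2 := congrArg Units.val h1
    rw [Units.val_mul, Units.val_mul] at h2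
    exact h2
  obtain ⟨c, hc⟩ := hC.absIrred.2 _ hcom
  refine ⟨A, c, ?_⟩
  have h1 : h = Θ * B := by rw [hB, mul_inv_cancel_left]
  rw [h1, Units.val_mul, hc, Matrix.mul_smul, mul_one]

end norm

end Cfsg.Agent.H875.Fn
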