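import Cfsg.Agent.H911.SLTwoGen

/-!
# Irreducible `SL_2(E)`-modules in the defining characteristic: the function model (helper875)

`E` finite field with `q` elements, `j : E →+* k` an embedding in a field. `SL_2(E)` acts on the functions
`E × E → k` by `(g f)(v) = f (v g)` (`act`).

* `L j r` : the span of the functions `v ↦ j (v · c) ^ r`, `c ∈ E × E`;
* **`exists_model`** : `V` an irreducible `k[SL_2(E)]`-module without non-zero fixed vectors; there are
  `1 ≤ r ≤ q - 1` and an injective equivariant linear map `V → (E × E → k)` with image `L j r`.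
-/

set_option autoImplicit false
set_option linter.unusedSectionVars false
set_option linter.unusedSimpArgs false

namespace Cfsg.Agent.H875.Fn

open Matrix Cfsg.Agent.H911.SLTwo

universe u v w

/-! ### common fixed vectors -/

section nil

variable {k V τ : Type*} [Field k] [AddCommGroup V] [Module k V]

/-- commuting nilpotent operators have a common kernel -/
theorem exists_common_ker [Nontrivial V] (N : τ → Module.End k V) (hc : ∀ s t, N s * N t = N t * N s)
    (hn : ∀ t, IsNilpotent (N t)) (S : Finset τ) : ∃ v : V, v ≠ 0 ∧ ∀ t ∈ S, N t v = 0 := by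
  classical
  induction S using Finset.induction_on with
  | empty =>
    obtain ⟨v, hv⟩ := exists_ne (0 : V)
    exact ⟨v, hv, fun t ht => absurd ht (Finset.notMem_empty t)⟩
  | insert s S hs ih =>
    obtain ⟨v, hv, hvS⟩ := ih
    obtain ⟨n, hnn⟩ := hn s
    have hex : ∃ m, (N s ^ m) v = 0 := ⟨n, by rw [hnn]; rfl⟩
    let m := Nat.find hex
    have hm : (N s ^ m) v = 0 := Nat.find_spec hex
    have hm0 : m ≠ 0 := by
      intro h0
      rw [h0, pow_zero] at hm
      exact hv hm
    obtain ⟨l, hl⟩ := Nat.exists_eq_succ_of_ne_zero hm0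
    have hl' : (N s ^ l) v ≠ 0 := Nat.find_min hex (by omega)
    refine ⟨(N s ^ l) v, hl', ?_⟩
    intro t ht
    rcases Finset.mem_insert.1 ht with rfl | ht
    · rw [hl, pow_succ'] at hm
      exact hm
    · have h1 : N t * N s ^ l = N s ^ l * N t := (Commute.pow_right (show Commute (N t) (N s) from hc t s) l).eq
      have h2 := congrArg (fun f : Module.End k V => f v) h1
      change N t ((N s ^ l) v) = (N s ^ l) (N t v) at h2
      rw [h2, hvS t ht, map_zero]

/-- commuting operators with `A ^ p = 1` in characteristic `p` have a common fixed vector -/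
theorem exists_common_fix [Nontrivial V] (p : ℕ) [hp : Fact p.Prime] [CharP k p] (A : τ → Module.End k V)
    (hc : ∀ s t, A s * A t = A t * A s) (hA : ∀ t, A t ^ p = 1) (S : Finset τ) :
    ∃ v : V, v ≠ 0 ∧ ∀ t ∈ S, A t v = v := by
  have hch : CharP (Module.End k V) p := charP_of_injective_algebraMap (algebraMap k (Module.End k V)).injective p
  obtain ⟨v, h1, h2⟩ := exists_common_ker (fun t => A t - 1) (fun s t => by
      have h4 := hc s t
      rw [sub_mul, mul_sub, mul_sub, sub_mul, mul_sub, mul_sub, h4]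
      simp only [mul_one, one_mul]
      abel) (fun t => by
      refine ⟨p, ?_⟩
      have hcom : Commute (A t) 1 := Commute.one_right _
      rw [sub_pow_char_of_commute (p := p) hcom, one_pow, hA, sub_self]) S
  refine ⟨v, h1, fun t ht => ?_⟩
  have h3 := h2 t ht
  change A t v - v = 0 at h3
  exact sub_eq_zero.1 h3

end nil

/-! ### the group -/

section grp

variable {E : Type u} [Field E]

/-- right multiplication of a row by a matrix -/
def vm (v : E × E) (g : SpecialLinearGroup (Fin 2) E) : E × E :=
  (v.1 * g.1 0 0 + v.2 * g.1 1 0, v.1 * g.1 0 1 + v.2 * g.1 1 1)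

theorem vm_one (v : E × E) : vm v 1 = v := by
  unfold vm
  rw [o00, o01, o10, o11]
  ext <;> simp

theorem vm_mul (v : E × E) (g h : SpecialLinearGroup (Fin 2) E) : vm v (g * h) = vm (vm v g) h := by
  unfold vm
  rw [m00, m01, m10, m11]
  ext <;> simp <;> ring

theorem vm_zero (g : SpecialLinearGroup (Fin 2) E) : vm (0 : E × E) g = 0 := by
  unfold vm
  ext <;> simp

theorem vm_ne_zero {v : E × E} (hv : v ≠ 0) (g : SpecialLinearGroup (Fin 2) E) : vm v g ≠ 0 := by
  intro h
  apply hv
  have h1 := vm_mul v g g⁻¹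
  rw [mul_inv_cancel, vm_one, h, vm_zero] at h1
  exact h1

/-- the first row -/
def row (g : SpecialLinearGroup (Fin 2) E) : E × E := (g.1 0 0, g.1 0 1)

theorem row_ne_zero (g : SpecialLinearGroup (Fin 2) E) : row g ≠ 0 := by
  intro h
  have h1 := det_eq g
  have h00 : g.1 0 0 = 0 := congrArg Prod.fst h
  have h01 : g.1 0 1 = 0 := congrArg Prod.snd h
  rw [h00, h01] at h1
  simp at h1

theorem row_mul (g h : SpecialLinearGroup (Fin 2) E) : row (g * h) = vm (row g) h := by
  unfold row vm
  rw [m00, m01]

theorem exists_row (v : E × E) (hv : v ≠ 0) : ∃ g : SpecialLinearGroup (Fin 2) E, row g = v := by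
  by_cases h1 : v.1 = 0
  · have h2 : v.2 ≠ 0 := by
      intro h2
      exact hv (Prod.ext h1 h2)
    refine ⟨⟨!![v.1, v.2; -v.2⁻¹, 0], ?_⟩, rfl⟩
    rw [Matrix.det_fin_two_of]
    field_simp
    ring
  · refine ⟨⟨!![v.1, v.2; 0, v.1⁻¹], ?_⟩, rfl⟩
    rw [Matrix.det_fin_two_of]
    field_simp
    ring

theorem exists_lo {g g' : SpecialLinearGroup (Fin 2) E} (h : row g = row g') : ∃ t : E, g = Lo t * g' := by
  have h00 : g.1 0 0 = g'.1 0 0 := congrArg Prod.fst h
  have h01 : g.1 0 1 = g'.1 0 1 := congrArg Prod.snd h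
  have hd := det_eq g
  have hd' := det_eq g'
  refine ⟨(g * g'⁻¹).1 1 0, ?_⟩
  rw [← mul_inv_eq_iff_eq_mul]
  apply ext' <;> simp only [m00, m01, m10, m11, i00, i01, i10, i11, Lo00, Lo01, Lo10, Lo11]
  · rw [h00, h01]; linear_combination hd'
  · rw [h00, h01]; ring
  · rw [← h00, ← h01]; linear_combination hd

theorem hh_Lo (s : Eˣ) (t : E) : hh s * Lo t = Lo (((s⁻¹ : Eˣ) : E) ^ 2 * t) * hh s := by
  have hs : (s : E) * ((s⁻¹ : Eˣ) : E) = 1 := by rw [← Units.val_mul, mul_inv_cancel, Units.val_one]
  apply ext' <;> simp only [m00, m01, m10, m11, Lo00, Lo01, Lo10, Lo11, hh00, hh01, hh10, hh11]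
  · ring
  · ring
  · linear_combination (-(((s⁻¹ : Eˣ) : E)) * t) * hs
  · ring

theorem vm_U (v : E × E) (t : E) : vm v (U t) = (v.1, v.1 * t + v.2) := by
  unfold vm
  rw [U00, U01, U10, U11]
  ext <;> simp

theorem vm_ww (v : E × E) : vm v ww = (-v.2, v.1) := by
  unfold vm
  rw [ww00, ww01, ww10, ww11]
  ext <;> simp

end grp

/-! ### the function model -/

section model

variable {E : Type u} [Field E] {k : Type v} [Field k] (j : E →+* k)

variable (E k) in
/-- the action on functions -/
def act : SpecialLinearGroup (Fin 2) E →* Module.End k (E × E → k) where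
  toFun g := LinearMap.funLeft k k (fun v => vm v g)
  map_one' := by
    ext f v
    simp [LinearMap.funLeft, vm_one]
  map_mul' g h := by
    ext f v
    simp [LinearMap.funLeft, vm_mul]

theorem act_apply (g : SpecialLinearGroup (Fin 2) E) (f : E × E → k) (v : E × E) : act E k g f v = f (vm v g) := rfl

/-- the `r`-th power of the linear form with coefficients `c` -/
def pw (r : ℕ) (c : E × E) : E × E → k := fun v => j (v.1 * c.1 + v.2 * c.2) ^ r

/-- the module `L(r)` -/
def L (r : ℕ) : Submodule k (E × E → k) := Submodule.span k (Set.range (pw j r))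

/-- left multiplication of a column by a matrix -/
def mv (g : SpecialLinearGroup (Fin 2) E) (c : E × E) : E × E :=
  (g.1 0 0 * c.1 + g.1 0 1 * c.2, g.1 1 0 * c.1 + g.1 1 1 * c.2)

theorem act_pw (g : SpecialLinearGroup (Fin 2) E) (r : ℕ) (c : E × E) : act E k g (pw j r c) = pw j r (mv g c) := by
  funext v
  rw [act_apply]
  unfold pw vm mv
  congr 2
  ring

theorem act_L (g : SpecialLinearGroup (Fin 2) E) (r : ℕ) {f : E × E → k} (hf : f ∈ L j r) : act E k g f ∈ L j r := by
  have h1 : L j r ≤ (L j r).comap (act E k g) := by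
    conv_lhs => unfold L
    rw [Submodule.span_le]
    rintro _ ⟨c, rfl⟩
    change act E k g (pw j r c) ∈ L j r
    rw [act_pw]
    exact Submodule.subset_span ⟨_, rfl⟩
  exact h1 hf

end model

/-! ### power sums -/

section sums

variable {E : Type u} [Field E] [Fintype E] {k : Type v} [Field k] (j : E →+* k)

theorem two_le_card : 2 ≤ Fintype.card E := Fintype.one_lt_card

theorem sum_pow_eq {m : ℕ} (hm : m ≠ 0) :
    ∑ x : E, x ^ m = if (Fintype.card E - 1) ∣ m then -1 else 0 := by
  classical
  rw [← FiniteField.sum_pow_units]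
  have h1 : ∑ x : Eˣ, ((x : E)) ^ m = ∑ x ∈ Finset.univ.erase (0 : E), x ^ m := by
    refine Finset.sum_nbij' (fun x : Eˣ => (x : E)) (fun x => if h : x ≠ 0 then Units.mk0 x h else 1) ?_ ?_ ?_ ?_ ?_
    · intro x _
      exact Finset.mem_erase.2 ⟨x.ne_zero, Finset.mem_univ _⟩
    · intro x _
      exact Finset.mem_univ _
    · intro x _
      simp
    · intro x hx
      have h0 : x ≠ 0 := (Finset.mem_erase.1 hx).1
      simp [h0]
    · intro x _
      rfl
  rw [h1, ← Finset.sum_erase_add Finset.univ (fun x : E => x ^ m) (Finset.mem_univ (0 : E)), zero_pow hm, add_zero]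

theorem sum_map_pow {m : ℕ} (hm : m ≠ 0) :
    ∑ x : E, j x ^ m = if (Fintype.card E - 1) ∣ m then -1 else 0 := by
  have h := congrArg j (sum_pow_eq (E := E) hm)
  rw [map_sum] at h
  simp only [map_pow] at h
  rw [h]
  split_ifs
  · rw [map_neg, map_one]
  · rw [map_zero]

theorem map_pow_card_sub_one {x : E} (hx : x ≠ 0) : j x ^ (Fintype.card E - 1) = 1 := by
  rw [← map_pow, FiniteField.pow_card_sub_one_eq_one x hx, map_one]

include j in
theorem card_cast_zero : (Fintype.card E : k) = 0 := by
  rw [← map_natCast j, FiniteField.cast_card_eq_zero, map_zero]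

end sums

/-! ### the semi-invariant functional -/

section dual

variable {E : Type u} [Field E] [Fintype E] {k : Type v} [Field k] (j : E →+* k)
  {V : Type w} [AddCommGroup V] [Module k V] (R : SpecialLinearGroup (Fin 2) E →* Module.End k V)

/-- a functional fixed by the lower unipotent group -/
theorem exists_fixed_dual [Nontrivial V] (p : ℕ) [hp : Fact p.Prime] [CharP E p] [CharP k p] :
    ∃ φ : Module.Dual k V, φ ≠ 0 ∧ ∀ t v, φ (R (Lo t) v) = φ v := by
  have hnt : Nontrivial (Module.Dual k V) := by
    obtain ⟨v, hv⟩ := exists_ne (0 : V)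
    obtain ⟨φ, hφ⟩ : ∃ φ : Module.Dual k V, φ v ≠ 0 := by
      by_contra hc
      push Not at hc
      exact hv ((Module.forall_dual_apply_eq_zero_iff k v).1 hc)
    exact ⟨⟨φ, 0, fun h => hφ (by rw [h]; rfl)⟩⟩
  let A : E → Module.End k (Module.Dual k V) := fun t => (R (Lo t)).dualMap
  have hA : ∀ t (f : Module.Dual k V) v, A t f v = f (R (Lo t) v) := fun _ _ _ => rfl
  obtain ⟨φ, h1, h2⟩ := exists_common_fix (k := k) (V := Module.Dual k V) p A (fun s t => by
      ext f v
      change f (R (Lo t) (R (Lo s) v)) = f (R (Lo s) (R (Lo t) v))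
      have h4 : R (Lo t) * R (Lo s) = R (Lo s) * R (Lo t) := by
        rw [← map_mul, ← map_mul, Lo_mul, Lo_mul, add_comm]
      exact congrArg f (congrArg (fun g : Module.End k V => g v) h4)) (fun t => by
      have h3 : ∀ n : ℕ, A t ^ n = A (n * t) := by
        intro n
        induction n with
        | zero =>
          ext f v
          rw [hA, Nat.cast_zero, zero_mul, Lo_zero, map_one]
          rfl
        | succ n ih =>
          rw [pow_succ, ih]
          ext f v
          change A (n * t) (A t f) v = _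
          rw [hA, hA, hA, Nat.cast_succ, add_mul, one_mul, add_comm, ← Lo_mul, map_mul]
          rfl
      rw [h3, CharP.cast_eq_zero, zero_mul]
      ext f v
      rw [hA, Lo_zero, map_one]
      rfl) Finset.univ
  refine ⟨φ, h1, fun t v => ?_⟩
  have h3 := h2 t (Finset.mem_univ t)
  exact congrArg (fun f : Module.Dual k V => f v) h3

/-- a semi-invariant functional -/
theorem exists_semi_dual [Nontrivial V] (p : ℕ) [hp : Fact p.Prime] [CharP E p] [CharP k p] :
    ∃ (φ : Module.Dual k V) (r : ℕ), φ ≠ 0 ∧ r ≠ 0 ∧ r ≤ Fintype.card E - 1 ∧ (∀ t v, φ (R (Lo t) v) = φ v) ∧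
      ∀ (s : Eˣ) v, φ (R (hh s) v) = j (s : E) ^ r * φ v := by
  classical
  obtain ⟨φ, h0, hφ⟩ := exists_fixed_dual R p
  let Φ : ℕ → Module.Dual k V := fun r => ∑ s : Eˣ, j ((s⁻¹ : Eˣ) : E) ^ r • φ.comp (R (hh s))
  have hΦ : ∀ r v, Φ r v = ∑ s : Eˣ, j ((s⁻¹ : Eˣ) : E) ^ r * φ (R (hh s) v) := by
    intro r v
    simp [Φ, LinearMap.sum_apply]
  have hLo : ∀ r t v, Φ r (R (Lo t) v) = Φ r v := by
    intro r t v
    rw [hΦ, hΦ]
    refine Finset.sum_congr rfl fun s _ => ?_
    congr 1
    have h1 : R (hh s) (R (Lo t) v) = R (Lo (((s⁻¹ : Eˣ) : E) ^ 2 * t)) (R (hh s) v) := by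
      have h2 := congrArg (fun g => R g v) (hh_Lo s t)
      simp only [map_mul] at h2
      exact h2
    rw [h1, hφ]
  have hhh : ∀ r (s : Eˣ) v, Φ r (R (hh s) v) = j (s : E) ^ r * Φ r v := by
    intro r s v
    rw [hΦ, hΦ, Finset.mul_sum]
    refine Fintype.sum_equiv (Equiv.mulRight s) _ _ fun a => ?_
    change j ((a⁻¹ : Eˣ) : E) ^ r * φ (R (hh a) (R (hh s) v)) =
      j (s : E) ^ r * (j (((a * s)⁻¹ : Eˣ) : E) ^ r * φ (R (hh (a * s)) v))
    have h1 : R (hh a) (R (hh s) v) = R (hh (a * s)) v := by
      rw [← hh_mul, map_mul]; rfl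
    rw [h1, ← mul_assoc, ← mul_pow, ← map_mul]
    congr 3
    rw [_root_.mul_inv_rev, Units.val_mul, ← mul_assoc, ← Units.val_mul, mul_inv_cancel, Units.val_one, one_mul]
  by_contra hcon
  push Not at hcon
  have hall : ∀ r, r ≠ 0 → r ≤ Fintype.card E - 1 → Φ r = 0 := by
    intro r hr hr'
    by_contra hne
    obtain ⟨s, v, h⟩ := hcon (Φ r) r hne hr hr' (hLo r)
    exact h (hhh r s v)
  apply h0
  have hq := two_le_card (E := E)
  have hinner : ∀ s : Eˣ, ∑ r ∈ Finset.Icc 1 (Fintype.card E - 1), j ((s⁻¹ : Eˣ) : E) ^ r = if s = 1 then -1 else 0 := by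
    intro s
    by_cases hs : s = 1
    · rw [if_pos hs, hs]
      simp only [inv_one, Units.val_one, map_one, one_pow]
      rw [Finset.sum_const, Nat.card_Icc, nsmul_eq_mul, mul_one, Nat.add_sub_cancel, Nat.cast_sub (by omega),
        card_cast_zero j, Nat.cast_one, zero_sub]
    · rw [if_neg hs]
      set c : k := j ((s⁻¹ : Eˣ) : E) with hc
      have hc1 : c - 1 ≠ 0 := by
        intro h
        apply hs
        have h1 : j ((s⁻¹ : Eˣ) : E) = j 1 := by rw [map_one]; exact sub_eq_zero.1 h
        have h2 := j.injective h1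
        rw [← Units.val_one, Units.val_inj, inv_eq_one] at h2
        exact h2
      have hcq : c ^ (Fintype.card E - 1) = 1 := map_pow_card_sub_one j (Units.ne_zero _)
      have h3 : ∑ r ∈ Finset.Icc 1 (Fintype.card E - 1), c ^ r = c * ∑ r ∈ Finset.range (Fintype.card E - 1), c ^ r := by
        rw [Finset.mul_sum]
        refine Finset.sum_nbij' (fun r => r - 1) (fun r => r + 1) ?_ ?_ ?_ ?_ ?_
        · intro r hr
          rw [Finset.mem_Icc] at hr
          rw [Finset.mem_range]
          omega
        · intro r hr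
          rw [Finset.mem_range] at hr
          rw [Finset.mem_Icc]
          omega
        · intro r hr
          rw [Finset.mem_Icc] at hr
          omega
        · intro r hr
          rfl
        · intro r hr
          rw [Finset.mem_Icc] at hr
          rw [← pow_succ']
          congr 1
          omega
      rw [h3]
      have h4 := mul_geom_sum c (Fintype.card E - 1)
      rw [hcq, sub_self] at h4
      rcases mul_eq_zero.1 h4 with h5 | h5
      · exact absurd h5 hc1
      · rw [h5, mul_zero]
  ext v
  have h1 : ∑ r ∈ Finset.Icc 1 (Fintype.card E - 1), Φ r v = 0 := by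
    refine Finset.sum_eq_zero fun r hr => ?_
    rw [Finset.mem_Icc] at hr
    rw [hall r (by omega) hr.2]
    rfl
  simp only [hΦ] at h1
  rw [Finset.sum_comm] at h1
  simp only [← Finset.sum_mul, hinner] at h1
  rw [Finset.sum_eq_single (1 : Eˣ)] at h1
  · rw [if_pos rfl, hh_one, map_one] at h1
    change -1 * φ v = 0 at h1
    rw [neg_one_mul, neg_eq_zero] at h1
    exact h1
  · intro s _ hs
    rw [if_neg hs, zero_mul]
  · intro h
    exact absurd (Finset.mem_univ _) h

end dual

/-! ### the embedding in the function space -/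

section emb

variable {E : Type u} [Field E] {k : Type v} [Field k] (j : E →+* k)
  {V : Type w} [AddCommGroup V] [Module k V] (R : SpecialLinearGroup (Fin 2) E →* Module.End k V)

open Classical in
/-- a matrix with given first row -/
noncomputable def rm (v : E × E) : SpecialLinearGroup (Fin 2) E :=
  if h : v = 0 then 1 else (exists_row v h).choose

theorem row_rm {v : E × E} (h : v ≠ 0) : row (rm v) = v := by
  unfold rm
  rw [dif_neg h]
  exact (exists_row v h).choose_spec

open Classical in
/-- the function attached to a vector -/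
noncomputable def emb (φ : Module.Dual k V) : V →ₗ[k] (E × E → k) where
  toFun v := fun x => if x = 0 then 0 else φ (R (rm x) v)
  map_add' v w := by
    funext x
    by_cases h : x = 0
    · simp [h]
    · simp [h]
  map_smul' c v := by
    funext x
    by_cases h : x = 0
    · simp [h]
    · simp [h]

theorem emb_zero (φ : Module.Dual k V) (v : V) : emb R φ v 0 = 0 := by
  classical
  change (if (0 : E × E) = 0 then (0 : k) else φ (R (rm 0) v)) = 0
  rw [if_pos rfl]

variable {R} in
theorem emb_row {φ : Module.Dual k V} (hφ : ∀ t v, φ (R (Lo t) v) = φ v) (g : SpecialLinearGroup (Fin 2) E) (v : V) :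
    emb R φ v (row g) = φ (R g v) := by
  classical
  change (if row g = 0 then (0 : k) else φ (R (rm (row g)) v)) = _
  rw [if_neg (row_ne_zero g)]
  obtain ⟨t, ht⟩ := exists_lo (row_rm (row_ne_zero g))
  rw [ht, map_mul]
  exact hφ t _

variable {R} in
theorem emb_act {φ : Module.Dual k V} (hφ : ∀ t v, φ (R (Lo t) v) = φ v) (g : SpecialLinearGroup (Fin 2) E) (v : V) :
    emb R φ (R g v) = act E k g (emb R φ v) := by
  funext x
  rw [act_apply]
  by_cases hx : x = 0
  · rw [hx, vm_zero, emb_zero, emb_zero]
  · obtain ⟨h, rfl⟩ := exists_row x hx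
    rw [emb_row hφ, ← row_mul, emb_row hφ, map_mul]
    rfl

variable {R} in
theorem emb_smul {φ : Module.Dual k V} {r : ℕ} (hr : r ≠ 0) (hφ : ∀ t v, φ (R (Lo t) v) = φ v)
    (hs : ∀ (s : Eˣ) v, φ (R (hh s) v) = j (s : E) ^ r * φ v) (v : V) (a : E) (x : E × E) :
    emb R φ v (a • x) = j a ^ r * emb R φ v x := by
  by_cases ha : a = 0
  · rw [ha, zero_smul, emb_zero, map_zero, zero_pow hr, zero_mul]
  · by_cases hx : x = 0
    · rw [hx, smul_zero, emb_zero, mul_zero]
    · obtain ⟨g, rfl⟩ := exists_row x hx
      have h1 : a • row g = row (hh (Units.mk0 a ha) * g) := by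
        unfold row
        rw [m00, m01, hh00, hh01, Units.val_mk0, Prod.smul_mk]
        simp
      rw [h1, emb_row hφ, emb_row hφ, map_mul]
      exact hs _ _

variable {R} in
theorem emb_injective {φ : Module.Dual k V} (h0 : φ ≠ 0) (hφ : ∀ t v, φ (R (Lo t) v) = φ v)
    (hirr : ∀ N : Submodule k V, (∀ g, N ≤ N.comap (R g)) → N = ⊥ ∨ N = ⊤) : Function.Injective (emb R φ) := by
  rw [← LinearMap.ker_eq_bot]
  rcases hirr (LinearMap.ker (emb R φ)) (by
    intro g v hv
    rw [LinearMap.mem_ker] at hv
    rw [Submodule.mem_comap, LinearMap.mem_ker, emb_act hφ, hv, map_zero]) with h | h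
  · exact h
  · exfalso
    apply h0
    ext v
    have h1 : v ∈ LinearMap.ker (emb R φ) := by rw [h]; trivial
    rw [LinearMap.mem_ker] at h1
    have h2 := emb_row hφ 1 v
    rw [h1, map_one] at h2
    exact h2.symm

end emb

/-! ### the classification -/

section main

variable {E : Type u} [Field E] [Fintype E] {k : Type v} [Field k] (j : E →+* k)
  {V : Type w} [AddCommGroup V] [Module k V] (R : SpecialLinearGroup (Fin 2) E →* Module.End k V)

/-- a vector fixed by the upper unipotent group -/
theorem exists_fixed [Nontrivial V] (p : ℕ) [hp : Fact p.Prime] [CharP E p] [CharP k p] :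
    ∃ v : V, v ≠ 0 ∧ ∀ t, R (U t) v = v := by
  obtain ⟨v, h1, h2⟩ := exists_common_fix (k := k) (V := V) p (fun t => R (U t)) (fun s t => by
      rw [← map_mul, ← map_mul, U_mul, U_mul, add_comm]) (fun t => by
      rw [← map_pow, U_pow, CharP.cast_eq_zero, zero_mul, U_zero, map_one]) Finset.univ
  exact ⟨v, h1, fun t => h2 t (Finset.mem_univ t)⟩

/-- **The function model.** -/
theorem exists_model [Nontrivial V] (p : ℕ) [hp : Fact p.Prime] [CharP E p] [CharP k p]
    (hirr : ∀ N : Submodule k V, (∀ g, N ≤ N.comap (R g)) → N = ⊥ ∨ N = ⊤)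
    (hfix : ∀ v : V, (∀ g, R g v = v) → v = 0) :
    ∃ (r : ℕ) (Φ : V →ₗ[k] (E × E → k)), r ≠ 0 ∧ r ≤ Fintype.card E - 1 ∧ Function.Injective Φ ∧
      (∀ g v, Φ (R g v) = act E k g (Φ v)) ∧ LinearMap.range Φ = L j r := by
  classical
  obtain ⟨φ, r, h0, hr0, hr, hφ, hs⟩ := exists_semi_dual j R p
  have hinj := emb_injective h0 hφ hirr
  have hact := fun g v => emb_act hφ g v
  have hsm := fun v a x => emb_smul j hr0 hφ hs v a x
  refine ⟨r, emb R φ, hr0, hr, hinj, hact, ?_⟩
  -- a `U`-fixed vector
  obtain ⟨v₀, hv0, hvU⟩ := exists_fixed R p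
  set h := emb R φ v₀ with hh'
  have hh0 : h ≠ 0 := by
    intro h1
    apply hv0
    apply hinj
    rw [map_zero]
    exact h1
  have hU : ∀ x y t : E, h (x, x * t + y) = h (x, y) := by
    intro x y t
    have h1 := congrArg (fun f : E × E → k => f (x, y)) (hact (U t) v₀)
    simp only [hvU] at h1
    rw [act_apply, vm_U] at h1
    exact h1.symm
  set α := h (1, 0) with hα
  set β := h (0, 1) with hβ
  have hx : ∀ x y : E, x ≠ 0 → h (x, y) = α * j x ^ r := by
    intro x y hx
    have h1 := hU x y (-(x⁻¹ * y))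
    have h2 : x * -(x⁻¹ * y) + y = 0 := by field_simp; ring
    rw [h2] at h1
    rw [← h1]
    have h3 : h (x • ((1 : E), (0 : E))) = j x ^ r * h (1, 0) := hsm v₀ x (1, 0)
    rw [Prod.smul_mk, smul_eq_mul, mul_one, smul_zero] at h3
    rw [h3, mul_comm]
  have hy : ∀ y : E, h (0, y) = β * j y ^ r := by
    intro y
    have h3 : h (y • ((0 : E), (1 : E))) = j y ^ r * h (0, 1) := hsm v₀ y (0, 1)
    rw [Prod.smul_mk, smul_eq_mul, smul_eq_mul, mul_one, mul_zero] at h3
    rw [h3, mul_comm]
  -- the sum over `U`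
  set v₁ := ∑ t : E, R (U t) (R ww v₀) with hv1
  have hsum : ∀ x y : E, emb R φ v₁ (x, y) =
      if Fintype.card E - 1 ∣ r then (β - α) * j x ^ r else β * j x ^ r := by
    intro x y
    have h1 : emb R φ v₁ (x, y) = ∑ t : E, h (-(x * t + y), x) := by
      rw [hv1, map_sum, Finset.sum_apply]
      refine Finset.sum_congr rfl fun t _ => ?_
      rw [hact, hact, act_apply, act_apply, vm_U, vm_ww]
    rw [h1]
    by_cases hx0 : x = 0
    · subst hx0
      simp only [zero_mul, zero_add]
      rw [Finset.sum_const, Finset.card_univ, nsmul_eq_mul, card_cast_zero j, zero_mul, map_zero, zero_pow hr0]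
      split_ifs <;> simp
    · have h2 : ∑ t : E, h (-(x * t + y), x) = ∑ s : E, h (s, x) := by
        refine Fintype.sum_bijective (fun t : E => -(x * t + y)) ?_ _ _ fun t => rfl
        constructor
        · intro a b hab
          have h3 : x * a = x * b := by linear_combination -hab
          exact mul_left_cancel₀ hx0 h3
        · intro b
          refine ⟨x⁻¹ * (-b - y), ?_⟩
          change -(x * (x⁻¹ * (-b - y)) + y) = b
          rw [mul_inv_cancel_left₀ hx0]
          ring
      rw [h2, ← Finset.add_sum_erase Finset.univ _ (Finset.mem_univ (0 : E)), hy]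
      have h3 : ∑ s ∈ Finset.univ.erase (0 : E), h (s, x) = α * ∑ s : E, j s ^ r := by
        rw [← Finset.add_sum_erase Finset.univ (fun s : E => j s ^ r) (Finset.mem_univ (0 : E)), map_zero,
          zero_pow hr0, zero_add, Finset.mul_sum]
        refine Finset.sum_congr rfl fun s hs => ?_
        exact hx s x (Finset.mem_erase.1 hs).1
      rw [h3, sum_map_pow j hr0]
      split_ifs with hd
      · have h4 : r = Fintype.card E - 1 := Nat.le_antisymm hr (Nat.le_of_dvd (Nat.pos_of_ne_zero hr0) hd)
        have h5 : j x ^ r = 1 := by rw [h4]; exact map_pow_card_sub_one j hx0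
        rw [h5]
        ring
      · ring
  -- the vector with image `X ^ r`
  obtain ⟨v₂, hv2⟩ : ∃ v₂ : V, emb R φ v₂ = pw j r (1, 0) := by
    have hpw : ∀ x y : E, pw j r (1, 0) (x, y) = j x ^ r := by
      intro x y
      unfold pw
      simp
    have key : ∀ c : k, c ≠ 0 → (∀ x y : E, emb R φ v₁ (x, y) = c * j x ^ r) → ∃ v₂ : V, emb R φ v₂ = pw j r (1, 0) := by
      intro c hc hcv
      refine ⟨c⁻¹ • v₁, ?_⟩
      rw [map_smul]
      funext ⟨x, y⟩
      rw [Pi.smul_apply, hcv, hpw, smul_eq_mul, inv_mul_cancel_left₀ hc]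
    by_cases hd : Fintype.card E - 1 ∣ r
    · simp only [if_pos hd] at hsum
      by_cases hab : β - α = 0
      · -- `h` is fixed by the group
        exfalso
        have hab' : β = α := sub_eq_zero.1 hab
        have h4 : r = Fintype.card E - 1 := Nat.le_antisymm hr (Nat.le_of_dvd (Nat.pos_of_ne_zero hr0) hd)
        have hconst : ∀ x : E × E, x ≠ 0 → h x = α := by
          rintro ⟨x, y⟩ hxy
          by_cases hx0 : x = 0
          · subst hx0
            have hy0 : y ≠ 0 := fun h => hxy (by rw [h]; rfl)
            rw [hy, hab', h4, map_pow_card_sub_one j hy0, mul_one]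
          · rw [hx x y hx0, h4, map_pow_card_sub_one j hx0, mul_one]
        apply hv0
        apply hfix
        intro g
        apply hinj
        rw [hact]
        funext x
        rw [act_apply]
        change h (vm x g) = h x
        by_cases hx0 : x = 0
        · rw [hx0, vm_zero]
        · rw [hconst _ (vm_ne_zero hx0 g), hconst _ hx0]
      · exact key _ hab hsum
    · simp only [if_neg hd] at hsum
      by_cases hb0 : β = 0
      · -- `h = α X ^ r`
        have hα0 : α ≠ 0 := by
          intro hα0
          apply hh0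
          funext ⟨x, y⟩
          by_cases hx0 : x = 0
          · subst hx0
            rw [hy, hb0, zero_mul]; rfl
          · rw [hx x y hx0, hα0, zero_mul]; rfl
        refine ⟨α⁻¹ • v₀, ?_⟩
        rw [map_smul]
        funext ⟨x, y⟩
        rw [Pi.smul_apply, hpw, smul_eq_mul]
        change α⁻¹ * h (x, y) = _
        by_cases hx0 : x = 0
        · subst hx0
          rw [hy, hb0, zero_mul, mul_zero, map_zero, zero_pow hr0]
        · rw [hx x y hx0, inv_mul_cancel_left₀ hα0]
      · exact key _ hb0 hsum
  -- the range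
  apply le_antisymm
  · -- `V` is generated by `v₂`
    have h1 : ((L j r).comap (emb R φ)) = ⊤ := by
      rcases hirr ((L j r).comap (emb R φ)) (by
        intro g v hv
        rw [Submodule.mem_comap] at hv ⊢
        rw [Submodule.mem_comap, hact]
        exact act_L j g r hv) with h | h
      · exfalso
        have h2 : v₂ ∈ (L j r).comap (emb R φ) := by
          rw [Submodule.mem_comap, hv2]
          exact Submodule.subset_span ⟨_, rfl⟩
        rw [h, Submodule.mem_bot] at h2
        rw [h2, map_zero] at hv2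
        have h3 := congrFun hv2 (1, 0)
        unfold pw at h3
        simp at h3
      · exact h
    rintro _ ⟨v, rfl⟩
    have h2 : v ∈ (L j r).comap (emb R φ) := by rw [h1]; trivial
    exact h2
  · unfold L
    rw [Submodule.span_le]
    rintro _ ⟨c, rfl⟩
    by_cases hc : c = 0
    · have h1 : pw j r c = 0 := by
        funext x
        unfold pw
        rw [hc]
        simp [hr0]
      rw [h1]
      exact Submodule.zero_mem _
    · -- a matrix with first column `c`
      obtain ⟨g, hg⟩ : ∃ g : SpecialLinearGroup (Fin 2) E, mv g (1, 0) = c := by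
        obtain ⟨g, hg⟩ := exists_row c hc
        refine ⟨⟨g.1.transpose, by rw [Matrix.det_transpose]; exact g.2⟩, ?_⟩
        unfold mv
        rw [← hg]
        unfold row
        simp [Matrix.transpose_apply]
      rw [← hg, ← act_pw, ← hv2, ← hact]
      exact ⟨_, rfl⟩

end main

end Cfsg.Agent.H875.Fn
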