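import Cfsg.Agent.H875.FnForm
import Mathlib.LinearAlgebra.BilinearForm.TensorProduct

/-!
# `L(r₁ + r₂) = L(r₁) ⊗ L(r₂)` for disjoint digits (helper875)

`r₁ < p ^ t`, `p ^ t ∣ r₂`, `r₁ + r₂ ≤ q - 1`.

* `mu` : `L j r₁ ⊗ L j r₂ ≃ L j (r₁ + r₂)`, the multiplication of functions (`mu_tmul`, `mu_map`);
* `ft` : the form on the tensor product, `ft_map`.
-/

set_option autoImplicit false
set_option linter.unusedSectionVars false
set_option linter.unusedSimpArgs false

namespace Cfsg.Agent.H875.Fn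

open Matrix Cfsg.Agent.H911.SLTwo
open scoped TensorProduct

universe u v w

variable {E : Type u} [Field E] [Fintype E] {k : Type v} [Field k] (j : E →+* k) (p : ℕ) [hp : Fact p.Prime] [CharP k p]
  {t r₁ r₂ : ℕ}

theorem le₁ (hr : r₁ + r₂ ≤ Fintype.card E - 1) : r₁ ≤ Fintype.card E - 1 := by omega

theorem le₂ (hr : r₁ + r₂ ≤ Fintype.card E - 1) : r₂ ≤ Fintype.card E - 1 := by omega

/-- the multiplication isomorphism -/
noncomputable def mu (h1 : r₁ < p ^ t) (h2 : p ^ t ∣ r₂) (hr : r₁ + r₂ ≤ Fintype.card E - 1) :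
    (L j r₁ ⊗[k] L j r₂) ≃ₗ[k] L j (r₁ + r₂) :=
  ((bas j p (le₁ hr)).tensorProduct (bas j p (le₂ hr))).equiv (bas j p hr) (addEquiv h1 h2)

theorem mu_bas (h1 : r₁ < p ^ t) (h2 : p ^ t ∣ r₂) (hr : r₁ + r₂ ≤ Fintype.card E - 1) (m₁ : SS p r₁) (m₂ : SS p r₂) :
    mu j p h1 h2 hr (bas j p (le₁ hr) m₁ ⊗ₜ bas j p (le₂ hr) m₂) = bas j p hr (addEquiv h1 h2 (m₁, m₂)) := by
  unfold mu
  rw [← Module.Basis.tensorProduct_apply]
  exact Module.Basis.equiv_apply _ _ _ _

theorem mu_tmul (h1 : r₁ < p ^ t) (h2 : p ^ t ∣ r₂) (hr : r₁ + r₂ ≤ Fintype.card E - 1) (x : L j r₁) (y : L j r₂)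
    (v : E × E) : ((mu j p h1 h2 hr (x ⊗ₜ y) : L j (r₁ + r₂)) : E × E → k) v =
      (x : E × E → k) v * (y : E × E → k) v := by
  have hx : x ∈ Submodule.span k (Set.range (bas j p (le₁ hr))) := by rw [(bas j p (le₁ hr)).span_eq]; trivial
  have hy : y ∈ Submodule.span k (Set.range (bas j p (le₂ hr))) := by rw [(bas j p (le₂ hr)).span_eq]; trivial
  induction hx using Submodule.span_induction with
  | mem x hx =>
    obtain ⟨m₁, rfl⟩ := hx
    induction hy using Submodule.span_induction with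
    | mem y hy =>
      obtain ⟨m₂, rfl⟩ := hy
      rw [mu_bas, bas_apply, bas_apply, bas_apply]
      change j v.1 ^ (r₁ + r₂ - (m₁ + m₂)) * j v.2 ^ ((m₁ : ℕ) + m₂) = (j v.1 ^ (r₁ - (m₁ : ℕ)) * j v.2 ^ (m₁ : ℕ)) *
        (j v.1 ^ (r₂ - (m₂ : ℕ)) * j v.2 ^ (m₂ : ℕ))
      have h3 := (mem_SS.1 m₁.2).1
      have h4 := (mem_SS.1 m₂.2).1
      have h5 : r₁ + r₂ - ((m₁ : ℕ) + m₂) = (r₁ - m₁) + (r₂ - m₂) := by omega
      rw [h5, pow_add, pow_add]
      ring
    | zero => simp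
    | add y y' _ _ hy hy' =>
      rw [TensorProduct.tmul_add, map_add, Submodule.coe_add, Pi.add_apply, hy, hy', Submodule.coe_add, Pi.add_apply,
        mul_add]
    | smul a y _ hy =>
      rw [TensorProduct.tmul_smul, map_smul, Submodule.coe_smul, Pi.smul_apply, hy, Submodule.coe_smul, Pi.smul_apply,
        smul_eq_mul, smul_eq_mul]
      ring
  | zero => simp
  | add x x' _ _ hx hx' =>
    rw [TensorProduct.add_tmul, map_add, Submodule.coe_add, Pi.add_apply, hx, hx', Submodule.coe_add, Pi.add_apply,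
      add_mul]
  | smul a x _ hx =>
    rw [← TensorProduct.smul_tmul', map_smul, Submodule.coe_smul, Pi.smul_apply, hx, Submodule.coe_smul, Pi.smul_apply,
      smul_eq_mul, smul_eq_mul]
    ring

/-- equivariance -/
theorem mu_map (h1 : r₁ < p ^ t) (h2 : p ^ t ∣ r₂) (hr : r₁ + r₂ ≤ Fintype.card E - 1) (A : Matrix (Fin 2) (Fin 2) E)
    (z : L j r₁ ⊗[k] L j r₂) : mu j p h1 h2 hr (TensorProduct.map (actL j r₁ A) (actL j r₂ A) z) =
      actL j (r₁ + r₂) A (mu j p h1 h2 hr z) := by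
  induction z with
  | zero => simp
  | tmul x y =>
    rw [TensorProduct.map_tmul]
    apply Subtype.ext
    funext v
    rw [mu_tmul, coe_actL, coe_actL, coe_actL, actM_apply, actM_apply, actM_apply, mu_tmul]
  | add z z' hz hz' => rw [map_add, map_add, map_add, map_add, hz, hz']

/-- the form on the tensor product -/
noncomputable def ft (hr : r₁ + r₂ ≤ Fintype.card E - 1) : LinearMap.BilinForm k (L j r₁ ⊗[k] L j r₂) :=
  LinearMap.BilinForm.tmul (frm j p (le₁ hr)) (frm j p (le₂ hr))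

theorem ft_tmul (hr : r₁ + r₂ ≤ Fintype.card E - 1) (x x' : L j r₁) (y y' : L j r₂) :
    ft j p hr (x ⊗ₜ y) (x' ⊗ₜ y') = frm j p (le₂ hr) y y' * frm j p (le₁ hr) x x' := rfl

theorem ft_map (hr : r₁ + r₂ ≤ Fintype.card E - 1) (A B : Matrix (Fin 2) (Fin 2) E) (hA : A.det = 1) (hB : B.det = 1)
    (z z' : L j r₁ ⊗[k] L j r₂) :
    ft j p hr (TensorProduct.map (actL j r₁ A) (actL j r₂ B) z) (TensorProduct.map (actL j r₁ A) (actL j r₂ B) z') =
      ft j p hr z z' := by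
  induction z with
  | zero => simp
  | tmul x y =>
    induction z' with
    | zero => simp
    | tmul x' y' =>
      rw [TensorProduct.map_tmul, TensorProduct.map_tmul, ft_tmul, ft_tmul, frm_act, frm_act, hA, hB, map_one, one_pow,
        one_mul, one_pow, one_mul]
    | add z z' hz hz' => rw [map_add, map_add, map_add, hz, hz']
  | add z z' hz hz' =>
    rw [map_add, map_add, LinearMap.add_apply, hz, hz', map_add, LinearMap.add_apply]

/-- the form is not zero -/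
theorem ft_ne_zero (hr : r₁ + r₂ ≤ Fintype.card E - 1) :
    ft j p hr (pL j r₁ (1, 0) ⊗ₜ pL j r₂ (1, 0)) (pL j r₁ (0, 1) ⊗ₜ pL j r₂ (0, 1)) = 1 := by
  rw [ft_tmul, frm_pL, frm_pL]
  have h : dt ((1 : E), (0 : E)) (0, 1) = 1 := by
    unfold dt
    simp
  rw [h, map_one, one_pow, one_pow, one_mul]

end Cfsg.Agent.H875.Fn
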