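import Cfsg.Agent.H875.FnAut
import Cfsg.Agent.H875.FnTens
import Cfsg.Agent.H920.FormUniq

/-!
# The two tensor factors (helper875)

`P` a core with `Soc P ≃* PSL_2(E)`, `|E| = |F|`, `p < |ι|`: there are two commuting subgroups of `GL(ι, F)`, not
scalar, perfect, normalised by the normaliser of `P`, and fixing every non-degenerate bilinear form fixed by `P`
(`exists_pair`).
-/

set_option autoImplicit false
set_option linter.unusedSectionVars false
set_option linter.unusedSimpArgs false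

namespace Cfsg.Agent.H875.Fn

open Cfsg Cfsg.Geo Matrix Cfsg.Agent.H911.SLTwo Cfsg.Agent.H915.LD
open Cfsg.Agent.ClassicalGeometry.AutPSL.Auto
open scoped TensorProduct

universe u v w

section reps

variable {E : Type w} [Field E] [Fintype E] {k : Type v} [Field k] (j : E →+* k) (r₁ r₂ : ℕ)

/-- the action on the first factor -/
noncomputable def R₁ : GL (Fin 2) E →* Module.End k (L j r₁ ⊗[k] L j r₂) where
  toFun A := TensorProduct.map (actL j r₁ (A : Matrix (Fin 2) (Fin 2) E)) LinearMap.id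
  map_one' := by
    rw [Units.val_one, map_one]
    exact TensorProduct.map_one
  map_mul' A B := by
    rw [Units.val_mul, map_mul]
    ext x y
    simp

/-- the action on the second factor -/
noncomputable def R₂ : GL (Fin 2) E →* Module.End k (L j r₁ ⊗[k] L j r₂) where
  toFun A := TensorProduct.map LinearMap.id (actL j r₂ (A : Matrix (Fin 2) (Fin 2) E))
  map_one' := by
    rw [Units.val_one, map_one]
    exact TensorProduct.map_one
  map_mul' A B := by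
    rw [Units.val_mul, map_mul]
    ext x y
    simp

/-- the diagonal action -/
noncomputable def RR : GL (Fin 2) E →* Module.End k (L j r₁ ⊗[k] L j r₂) where
  toFun A := TensorProduct.map (actL j r₁ (A : Matrix (Fin 2) (Fin 2) E)) (actL j r₂ (A : Matrix (Fin 2) (Fin 2) E))
  map_one' := by
    rw [Units.val_one, map_one, map_one]
    exact TensorProduct.map_one
  map_mul' A B := by
    rw [Units.val_mul, map_mul, map_mul]
    ext x y
    simp

theorem R₁_apply (A : GL (Fin 2) E) (z : L j r₁ ⊗[k] L j r₂) :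
    R₁ j r₁ r₂ A z = TensorProduct.map (actL j r₁ (A : Matrix (Fin 2) (Fin 2) E)) LinearMap.id z := rfl

theorem R₂_apply (A : GL (Fin 2) E) (z : L j r₁ ⊗[k] L j r₂) :
    R₂ j r₁ r₂ A z = TensorProduct.map LinearMap.id (actL j r₂ (A : Matrix (Fin 2) (Fin 2) E)) z := rfl

theorem RR_apply (A : GL (Fin 2) E) (z : L j r₁ ⊗[k] L j r₂) : RR j r₁ r₂ A z =
    TensorProduct.map (actL j r₁ (A : Matrix (Fin 2) (Fin 2) E)) (actL j r₂ (A : Matrix (Fin 2) (Fin 2) E)) z := rfl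

theorem R₁_comm (A B : GL (Fin 2) E) : R₁ j r₁ r₂ A * R₂ j r₁ r₂ B = R₂ j r₁ r₂ B * R₁ j r₁ r₂ A := by
  ext x y
  simp [R₁_apply, R₂_apply]

theorem RR_R₁ (A B : GL (Fin 2) E) : RR j r₁ r₂ A * R₁ j r₁ r₂ B = R₁ j r₁ r₂ (A * B * A⁻¹) * RR j r₁ r₂ A := by
  ext x y
  simp only [TensorProduct.AlgebraTensorModule.curry_apply, LinearMap.restrictScalars_self, TensorProduct.curry_apply,
    Module.End.mul_apply, R₁_apply, RR_apply, TensorProduct.map_tmul, LinearMap.id_apply]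
  have h : actL j r₁ ((A * B * A⁻¹ : GL (Fin 2) E) : Matrix (Fin 2) (Fin 2) E) (actL j r₁ (A : Matrix _ _ E) x) =
      actL j r₁ (A : Matrix _ _ E) (actL j r₁ (B : Matrix _ _ E) x) := by
    rw [← Module.End.mul_apply, ← Module.End.mul_apply, ← map_mul, ← map_mul, ← Units.val_mul, ← Units.val_mul,
      inv_mul_cancel_right]
  rw [h]

theorem RR_R₂ (A B : GL (Fin 2) E) : RR j r₁ r₂ A * R₂ j r₁ r₂ B = R₂ j r₁ r₂ (A * B * A⁻¹) * RR j r₁ r₂ A := by
  ext x y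
  simp only [TensorProduct.AlgebraTensorModule.curry_apply, LinearMap.restrictScalars_self, TensorProduct.curry_apply,
    Module.End.mul_apply, R₂_apply, RR_apply, TensorProduct.map_tmul, LinearMap.id_apply]
  have h : actL j r₂ ((A * B * A⁻¹ : GL (Fin 2) E) : Matrix (Fin 2) (Fin 2) E) (actL j r₂ (A : Matrix _ _ E) y) =
      actL j r₂ (A : Matrix _ _ E) (actL j r₂ (B : Matrix _ _ E) y) := by
    rw [← Module.End.mul_apply, ← Module.End.mul_apply, ← map_mul, ← map_mul, ← Units.val_mul, ← Units.val_mul,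
      inv_mul_cancel_right]
  rw [h]

end reps

/-! ### the pair -/

section glmul

variable {ι : Type} [Fintype ι] [DecidableEq ι] {k : Type v} [Field k] {W : Type w} [AddCommMonoid W] [Module k W]
  (ψ : (ι → k) ≃ₗ[k] W) {G : Type u} [Group G]

theorem coe_gl (R : G →* Module.End k W) (g : G) : ((gl ψ R g : GL ι k) : Matrix ι ι k) = mat ψ (R g) := rfl

theorem gl_mul_eq {R₀ R₁ R₂ R₃ : G →* Module.End k W} {a b c d : G} (h : R₀ a * R₁ b = R₂ c * R₃ d) :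
    gl ψ R₀ a * gl ψ R₁ b = gl ψ R₂ c * gl ψ R₃ d := by
  apply Units.ext
  rw [Units.val_mul, Units.val_mul, coe_gl, coe_gl, coe_gl, coe_gl, ← map_mul, ← map_mul, h]

end glmul

section pair

variable {ι : Type} [Fintype ι] [DecidableEq ι] {F : Type u} [Field F] [Fintype F] {E : Type w} [Field E] [Fintype E]
  {P : Subgroup (GL ι F)} (p : ℕ) [hp : Fact p.Prime] [CharP E p] [CharP F p]
  {j : E →+* F} {r₁ r₂ t : ℕ} {θ : SpecialLinearGroup (Fin 2) E →* P} {Φ : (ι → F) →ₗ[F] (E × E → F)}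

/-- the isomorphism with the tensor product -/
noncomputable def psiT (hM : IsModel j (lin (P.subtype.comp θ) (RingHom.id F)) (r₁ + r₂) Φ) (h1 : r₁ < p ^ t)
    (h2 : p ^ t ∣ r₂) : (ι → F) ≃ₗ[F] (L j r₁ ⊗[F] L j r₂) :=
  (psi hM).trans (mu j p h1 h2 hM.le).symm

theorem mu_psiT (hM : IsModel j (lin (P.subtype.comp θ) (RingHom.id F)) (r₁ + r₂) Φ) (h1 : r₁ < p ^ t)
    (h2 : p ^ t ∣ r₂) (v : ι → F) : mu j p h1 h2 hM.le (psiT p hM h1 h2 v) = psi hM v := by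
  unfold psiT
  rw [LinearEquiv.trans_apply, LinearEquiv.apply_symm_apply]

/-- `GL_2(E)` acts diagonally -/
theorem gl_eq_RR (hM : IsModel j (lin (P.subtype.comp θ) (RingHom.id F)) (r₁ + r₂) Φ) (h1 : r₁ < p ^ t)
    (h2 : p ^ t ∣ r₂) (A : GL (Fin 2) E) :
    gl (psi hM) (GLrep j (r₁ + r₂)) A = gl (psiT p hM h1 h2) (RR j r₁ r₂) A := by
  apply gl_ext
  intro v
  apply (psi hM).injective
  rw [psi_gl, ← mu_psiT p hM h1 h2, ← mu_psiT p hM h1 h2, psi_gl, RR_apply, mu_map, GLrep_apply]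

theorem theta_eq_RR (hM : IsModel j (lin (P.subtype.comp θ) (RingHom.id F)) (r₁ + r₂) Φ) (h1 : r₁ < p ^ t)
    (h2 : p ^ t ∣ r₂) (g : SpecialLinearGroup (Fin 2) E) :
    ((θ g : P) : GL ι F) = gl (psiT p hM h1 h2) (RR j r₁ r₂) (SpecialLinearGroup.toGL g) := by
  rw [← gl_eq_RR p hM h1 h2]
  apply gl_ext
  intro v
  apply (psi hM).injective
  rw [psi_gl, psi_theta]
  rfl

/-- one of the factors -/
noncomputable def fac (hM : IsModel j (lin (P.subtype.comp θ) (RingHom.id F)) (r₁ + r₂) Φ) (h1 : r₁ < p ^ t)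
    (h2 : p ^ t ∣ r₂) (R : GL (Fin 2) E →* Module.End F (L j r₁ ⊗[F] L j r₂)) : Subgroup (GL ι F) :=
  ((gl (psiT p hM h1 h2) R).comp (SpecialLinearGroup.toGL : SpecialLinearGroup (Fin 2) E →* GL (Fin 2) E)).range

theorem fac_perfect (hperf : commutator (SpecialLinearGroup (Fin 2) E) = ⊤)
    (hM : IsModel j (lin (P.subtype.comp θ) (RingHom.id F)) (r₁ + r₂) Φ) (h1 : r₁ < p ^ t)
    (h2 : p ^ t ∣ r₂) (R : GL (Fin 2) E →* Module.End F (L j r₁ ⊗[F] L j r₂)) :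
    ⁅fac p hM h1 h2 R, fac p hM h1 h2 R⁆ = fac p hM h1 h2 R := by
  unfold fac
  rw [MonoidHom.range_eq_map, ← Subgroup.map_commutator, ← commutator_def, hperf]

theorem toGL_cj (A : GL (Fin 2) E) (g : SpecialLinearGroup (Fin 2) E) :
    SpecialLinearGroup.toGL (cj A g) = A * SpecialLinearGroup.toGL g * A⁻¹ := by
  apply Units.ext
  rw [Units.val_mul, Units.val_mul]
  exact coe_cj A g

/-- the factors are normalised by `GL_2(E)` -/
theorem fac_norm (hM : IsModel j (lin (P.subtype.comp θ) (RingHom.id F)) (r₁ + r₂) Φ) (h1 : r₁ < p ^ t)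
    (h2 : p ^ t ∣ r₂) {R : GL (Fin 2) E →* Module.End F (L j r₁ ⊗[F] L j r₂)}
    (hR : ∀ A B, RR j r₁ r₂ A * R B = R (A * B * A⁻¹) * RR j r₁ r₂ A) {h : GL ι F} {A : GL (Fin 2) E} {c : F}
    (hA : (h : Matrix ι ι F) = c • (gl (psi hM) (GLrep j (r₁ + r₂)) A : Matrix ι ι F)) {x : GL ι F}
    (hx : x ∈ fac p hM h1 h2 R) : h * x * h⁻¹ ∈ fac p hM h1 h2 R := by
  obtain ⟨g, rfl⟩ := hx
  set Θ := gl (psiT p hM h1 h2) (RR j r₁ r₂) A with hΘ
  rw [gl_eq_RR p hM h1 h2, ← hΘ] at hA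
  have hB : ∀ x : GL ι F, Θ⁻¹ * h * x = x * (Θ⁻¹ * h) := by
    intro x
    have h3 : ((Θ⁻¹ * h : GL ι F) : Matrix ι ι F) = c • (1 : Matrix ι ι F) := by
      rw [Units.val_mul, hA, Matrix.mul_smul, ← Units.val_mul, inv_mul_cancel, Units.val_one]
    apply Units.ext
    rw [Units.val_mul (Θ⁻¹ * h) x, Units.val_mul x (Θ⁻¹ * h), h3, Matrix.mul_smul, Matrix.smul_mul, mul_one, one_mul]
  have h4 : ∀ x : GL ι F, h * x * h⁻¹ = Θ * x * Θ⁻¹ := by
    intro x
    calc h * x * h⁻¹ = Θ * (Θ⁻¹ * h * x) * h⁻¹ := by group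
      _ = Θ * (x * (Θ⁻¹ * h)) * h⁻¹ := by rw [hB]
      _ = _ := by group
  rw [h4]
  refine ⟨cj A g, ?_⟩
  rw [MonoidHom.comp_apply, MonoidHom.comp_apply, toGL_cj, eq_mul_inv_iff_mul_eq]
  exact (gl_mul_eq _ (hR A (SpecialLinearGroup.toGL g))).symm

/-- the factors commute -/
theorem fac_comm (hM : IsModel j (lin (P.subtype.comp θ) (RingHom.id F)) (r₁ + r₂) Φ) (h1 : r₁ < p ^ t)
    (h2 : p ^ t ∣ r₂) {x y : GL ι F} (hx : x ∈ fac p hM h1 h2 (R₁ j r₁ r₂)) (hy : y ∈ fac p hM h1 h2 (R₂ j r₁ r₂)) :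
    x * y = y * x := by
  obtain ⟨g, rfl⟩ := hx
  obtain ⟨g', rfl⟩ := hy
  have h3 := gl_mul_eq (psiT p hM h1 h2)
    (R₁_comm j r₁ r₂ (SpecialLinearGroup.toGL g) (SpecialLinearGroup.toGL g'))
  rw [MonoidHom.comp_apply, MonoidHom.comp_apply]
  exact h3

theorem mvM_ww : mvM (ww : SpecialLinearGroup (Fin 2) E).1 (1, 0) = (0, ww.1 1 0) := by
  unfold mvM
  rw [ww00]
  simp

/-- the first factor is not scalar -/
theorem fac_ns₁ (hM : IsModel j (lin (P.subtype.comp θ) (RingHom.id F)) (r₁ + r₂) Φ) (h1 : r₁ < p ^ t)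
    (h2 : p ^ t ∣ r₂) (h0 : r₁ ≠ 0) : ¬ fac p hM h1 h2 (R₁ j r₁ r₂) ≤ scalars ι F := by
  intro hle
  have h3 : gl (psiT p hM h1 h2) (R₁ j r₁ r₂) (SpecialLinearGroup.toGL ww) ∈ scalars ι F := hle ⟨ww, rfl⟩
  rw [mem_scalars_iff] at h3
  obtain ⟨c, hc⟩ := h3
  set z : L j r₁ ⊗[F] L j r₂ := pL j r₁ (1, 0) ⊗ₜ pL j r₂ (1, 0) with hz
  have h4 := psi_gl (psiT p hM h1 h2) (R₁ j r₁ r₂) (SpecialLinearGroup.toGL ww) ((psiT p hM h1 h2).symm z)
  rw [hc, Matrix.smul_mulVec, Matrix.one_mulVec, map_smul, LinearEquiv.apply_symm_apply, R₁_apply, hz,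
    TensorProduct.map_tmul, LinearMap.id_apply] at h4
  have h5 := congrArg (fun z => ((mu j p h1 h2 hM.le z : L j (r₁ + r₂)) : E × E → F) (1, 0)) h4
  simp only [map_smul, Submodule.coe_smul, Pi.smul_apply, mu_tmul] at h5
  have e1 : ((actL j r₁ ((SpecialLinearGroup.toGL ww : GL (Fin 2) E) : Matrix (Fin 2) (Fin 2) E) (pL j r₁ (1, 0)) :
      L j r₁) : E × E → F) (1, 0) = 0 := by
    rw [actL_pL]
    change j ((1 : E) * (mvM (ww : SpecialLinearGroup (Fin 2) E).1 (1, 0)).1 + 0 * _) ^ r₁ = 0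
    rw [mvM_ww]
    simp [h0]
  have e2 : ∀ r, ((pL j r (1, 0) : L j r) : E × E → F) (1, 0) = 1 := by
    intro r
    change j ((1 : E) * 1 + 0 * 0) ^ r = 1
    simp
  rw [e1, e2, e2] at h5
  simp at h5

/-- the second factor is not scalar -/
theorem fac_ns₂ (hM : IsModel j (lin (P.subtype.comp θ) (RingHom.id F)) (r₁ + r₂) Φ) (h1 : r₁ < p ^ t)
    (h2 : p ^ t ∣ r₂) (h0 : r₂ ≠ 0) : ¬ fac p hM h1 h2 (R₂ j r₁ r₂) ≤ scalars ι F := by
  intro hle
  have h3 : gl (psiT p hM h1 h2) (R₂ j r₁ r₂) (SpecialLinearGroup.toGL ww) ∈ scalars ι F := hle ⟨ww, rfl⟩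
  rw [mem_scalars_iff] at h3
  obtain ⟨c, hc⟩ := h3
  set z : L j r₁ ⊗[F] L j r₂ := pL j r₁ (1, 0) ⊗ₜ pL j r₂ (1, 0) with hz
  have h4 := psi_gl (psiT p hM h1 h2) (R₂ j r₁ r₂) (SpecialLinearGroup.toGL ww) ((psiT p hM h1 h2).symm z)
  rw [hc, Matrix.smul_mulVec, Matrix.one_mulVec, map_smul, LinearEquiv.apply_symm_apply, R₂_apply, hz,
    TensorProduct.map_tmul, LinearMap.id_apply] at h4
  have h5 := congrArg (fun z => ((mu j p h1 h2 hM.le z : L j (r₁ + r₂)) : E × E → F) (1, 0)) h4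
  simp only [map_smul, Submodule.coe_smul, Pi.smul_apply, mu_tmul] at h5
  have e1 : ((actL j r₂ ((SpecialLinearGroup.toGL ww : GL (Fin 2) E) : Matrix (Fin 2) (Fin 2) E) (pL j r₂ (1, 0)) :
      L j r₂) : E × E → F) (1, 0) = 0 := by
    rw [actL_pL]
    change j ((1 : E) * (mvM (ww : SpecialLinearGroup (Fin 2) E).1 (1, 0)).1 + 0 * _) ^ r₂ = 0
    rw [mvM_ww]
    simp [h0]
  have e2 : ∀ r, ((pL j r (1, 0) : L j r) : E × E → F) (1, 0) = 1 := by
    intro r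
    change j ((1 : E) * 1 + 0 * 0) ^ r = 1
    simp
  rw [e1, e2, e2] at h5
  simp at h5

/-- the form -/
noncomputable def ff (hM : IsModel j (lin (P.subtype.comp θ) (RingHom.id F)) (r₁ + r₂) Φ) (h1 : r₁ < p ^ t)
    (h2 : p ^ t ∣ r₂) : (ι → F) → (ι → F) → F :=
  fun u v => ft j p hM.le (psiT p hM h1 h2 u) (psiT p hM h1 h2 v)

theorem ff_bilin (hM : IsModel j (lin (P.subtype.comp θ) (RingHom.id F)) (r₁ + r₂) Φ) (h1 : r₁ < p ^ t)
    (h2 : p ^ t ∣ r₂) : IsBilinearForm (ff p hM h1 h2) where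
  add_left u v w := by
    unfold ff
    rw [map_add, map_add, LinearMap.add_apply]
  add_right u v w := by
    unfold ff
    rw [map_add, map_add]
  smul_left c u v := by
    unfold ff
    rw [map_smul, map_smul, LinearMap.smul_apply, smul_eq_mul]
  smul_right u c v := by
    unfold ff
    rw [map_smul, map_smul, smul_eq_mul]

/-- elements acting by matrices of determinant one on the factors fix the form -/
theorem ff_fix (hM : IsModel j (lin (P.subtype.comp θ) (RingHom.id F)) (r₁ + r₂) Φ) (h1 : r₁ < p ^ t)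
    (h2 : p ^ t ∣ r₂) {x : GL ι F} {A B : Matrix (Fin 2) (Fin 2) E} (hA : A.det = 1) (hB : B.det = 1)
    (hx : ∀ v, psiT p hM h1 h2 ((x : Matrix ι ι F) *ᵥ v) =
      TensorProduct.map (actL j r₁ A) (actL j r₂ B) (psiT p hM h1 h2 v)) (u v : ι → F) :
    ff p hM h1 h2 ((x : Matrix ι ι F) *ᵥ u) ((x : Matrix ι ι F) *ᵥ v) = ff p hM h1 h2 u v := by
  unfold ff
  rw [hx, hx, ft_map j p hM.le A B hA hB]

theorem actL_one (r : ℕ) : actL j r (1 : Matrix (Fin 2) (Fin 2) E) = LinearMap.id := by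
  rw [map_one]
  rfl

/-- a form fixed by `P` is fixed by the factors -/
theorem fac_fix (hC : Core P) (hM : IsModel j (lin (P.subtype.comp θ) (RingHom.id F)) (r₁ + r₂) Φ) (h1 : r₁ < p ^ t)
    (h2 : p ^ t ∣ r₂) (hsurj : Function.Surjective θ) {f : (ι → F) → (ι → F) → F} (hf : IsBilinearForm f)
    (hfn : IsNondegenerateForm f) (hfP : FixesForm (matrixSet P) f) :
    FixesForm (matrixSet (fac p hM h1 h2 (R₁ j r₁ r₂))) f ∧ FixesForm (matrixSet (fac p hM h1 h2 (R₂ j r₁ r₂))) f := by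
  have hP : FixesForm (matrixSet P) (ff p hM h1 h2) := by
    rintro _ ⟨x, hx, rfl⟩ u v
    obtain ⟨g, hg⟩ := hsurj ⟨x, hx⟩
    have h3 : x = ((θ g : P) : GL ι F) := (congrArg Subtype.val hg).symm
    change ff p hM h1 h2 ((x : Matrix ι ι F) *ᵥ u) ((x : Matrix ι ι F) *ᵥ v) = _
    refine ff_fix p hM h1 h2 g.2 g.2 (fun v => ?_) u v
    rw [h3, theta_eq_RR p hM h1 h2, psi_gl, RR_apply]
    rfl
  obtain ⟨c, hc⟩ := Cfsg.Agent.H920.form_unique hC.absIrred hf hfn hfP (ff_bilin p hM h1 h2) hP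
  have hc0 : c ≠ 0 := by
    rintro rfl
    have h3 := ft_ne_zero j p (r₁ := r₁) (r₂ := r₂) hM.le
    have h4 := hc ((psiT p hM h1 h2).symm (pL j r₁ (1, 0) ⊗ₜ pL j r₂ (1, 0)))
      ((psiT p hM h1 h2).symm (pL j r₁ (0, 1) ⊗ₜ pL j r₂ (0, 1)))
    rw [zero_mul] at h4
    unfold ff at h4
    rw [LinearEquiv.apply_symm_apply, LinearEquiv.apply_symm_apply, h3] at h4
    exact one_ne_zero h4
  have key : ∀ s : Matrix ι ι F, (∀ u v, ff p hM h1 h2 (s *ᵥ u) (s *ᵥ v) = ff p hM h1 h2 u v) →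
      ∀ u v, f (s *ᵥ u) (s *ᵥ v) = f u v := by
    intro s hs u v
    have h3 := hs u v
    rw [hc, hc] at h3
    exact mul_left_cancel₀ hc0 h3
  constructor
  · rintro _ ⟨x, ⟨g, rfl⟩, rfl⟩
    refine key _ (fun u v => ff_fix p hM h1 h2 g.2 Matrix.det_one (fun v => ?_) u v)
    rw [MonoidHom.comp_apply, psi_gl, R₁_apply, actL_one]
    rfl
  · rintro _ ⟨x, ⟨g, rfl⟩, rfl⟩
    refine key _ (fun u v => ff_fix p hM h1 h2 Matrix.det_one g.2 (fun v => ?_) u v)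
    rw [MonoidHom.comp_apply, psi_gl, R₂_apply, actL_one]
    rfl

end pair

end Cfsg.Agent.H875.Fn
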