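import Cfsg.Agent.H875.FnField
import Cfsg.Agent.H875.FnForm

/-!
# The invariant quadratic form on `L(r)` in characteristic two (helper875)

`char k = 2`, `r ≠ 0`, `4 ∣ |SS 2 r|`:
* `QL` : the quadratic form on `L j r` with polar form `frm` vanishing on the generators `pL j r c`;
* `QL_act` : it is invariant under `SL_2(E)`.
-/

set_option autoImplicit false
set_option linter.unusedSectionVars false
set_option linter.unusedSimpArgs false

namespace Cfsg.Agent.H875.Fn

open Matrix Cfsg.Agent.H911.SLTwo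

universe u v w

section two

variable {E : Type u} [Field E] [Fintype E] {k : Type v} [Field k] (j : E →+* k) [CharP k 2]

theorem choose_eq_one {r m : ℕ} (hm : m ∈ SS 2 r) : ((r.choose m : ℕ) : k) = 1 := by
  have h1 := (mem_SS.1 hm).2
  have h3 : r.choose m = 2 * (r.choose m / 2) + 1 := by omega
  have h2 : ((2 : ℕ) : k) = 0 := CharP.cast_eq_zero k 2
  rw [h3, Nat.cast_add, Nat.cast_mul, h2, zero_mul, zero_add, Nat.cast_one]

theorem add_self (x : k) : x + x = 0 := by
  have h2 : ((2 : ℕ) : k) = 0 := CharP.cast_eq_zero k 2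
  have h3 : (2 : k) = 0 := by exact_mod_cast h2
  rw [← two_mul, h3, zero_mul]

theorem neg_eq (x : k) : -x = x := (eq_neg_of_add_eq_zero_left (add_self x)).symm

/-- no fixed exponents -/
theorem cpl_ne {r : ℕ} (hr : r ≠ 0) (m : SS 2 r) : ((cpl 2 r m : SS 2 r) : ℕ) ≠ m := by
  intro h
  have h1 := (mem_SS.1 m.2).1
  have h2 : r - (m : ℕ) = m := h
  have h3 : r = 2 * (m : ℕ) := by omega
  have h4 : ¬ 2 ∣ (2 * (m : ℕ)).choose m := by
    have := (mem_SS.1 m.2).2
    rwa [← h3]
  apply h4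
  rw [← Nat.centralBinom_eq_two_mul_choose]
  exact Nat.two_dvd_centralBinom_of_one_le (by omega)

theorem cpl_cpl {r : ℕ} (m : SS 2 r) : cpl 2 r (cpl 2 r m) = m := by
  apply Subtype.ext
  have h1 := (mem_SS.1 m.2).1
  change r - (r - (m : ℕ)) = m
  omega

/-- half of the form -/
noncomputable def Bq {r : ℕ} (hr : r ≤ Fintype.card E - 1) : L j r →ₗ[k] L j r →ₗ[k] k :=
  (bas j 2 hr).constr k fun m => (bas j 2 hr).constr k fun m' =>
    if m' = cpl 2 r m ∧ (m : ℕ) < m' then (1 : k) else 0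

theorem Bq_bas {r : ℕ} (hr : r ≤ Fintype.card E - 1) (m m' : SS 2 r) :
    Bq j hr (bas j 2 hr m) (bas j 2 hr m') = if m' = cpl 2 r m ∧ (m : ℕ) < m' then (1 : k) else 0 := by
  unfold Bq
  rw [Module.Basis.constr_basis, Module.Basis.constr_basis]

theorem Bq_add {r : ℕ} (hr : r ≤ Fintype.card E - 1) (h0 : r ≠ 0) (x y : L j r) :
    Bq j hr x y + Bq j hr y x = frm j 2 hr x y := by
  have h : Bq j hr + (Bq j hr).flip = frm j 2 hr := by
    refine (bas j 2 hr).ext fun m => (bas j 2 hr).ext fun m' => ?_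
    rw [LinearMap.add_apply, LinearMap.add_apply, LinearMap.flip_apply, Bq_bas, Bq_bas, frm_bas,
      choose_eq_one m.2, inv_one, mul_one, neg_eq, one_pow]
    by_cases h1 : m' = cpl 2 r m
    · have h2 : m = cpl 2 r m' := by rw [h1, cpl_cpl]
      have h3 : (m' : ℕ) ≠ m := by
        rw [h1]
        exact cpl_ne h0 m
      rw [if_pos h1]
      rcases lt_or_gt_of_ne h3 with h4 | h4
      · rw [if_neg (by omega), if_pos ⟨h2, h4⟩, zero_add]
      · rw [if_pos ⟨h1, h4⟩, if_neg (by omega), add_zero]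
    · have h2 : ¬ m = cpl 2 r m' := by
        intro h2
        apply h1
        rw [h2, cpl_cpl]
      rw [if_neg h1, if_neg (fun h => h1 h.1), if_neg (fun h => h2 h.1), add_zero]
  rw [← h, LinearMap.add_apply, LinearMap.add_apply, LinearMap.flip_apply]

/-- the quadratic form -/
noncomputable def QL {r : ℕ} (hr : r ≤ Fintype.card E - 1) (x : L j r) : k := Bq j hr x x

theorem QL_smul {r : ℕ} (hr : r ≤ Fintype.card E - 1) (c : k) (x : L j r) : QL j hr (c • x) = c ^ 2 * QL j hr x := by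
  unfold QL
  rw [map_smul, map_smul, LinearMap.smul_apply, smul_eq_mul, smul_eq_mul]
  ring

theorem QL_add {r : ℕ} (hr : r ≤ Fintype.card E - 1) (h0 : r ≠ 0) (x y : L j r) :
    QL j hr (x + y) = QL j hr x + QL j hr y + frm j 2 hr x y := by
  rw [← Bq_add j hr h0]
  unfold QL
  rw [map_add, map_add, LinearMap.add_apply, LinearMap.add_apply]
  ring

/-- the number of pairs -/
theorem card_half {r : ℕ} (h0 : r ≠ 0) :
    (SS 2 r).card = 2 * (Finset.univ.filter fun m : SS 2 r => ((cpl 2 r m : SS 2 r) : ℕ) < m).card := by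
  classical
  have h1 : (Finset.univ.filter fun m : SS 2 r => ¬ ((cpl 2 r m : SS 2 r) : ℕ) < m).card =
      (Finset.univ.filter fun m : SS 2 r => ((cpl 2 r m : SS 2 r) : ℕ) < m).card := by
    refine Finset.card_nbij' (cpl 2 r) (cpl 2 r) ?_ ?_ ?_ ?_
    · intro m hm
      have hm' : ¬ ((cpl 2 r m : SS 2 r) : ℕ) < m := (Finset.mem_filter.1 hm).2
      refine Finset.mem_filter.2 ⟨Finset.mem_univ _, ?_⟩
      rw [cpl_cpl]
      have := cpl_ne h0 m
      omega
    · intro m hm
      have hm' : ((cpl 2 r m : SS 2 r) : ℕ) < m := (Finset.mem_filter.1 hm).2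
      refine Finset.mem_filter.2 ⟨Finset.mem_univ _, ?_⟩
      rw [cpl_cpl]
      omega
    · intro m _
      exact cpl_cpl m
    · intro m _
      exact cpl_cpl m
  have h2 := Finset.card_filter_add_card_filter_not (s := (Finset.univ : Finset (SS 2 r)))
    (fun m : SS 2 r => ((cpl 2 r m : SS 2 r) : ℕ) < m)
  rw [Finset.card_univ, Fintype.card_coe] at h2
  omega

theorem QL_pL {r : ℕ} (hr : r ≤ Fintype.card E - 1) (h0 : r ≠ 0) (h4 : 4 ∣ (SS 2 r).card) (c : E × E) :
    QL j hr (pL j r c) = 0 := by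
  unfold QL
  rw [pL_eq_sum j 2 hr c]
  simp only [map_sum, LinearMap.sum_apply, map_smul, LinearMap.smul_apply, smul_eq_mul, Bq_bas, mul_ite, mul_zero]
  have h1 : ∀ m : SS 2 r, j c.2 ^ (m : ℕ) * (j c.1 ^ (r - m) * ((r.choose m : ℕ) : k)) *
      ∑ m' : SS 2 r, (if m = cpl 2 r m' ∧ (m' : ℕ) < m then
        j c.2 ^ (m' : ℕ) * (j c.1 ^ (r - m') * ((r.choose m' : ℕ) : k)) * 1 else 0) =
      if ((cpl 2 r m : SS 2 r) : ℕ) < m then j c.1 ^ r * j c.2 ^ r else 0 := by
    intro m
    rw [Finset.sum_eq_single (cpl 2 r m)]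
    · rw [cpl_cpl]
      by_cases h : ((cpl 2 r m : SS 2 r) : ℕ) < m
      · rw [if_pos ⟨rfl, h⟩, if_pos h, choose_eq_one m.2, choose_eq_one (cpl 2 r m).2]
        have h2 := (mem_SS.1 m.2).1
        have h3 : ((cpl 2 r m : SS 2 r) : ℕ) = r - m := rfl
        rw [h3]
        have h5 : r - (r - (m : ℕ)) = m := by omega
        rw [h5]
        have h6 : j c.1 ^ r = j c.1 ^ (r - (m : ℕ)) * j c.1 ^ (m : ℕ) := by rw [← pow_add]; congr 1; omega
        have h7 : j c.2 ^ r = j c.2 ^ (r - (m : ℕ)) * j c.2 ^ (m : ℕ) := by rw [← pow_add]; congr 1; omega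
        rw [h6, h7]
        ring
      · rw [if_neg (fun h' => h h'.2), if_neg h, mul_zero]
    · intro b _ hb
      rw [if_neg]
      intro h'
      apply hb
      rw [h'.1, cpl_cpl]
    · intro h
      exact absurd (Finset.mem_univ _) h
  rw [Finset.sum_congr rfl fun m _ => h1 m, ← Finset.sum_filter, Finset.sum_const, nsmul_eq_mul]
  have h2 := card_half h0
  have h3 : 2 ∣ (Finset.univ.filter fun m : SS 2 r => ((cpl 2 r m : SS 2 r) : ℕ) < m).card := by
    rw [h2] at h4
    obtain ⟨l, hl⟩ := h4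
    exact ⟨l, by omega⟩
  rw [(CharP.cast_eq_zero_iff k 2 _).2 h3, zero_mul]

/-- quadratic maps with the same polar form and the same values on the generators -/
theorem eq_of_gen {r : ℕ} {q q' : L j r → k} {b : L j r → L j r → k} (hs : ∀ (c : k) x, q (c • x) = c ^ 2 * q x)
    (hs' : ∀ (c : k) x, q' (c • x) = c ^ 2 * q' x) (ha : ∀ x y, q (x + y) = q x + q y + b x y)
    (ha' : ∀ x y, q' (x + y) = q' x + q' y + b x y) (h : ∀ c, q (pL j r c) = q' (pL j r c)) (x : L j r) :
    q x = q' x := by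
  have hx : x ∈ Submodule.span k (Set.range (pL j r)) := by rw [span_pL]; trivial
  induction hx using Submodule.span_induction with
  | mem x hx =>
    obtain ⟨c, rfl⟩ := hx
    exact h c
  | zero =>
    have h1 := hs 0 0
    have h2 := hs' 0 0
    rw [zero_smul] at h1 h2
    rw [h1, h2]
    ring
  | add x y _ _ hx hy => rw [ha, ha', hx, hy]
  | smul c x _ hx => rw [hs, hs', hx]

/-- **Invariance.** -/
theorem QL_act {r : ℕ} (hr : r ≤ Fintype.card E - 1) (h0 : r ≠ 0) (h4 : 4 ∣ (SS 2 r).card)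
    {A : Matrix (Fin 2) (Fin 2) E} (hA : A.det = 1) (x : L j r) : QL j hr (actL j r A x) = QL j hr x := by
  refine eq_of_gen j (q := fun x => QL j hr (actL j r A x)) (q' := QL j hr) (b := fun x y => frm j 2 hr x y)
    (fun c x => by rw [map_smul, QL_smul]) (QL_smul j hr) (fun x y => ?_) (QL_add j hr h0) (fun c => ?_) x
  · rw [map_add, QL_add j hr h0, frm_act, hA, map_one, one_pow, one_mul]
  · rw [actL_pL, QL_pL j hr h0 h4, QL_pL j hr h0 h4]

end two

end Cfsg.Agent.H875.Fn
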