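import Cfsg.Agent.H972.NSm
import Cfsg.Agent.H729.M24Deg
import Cfsg.Agent.H729.PairBase
import Cfsg.Agent.H269.CubeMatBase
import Cfsg.Agent.CoThreeStd.InvTwo
import Cfsg.Agent.H633.CentTwo
import Cfsg.Agent.OddHalf.Small.M24Char
import Cfsg.Agent.H992.Stages.Mathieu
import Cfsg.Agent.UGT.End.MEleven

/-!
# Nilpotent subgroups of the Mathieu groups (helper875, task 426 for S2242)

`small_M11`, `small_M12`, `small_M22`, `small_M23`, `small_M24` : `|N| ^ 2 < |G|` for nilpotent `N`.
-/

set_option autoImplicit false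

namespace Cfsg.Agent.H875.NilMathieu

open Cfsg Subgroup Cfsg.Agent.H972

universe u

/-! ### tools -/

/-- transport of the order of a centralizer -/
theorem card_cent_equiv {G H : Type*} [Group G] [Group H] (e : G ≃* H) (x : G) :
    Nat.card ↥(centralizer ({e x} : Set H)) = Nat.card ↥(centralizer ({x} : Set G)) := by
  symm
  refine Nat.card_congr (Equiv.subtypeEquiv e.toEquiv fun y => ?_)
  show y ∈ centralizer ({x} : Set G) ↔ e y ∈ centralizer ({e x} : Set H)
  rw [mem_centralizer_singleton_iff, mem_centralizer_singleton_iff, ← map_mul, ← map_mul, e.injective.eq_iff]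

/-- an injective homomorphism embeds centralizers -/
theorem card_cent_le_of_inj {G H : Type*} [Group G] [Group H] [Finite H] (f : G →* H) (hf : Function.Injective f)
    (x : G) : Nat.card ↥(centralizer ({x} : Set G)) ≤ Nat.card ↥(centralizer ({f x} : Set H)) := by
  refine Nat.card_le_card_of_injective
    (fun y : ↥(centralizer ({x} : Set G)) => (⟨f y, by
      rw [mem_centralizer_singleton_iff, ← map_mul, ← map_mul, mem_centralizer_singleton_iff.1 y.2]⟩ :
      ↥(centralizer ({f x} : Set H)))) ?_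
  intro y z h
  exact Subtype.ext (hf (congrArg Subtype.val h))

/-- small at `p` from orders of centralizers -/
theorem smallAt_of_card {G : Type*} [Group G] [Finite G] {p : ℕ} (hp : p.Prime) (b : ℕ) (hb : b ^ 2 < Nat.card G)
    (h : ∀ x : G, orderOf x = p → Nat.card ↥(centralizer ({x} : Set G)) ≤ b) : NSm.SmallAt p G :=
  NSm.smallAt_of_cent hp fun x hx => ⟨b, NSm.nle_of_card (h x hx), hb⟩

/-- the centralizer in `Sym(n)` of an element of prime order `p`, `n < 2 p` -/
theorem card_cent_perm {α : Type*} [Fintype α] [DecidableEq α] {p : ℕ} (hp : p.Prime) (hn : Fintype.card α < 2 * p)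
    {g : Equiv.Perm α} (hg : orderOf g = p) :
    Nat.card ↥(centralizer ({g} : Set (Equiv.Perm α))) = (Fintype.card α - p).factorial * p := by
  obtain ⟨n, hc⟩ := Equiv.Perm.cycleType_prime_order (σ := g) (by rw [hg]; exact hp)
  have h1 := Equiv.Perm.sum_cycleType_le g
  have hn0 : n = 0 := by
    by_contra h0
    rw [hc, hg, Multiset.sum_replicate, smul_eq_mul] at h1
    have h2 : 2 * p ≤ (n + 1) * p := Nat.mul_le_mul_right _ (by omega)
    omega
  subst hn0
  rw [Equiv.Perm.nat_card_centralizer, hc, hg]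
  simp

/-! ### nilpotent subgroups and `CT` -/

/-- if the centralizer of a Sylow 2-subgroup is a 2-group, a nilpotent subgroup is a 2-group or its order is not
divisible by the full power of 2 -/
theorem card_of_CT {G : Type*} [Group G] [Finite G] (h : H633.CentTwo.CT G) {a m : ℕ} (hG : Nat.card G = 2 ^ a * m)
    (hm : ¬ 2 ∣ m) {N : Subgroup G} (hN : Group.IsNilpotent ↥N) (hd : 2 ^ a ∣ Nat.card ↥N) : Nat.card ↥N = 2 ^ a := by
  have h2 : Fact (Nat.Prime 2) := ⟨Nat.prime_two⟩
  obtain ⟨P⟩ : Nonempty (Sylow 2 ↥N) := inferInstance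
  have hPn : (P : Subgroup ↥N).Normal := by
    have h1 := ((Group.isNilpotent_of_finite_tfae (G := ↥N)).out 0 3).1 hN
    exact h1 2 ⟨Nat.prime_two⟩ P
  have hfG : (Nat.card G).factorization 2 = a := by
    rw [hG, Nat.factorization_mul (by positivity) (by rintro rfl; exact hm (dvd_zero _)), Nat.factorization_pow]
    simp [Nat.Prime.factorization Nat.prime_two, Nat.factorization_eq_zero_of_not_dvd hm]
  have hfN : (Nat.card ↥N).factorization 2 = a := by
    apply le_antisymm
    · rw [← hfG]
      exact (Nat.factorization_le_iff_dvd Nat.card_pos.ne' Nat.card_pos.ne').2 (Subgroup.card_subgroup_dvd_card N) 2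
    · exact (Nat.prime_two.pow_dvd_iff_le_factorization Nat.card_pos.ne').1 hd
  have hPc : Nat.card ↥((P : Subgroup ↥N).map N.subtype) = 2 ^ (Nat.card G).factorization 2 := by
    rw [Subgroup.card_map_of_injective N.subtype_injective, P.card_eq_multiplicity, hfN, hfG]
  let T : Sylow 2 G := Sylow.ofCard _ hPc
  have hT : (T : Subgroup G) = (P : Subgroup ↥N).map N.subtype := rfl
  have hCT := h T
  -- an element of odd prime order
  by_contra hne
  obtain ⟨m', hm'⟩ := hd
  have hodd : ∃ p, p.Prime ∧ p ≠ 2 ∧ p ∣ Nat.card ↥N := by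
    by_contra hno
    push Not at hno
    apply hne
    have h3 : ∀ q, q.Prime → q ∣ Nat.card ↥N → q = 2 := by
      intro q hq hqd
      by_contra h4
      exact hno q hq h4 hqd
    have h4 := Nat.eq_prime_pow_of_unique_prime_dvd Nat.card_pos.ne' (fun {q} hq hqd => h3 q hq hqd)
    rw [h4]
    congr 1
    rw [h4, Nat.Prime.factorization_pow Nat.prime_two] at hfN
    simpa using hfN
  obtain ⟨p, hp, hp2, hpd⟩ := hodd
  have : Fact p.Prime := ⟨hp⟩
  obtain ⟨Q⟩ : Nonempty (Sylow p ↥N) := inferInstance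
  have hQn : (Q : Subgroup ↥N).Normal := by
    have h1 := ((Group.isNilpotent_of_finite_tfae (G := ↥N)).out 0 3).1 hN
    exact h1 p ⟨hp⟩ Q
  obtain ⟨y, hy⟩ := exists_prime_orderOf_dvd_card' (G := ↥N) p hpd
  obtain ⟨Q', hQ'⟩ := (IsPGroup.of_card (n := 1) (G := ↥(zpowers y)) (by rw [Nat.card_zpowers, hy, pow_one])).exists_le_sylow
  have hQ'n : (Q' : Subgroup ↥N).Normal := by
    have h1 := ((Group.isNilpotent_of_finite_tfae (G := ↥N)).out 0 3).1 hN
    exact h1 p ⟨hp⟩ Q'
  have hdisj : Disjoint (Q' : Subgroup ↥N) (P : Subgroup ↥N) :=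
    IsPGroup.disjoint_of_ne p 2 hp2 _ _ Q'.isPGroup' P.isPGroup'
  have hyQ : y ∈ (Q' : Subgroup ↥N) := hQ' (mem_zpowers y)
  have hyC : (y : G) ∈ centralizer ((T : Subgroup G) : Set G) := by
    rw [mem_centralizer_iff]
    intro z hz
    rw [hT] at hz
    obtain ⟨w, hw, rfl⟩ := hz
    have h5 := Subgroup.commute_of_normal_of_disjoint _ _ hQ'n hPn hdisj y w hyQ hw
    exact congrArg Subtype.val h5.symm.eq
  obtain ⟨k, hk⟩ := hCT ⟨(y : G), hyC⟩
  have h6 : (y : G) ^ 2 ^ k = 1 := congrArg Subtype.val hk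
  have h7 : orderOf (y : G) = p := by rw [Subgroup.orderOf_coe, hy]
  have h8 := orderOf_dvd_of_pow_eq_one h6
  rw [h7] at h8
  exact hp2 ((Nat.prime_dvd_prime_iff_eq hp Nat.prime_two).1 (hp.dvd_of_dvd_pow h8))

/-- bound for the nilpotent subgroups of a centralizer of order `2 ^ a * k` -/
theorem nle_of_CT {G : Type*} [Group G] [Finite G] (h : H633.CentTwo.CT G) {a m : ℕ} (hG : Nat.card G = 2 ^ (a + 1) * m)
    (hm : ¬ 2 ∣ m) {C : Subgroup G} {k : ℕ} (hC : Nat.card ↥C = 2 ^ (a + 1) * k) (hk0 : k ≠ 0) {b : ℕ}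
    (hb : 2 ^ a * k ≤ b) (hb2 : 2 ^ (a + 1) ≤ b) : NSm.NLE b ↥C := by
  intro N hN
  have e : ↥(N.map C.subtype) ≃* ↥N := (N.equivMapOfInjective _ C.subtype_injective).symm
  have hN' : Group.IsNilpotent ↥(N.map C.subtype) := Group.nilpotent_of_mulEquiv e.symm
  rw [← Nat.card_congr e.toEquiv]
  by_cases hd : 2 ^ (a + 1) ∣ Nat.card ↥(N.map C.subtype)
  · rw [card_of_CT h hG hm hN' hd]
    exact hb2
  · have h1 : Nat.card ↥(N.map C.subtype) ∣ 2 ^ (a + 1) * k := by
      rw [← hC]
      exact Subgroup.card_dvd_of_le (Subgroup.map_subtype_le _)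
    obtain ⟨⟨u, hu⟩, ⟨v, hv⟩, huv⟩ := exists_dvd_and_dvd_of_dvd_mul h1 |>.elim fun d₁ h =>
      h.elim fun d₂ h => (⟨⟨d₁, h.1⟩, ⟨d₂, h.2.1⟩, h.2.2⟩ :
        ∃ (x : {d // d ∣ 2 ^ (a + 1)}) (y : {d // d ∣ k}), Nat.card ↥(N.map C.subtype) = x.1 * y.1)
    obtain ⟨i, hi, rfl⟩ := (Nat.dvd_prime_pow Nat.prime_two).1 hu
    have hi' : i ≤ a := by
      by_contra h2
      have h3 : i = a + 1 := by omega
      apply hd
      subst h3
      rw [huv]
      exact Dvd.intro _ rfl
    have h4 : v ≤ k := Nat.le_of_dvd (Nat.pos_of_ne_zero hk0) hv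
    rw [huv]
    exact (Nat.mul_le_mul (Nat.pow_le_pow_right (by norm_num) hi') h4).trans hb

/-! ### transport -/

theorem centralizer_conj {G : Type*} [Group G] (c x : G) :
    Nat.card ↥(centralizer ({c⁻¹ * x * c} : Set G)) = Nat.card ↥(centralizer ({x} : Set G)) := by
  have h := card_cent_equiv (MulAut.conj c⁻¹) x
  rw [MulAut.conj_apply, inv_inv] at h
  exact h

theorem small_transport {G : Type*} {H : Type} [Group G] [Group H] (e : G ≃* H) (h : NSm.Small H) : NSm.Small G :=
  h.congr e.symm

/-! ### elements of order 11 and 23 -/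

theorem card_GolayPt : Fintype.card GolayPt = 24 := by decide +kernel

/-- the centralizer in `M24` of an element of order 11 has order at most 110 -/
theorem cent_eleven {x : M24} (hx : orderOf x = 11) : Nat.card ↥(centralizer ({x} : Set M24)) ≤ 110 := by
  rw [H729.PairBase.card_cent_of_one (r := 11) (by norm_num) (by rw [H729.M24Deg.card_M24]; norm_num) H729.M24Deg.o11 hx]
  refine le_trans ?_ H729.M24Deg.n11
  refine Nat.card_le_card_of_injective
    (fun z : ↥(centralizer ({SporadicStructure.M24El.el H729.MData.c11} : Set M24)) =>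
      (⟨(z : M24), 1, Finset.mem_Ico.2 ⟨le_rfl, by norm_num⟩, by
        rw [pow_one]; exact mem_centralizer_singleton_iff.1 z.2⟩ :
        {z : M24 // ∃ j ∈ Finset.Ico 1 11, z * SporadicStructure.M24El.el H729.MData.c11 =
          SporadicStructure.M24El.el H729.MData.c11 ^ j * z})) ?_
  intro y z h
  exact Subtype.ext (Subtype.mk.inj h)

/-- in a subgroup of `M24` -/
theorem cent_eleven_sub {T : Subgroup (Equiv.Perm GolayPt)} (hT : T ≤ M24) {x : T} (hx : orderOf x = 11) :
    Nat.card ↥(centralizer ({x} : Set T)) ≤ 110 := by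
  refine (card_cent_le_of_inj (Subgroup.inclusion hT) (Subgroup.inclusion_injective hT) x).trans (cent_eleven ?_)
  rw [← hx]
  exact orderOf_injective _ (Subgroup.inclusion_injective hT) x

theorem cent_23_sub {T : Subgroup (Equiv.Perm GolayPt)} {x : T} (hx : orderOf x = 23) :
    Nat.card ↥(centralizer ({x} : Set T)) ≤ 23 := by
  refine (card_cent_le_of_inj T.subtype T.subtype_injective x).trans ?_
  rw [card_cent_perm (p := 23) (by norm_num) (by rw [card_GolayPt]; norm_num) (g := T.subtype x)
    (by rw [← hx]; exact orderOf_injective _ T.subtype_injective x), card_GolayPt]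
  norm_num

/-! ### the five groups -/

theorem M12_le : Spor.M12 ≤ M24 := inf_le_left
theorem M23_le : Spor.M23 ≤ M24 := inf_le_left
theorem M22_le : Spor.M22 ≤ M24 := (inf_le_left : Spor.M22 ≤ Spor.M23).trans inf_le_left

theorem small_M24' : NSm.Small M24 := by
  have hc := H729.M24Deg.card_M24
  refine NSm.small_of_smallAt {2, 23} 10395 (2 ^ 10 * 23) (by rw [hc]; norm_num) ?_ (by rw [hc]; norm_num) ?_
  · intro p hp h
    rw [hp.dvd_mul] at h
    rcases h with h | h
    · simp [(Nat.prime_dvd_prime_iff_eq hp Nat.prime_two).1 (hp.dvd_of_dvd_pow h)]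
    · simp [(Nat.prime_dvd_prime_iff_eq hp (by norm_num)).1 h]
  · intro p hpS hp
    have hCT : H633.CentTwo.CT M24 := H633.CentTwo.CT.of_charTwo OddHalf.Small.M24Char.charTwo_M24
    rcases Finset.mem_insert.1 hpS with rfl | hpS
    · refine NSm.smallAt_of_cent hp fun x hx => ?_
      have h2 : (x : Equiv.Perm GolayPt) * x = 1 := by
        have := pow_orderOf_eq_one x
        rw [hx, pow_two] at this
        exact congrArg Subtype.val this
      have h1 : (x : Equiv.Perm GolayPt) ≠ 1 := by
        intro h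
        have h3 : x = 1 := Subtype.ext h
        rw [h3, orderOf_one] at hx
        omega
      refine ⟨10752, ?_, by rw [hc]; norm_num⟩
      rcases H269.CubeMat.card_cent x.2 h2 h1 with ⟨-, h3, -⟩ | ⟨-, h3, -⟩
      · rw [H269.CubeMat.card_CM_coe] at h3
        exact nle_of_CT (a := 9) (m := 239085) (k := 21) hCT (by rw [hc]; norm_num) (by norm_num) (by rw [h3]; norm_num)
          (by norm_num) (by norm_num) (by norm_num)
      · rw [H269.CubeMat.card_CM_coe] at h3
        exact NSm.nle_of_card (by rw [h3]; norm_num)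
    · rw [Finset.mem_singleton] at hpS
      subst hpS
      exact smallAt_of_card hp 23 (by rw [hc]; norm_num) fun x hx => cent_23_sub hx

theorem small_M23' : NSm.Small Spor.M23 := by
  have hc : Nat.card Spor.M23 = 10200960 := SporadicA.MathieuRecog.card_M23
  have := OddHalf.D4.Spor.M2223.finite23
  refine NSm.small_of_smallAt {2, 11, 23} 315 (2 ^ 7 * (11 * 23)) (by rw [hc]; norm_num) ?_ (by rw [hc]; norm_num) ?_
  · intro p hp h
    rw [hp.dvd_mul, hp.dvd_mul] at h
    rcases h with h | h | h
    · simp [(Nat.prime_dvd_prime_iff_eq hp Nat.prime_two).1 (hp.dvd_of_dvd_pow h)]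
    · simp [(Nat.prime_dvd_prime_iff_eq hp (by norm_num)).1 h]
    · simp [(Nat.prime_dvd_prime_iff_eq hp (by norm_num)).1 h]
  · intro p hpS hp
    simp only [Finset.mem_insert, Finset.mem_singleton] at hpS
    rcases hpS with rfl | rfl | rfl
    · exact smallAt_of_card hp 2688 (by rw [hc]; norm_num) fun x hx => (H992.Stages.card_cent_m23 hx).le
    · exact smallAt_of_card hp 110 (by rw [hc]; norm_num) fun x hx => cent_eleven_sub M23_le hx
    · exact smallAt_of_card hp 23 (by rw [hc]; norm_num) fun x hx => cent_23_sub hx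

theorem small_M22' : NSm.Small Spor.M22 := by
  have hc : Nat.card Spor.M22 = 443520 := SporadicA.MathieuRecog.card_M22
  have := OddHalf.D4.Spor.M2223.finite22
  refine NSm.small_of_smallAt {2, 11} 315 (2 ^ 7 * 11) (by rw [hc]; norm_num) ?_ (by rw [hc]; norm_num) ?_
  · intro p hp h
    rw [hp.dvd_mul] at h
    rcases h with h | h
    · simp [(Nat.prime_dvd_prime_iff_eq hp Nat.prime_two).1 (hp.dvd_of_dvd_pow h)]
    · simp [(Nat.prime_dvd_prime_iff_eq hp (by norm_num)).1 h]
  · intro p hpS hp
    simp only [Finset.mem_insert, Finset.mem_singleton] at hpS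
    rcases hpS with rfl | rfl
    · exact smallAt_of_card hp 384 (by rw [hc]; norm_num) fun x hx => (H992.Stages.card_cent_m22 hx).le
    · exact smallAt_of_card hp 110 (by rw [hc]; norm_num) fun x hx => cent_eleven_sub M22_le hx

theorem small_M12' : NSm.Small Spor.M12 := by
  have hc : Nat.card Spor.M12 = 95040 := CoThreeStd.MTwelve.card_H
  have hfin : Finite Spor.M12 := Nat.finite_of_card_ne_zero (by rw [hc]; norm_num)
  refine NSm.small_of_smallAt {2, 11} 135 (2 ^ 6 * 11) (by rw [hc]; norm_num) ?_ (by rw [hc]; norm_num) ?_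
  · intro p hp h
    rw [hp.dvd_mul] at h
    rcases h with h | h
    · simp [(Nat.prime_dvd_prime_iff_eq hp Nat.prime_two).1 (hp.dvd_of_dvd_pow h)]
    · simp [(Nat.prime_dvd_prime_iff_eq hp (by norm_num)).1 h]
  · intro p hpS hp
    simp only [Finset.mem_insert, Finset.mem_singleton] at hpS
    rcases hpS with rfl | rfl
    · refine smallAt_of_card hp 240 (by rw [hc]; norm_num) fun x hx => ?_
      have h2 : x * x = 1 := by
        have := pow_orderOf_eq_one x
        rwa [hx, pow_two] at this
      have h1 : x ≠ 1 := by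
        rintro rfl
        rw [orderOf_one] at hx
        omega
      rcases CoThreeStd.InvTwo.inv2.cases x h2 h1 with ⟨c, h⟩ | ⟨c, h⟩
      · rw [← h, centralizer_conj]
        exact CoThreeStd.MTwelve.card_cent_y.le
      · rw [← h, centralizer_conj]
        have := CoThreeStd.MTwelve.card_cent_v
        exact le_trans this.le (by norm_num)
    · exact smallAt_of_card hp 110 (by rw [hc]; norm_num) fun x hx => cent_eleven_sub M12_le hx

theorem small_M11' {G : Type u} [Group G] [Finite G] (h : Cfsg.Spor.IsoM11 G) : NSm.Small G := by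
  have hM := UGT.End.MEleven.isM11 h
  have hc := hM.2
  refine NSm.small_of_smallAt {2, 11} 45 (2 ^ 4 * 11) (by rw [hc]; norm_num) ?_ (by rw [hc]; norm_num) ?_
  · intro p hp h
    rw [hp.dvd_mul] at h
    rcases h with h | h
    · simp [(Nat.prime_dvd_prime_iff_eq hp Nat.prime_two).1 (hp.dvd_of_dvd_pow h)]
    · simp [(Nat.prime_dvd_prime_iff_eq hp (by norm_num)).1 h]
  · intro p hpS hp
    simp only [Finset.mem_insert, Finset.mem_singleton] at hpS
    rcases hpS with rfl | rfl
    · exact smallAt_of_card hp 48 (by rw [hc]; norm_num) fun x hx => (SporadicA.M11Facts.card_centralizer_two hM hx).le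
    · exact smallAt_of_card hp 11 (by rw [hc]; norm_num) fun x hx =>
        (SporadicA.M11Sylow.card_centralizer_eleven hM hx).le

theorem small_M11 {G : Type u} [Group G] [Finite G] (h : Cfsg.Spor.IsoM11 G)
    (_hI : ∀ (H : Type u) [Group H] [Finite H], IsSimpleGroup H → ¬ IsMulCommutative H → Nat.card H < Nat.card G →
      NSm.Small H) : NSm.Small G := small_M11' h

theorem small_M12 {G : Type u} [Group G] [Finite G] (h : Cfsg.Spor.IsoM12 G)
    (_hI : ∀ (H : Type u) [Group H] [Finite H], IsSimpleGroup H → ¬ IsMulCommutative H → Nat.card H < Nat.card G →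
      NSm.Small H) : NSm.Small G := by
  obtain ⟨e⟩ := h
  exact small_M12'.congr e.symm

theorem small_M22 {G : Type u} [Group G] [Finite G] (h : Cfsg.Spor.IsoM22 G)
    (_hI : ∀ (H : Type u) [Group H] [Finite H], IsSimpleGroup H → ¬ IsMulCommutative H → Nat.card H < Nat.card G →
      NSm.Small H) : NSm.Small G := by
  obtain ⟨e⟩ := h
  exact small_M22'.congr e.symm

theorem small_M23 {G : Type u} [Group G] [Finite G] (h : Cfsg.Spor.IsoM23 G)
    (_hI : ∀ (H : Type u) [Group H] [Finite H], IsSimpleGroup H → ¬ IsMulCommutative H → Nat.card H < Nat.card G →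
      NSm.Small H) : NSm.Small G := by
  obtain ⟨e⟩ := h
  exact small_M23'.congr e.symm

theorem small_M24 {G : Type u} [Group G] [Finite G] (h : Cfsg.Spor.IsoM24 G)
    (_hI : ∀ (H : Type u) [Group H] [Finite H], IsSimpleGroup H → ¬ IsMulCommutative H → Nat.card H < Nat.card G →
      NSm.Small H) : NSm.Small G := by
  obtain ⟨e⟩ := h
  exact small_M24'.congr e.symm

end Cfsg.Agent.H875.NilMathieu
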