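import Cfsg.Prelude.Def_GeometricClasses
import Cfsg.Agent.ClassicalGeometry.SympSiegel
import Cfsg.Agent.S0765

/-!
Overgroups in the symplectic group `Sp_2m(F)`: the bridge between Mathlib's symplectic group and the
subgroup `Cfsg.spGL` of `GL`, and the calculus of full transvection groups contained in a subgroup.
`Full M v` says that all transvections `x ↦ x + c f(x,v) v` lie in `M`. The set of such `v` is stable
under `M`, under scalars, and under sums of non-orthogonal members.
-/

set_option autoImplicit false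
open Cfsg
open scoped Matrix
open Cfsg.Agent.ClassicalGeometry.SympBasic Cfsg.Agent.ClassicalGeometry.SympSiegel

namespace Cfsg.Agent.H875

variable {F : Type*} [Field F] {m : ℕ}

local notation "V" => (Fin m ⊕ Fin m → F)
local notation "G" => Matrix.symplecticGroup (Fin m) F
local notation "f" => sympForm m F

/-- The inclusion of the symplectic group in the general linear group. -/
def toGL (m : ℕ) (F : Type*) [Field F] :
    Matrix.symplecticGroup (Fin m) F →* GL (Fin m ⊕ Fin m) F :=
  (Units.map (Matrix.symplecticGroup (Fin m) F).subtype).comp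
    (toUnits : Matrix.symplecticGroup (Fin m) F ≃* (Matrix.symplecticGroup (Fin m) F)ˣ).toMonoidHom

theorem coe_toGL (g : G) :
    ((toGL m F g : GL (Fin m ⊕ Fin m) F) : Matrix (Fin m ⊕ Fin m) (Fin m ⊕ Fin m) F) = g := rfl

theorem toGL_mulVec (g : G) (v : V) :
    ((toGL m F g : GL (Fin m ⊕ Fin m) F) : Matrix (Fin m ⊕ Fin m) (Fin m ⊕ Fin m) F) *ᵥ v
      = g • v := rfl

theorem toGL_injective : Function.Injective (toGL m F) := by
  intro g h hgh
  apply Subtype.ext
  exact congrArg (fun x : GL (Fin m ⊕ Fin m) F =>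
    (x : Matrix (Fin m ⊕ Fin m) (Fin m ⊕ Fin m) F)) hgh

theorem mem_spGL_iff (g : GL (Fin m ⊕ Fin m) F) :
    g ∈ spGL m F ↔ ∀ u v, f ((g : Matrix (Fin m ⊕ Fin m) (Fin m ⊕ Fin m) F) *ᵥ u)
      ((g : Matrix (Fin m ⊕ Fin m) (Fin m ⊕ Fin m) F) *ᵥ v) = f u v := Iff.rfl

theorem toGL_range : (toGL m F).range = spGL m F := by
  ext g
  rw [mem_spGL_iff, ← mem_symplecticGroup_iff]
  constructor
  · rintro ⟨x, rfl⟩
    exact x.2
  · intro h
    exact ⟨⟨g, h⟩, Units.ext rfl⟩

theorem toGL_mem_spGL (g : G) : toGL m F g ∈ spGL m F := by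
  rw [← toGL_range]; exact ⟨g, rfl⟩

/-- The maximality criterion, transported to Mathlib's symplectic group. -/
theorem isMaximalIn_of (K : Subgroup (GL (Fin m ⊕ Fin m) F))
    (hne : ∃ g : G, toGL m F g ∉ K)
    (h : ∀ M : Subgroup G, K.comap (toGL m F) ≤ M → (∃ g ∈ M, toGL m F g ∉ K) → M = ⊤) :
    Cfsg.Geo.IsMaximalIn (spGL m F) (K ⊓ spGL m F) := by
  refine ⟨lt_of_le_of_ne inf_le_right ?_, ?_⟩
  · intro he
    obtain ⟨g, hg⟩ := hne
    have := toGL_mem_spGL g
    rw [← he] at this
    exact hg this.1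
  · intro M hKM hM
    by_cases hex : ∃ g ∈ M.comap (toGL m F), toGL m F g ∉ K
    · right
      have h1 : M.comap (toGL m F) = ⊤ := by
        apply h _ _ hex
        intro g hg
        exact hKM ⟨hg, toGL_mem_spGL g⟩
      refine le_antisymm hM ?_
      rw [← toGL_range]
      rintro _ ⟨g, rfl⟩
      have : g ∈ M.comap (toGL m F) := by rw [h1]; trivial
      exact this
    · left
      push Not at hex
      refine le_antisymm ?_ hKM
      intro x hx
      have hx' := hM hx
      refine ⟨?_, hx'⟩
      rw [← toGL_range] at hx'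
      obtain ⟨g, rfl⟩ := hx'
      exact hex g hx

/-- A strict inclusion of subgroups of `spGL` from one in the symplectic group. -/
theorem exists_between_of (K : Subgroup (GL (Fin m ⊕ Fin m) F)) (N : Subgroup G)
    (h1 : K.comap (toGL m F) ≤ N) (h2 : ∃ g ∈ N, toGL m F g ∉ K) (h3 : ∃ g : G, g ∉ N) :
    ∃ L : Subgroup (GL (Fin m ⊕ Fin m) F), K ⊓ spGL m F < L ∧ L < spGL m F := by
  refine ⟨N.map (toGL m F), ?_, ?_⟩
  · refine lt_of_le_of_ne ?_ ?_
    · rintro x ⟨hx, hx'⟩
      change x ∈ spGL m F at hx'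
      rw [← toGL_range] at hx'
      obtain ⟨g, rfl⟩ := hx'
      exact ⟨g, h1 hx, rfl⟩
    · intro he
      obtain ⟨g, hg, hgK⟩ := h2
      have : toGL m F g ∈ K ⊓ spGL m F := by rw [he]; exact ⟨g, hg, rfl⟩
      exact hgK this.1
  · refine lt_of_le_of_ne ?_ ?_
    · rintro _ ⟨g, -, rfl⟩
      exact toGL_mem_spGL g
    · intro he
      obtain ⟨g, hg⟩ := h3
      have := toGL_mem_spGL g
      rw [← he] at this
      obtain ⟨g', hg', he'⟩ := this
      rw [toGL_injective he'] at hg'
      exact hg hg'

/-- All transvections at `v` lie in `M`. -/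
def Full (M : Subgroup G) (v : V) : Prop := ∀ c : F, transv v c ∈ M

theorem Full.smul {M : Subgroup G} {v : V} (h : Full M v) {g : G} (hg : g ∈ M) :
    Full M (g • v) := by
  intro c
  rw [← conj_transv]
  exact M.mul_mem (M.mul_mem hg (h c)) (M.inv_mem hg)

theorem full_zero (M : Subgroup G) : Full M 0 := by
  intro c
  have : transv (0 : V) c = 1 := by
    apply ext_smul
    intro x
    rw [transv_smul, smul_zero, add_zero, one_smul]
  rw [this]
  exact M.one_mem

theorem Full.smul_vec {M : Subgroup G} {v : V} (h : Full M v) (a : F) : Full M (a • v) := by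
  intro c
  rw [transv_smul_vec]
  exact h _

theorem Full.neg {M : Subgroup G} {v : V} (h : Full M v) : Full M (-v) := by
  have := h.smul_vec (-1)
  rwa [neg_one_smul] at this

theorem full_smul_iff {M : Subgroup G} {v : V} {a : F} (ha : a ≠ 0) :
    Full M (a • v) ↔ Full M v := by
  refine ⟨fun h => ?_, fun h => h.smul_vec a⟩
  have := h.smul_vec a⁻¹
  rwa [smul_smul, inv_mul_cancel₀ ha, one_smul] at this

/-- Sums of non-orthogonal members. -/
theorem Full.add {M : Subgroup G} {u v : V} (hu : Full M u) (hv : Full M v)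
    (h : f u v ≠ 0) : Full M (u + v) := by
  have h1 := hu.smul (hv (f u v)⁻¹)
  rwa [transv_smul, inv_mul_cancel₀ h, one_smul] at h1

theorem Full.sub {M : Subgroup G} {u v : V} (hu : Full M u) (hv : Full M v)
    (h : f u v ≠ 0) : Full M (u - v) := by
  rw [sub_eq_add_neg]
  apply hu.add hv.neg
  rwa [sympForm_neg_right, neg_ne_zero]

theorem Full.add_smul {M : Subgroup G} {u v : V} (hu : Full M u) (hv : Full M v)
    (h : f u v ≠ 0) (a : F) : Full M (u + a • v) := by
  by_cases ha : a = 0
  · rw [ha, zero_smul, add_zero]; exact hu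
  · apply hu.add (hv.smul_vec a)
    rw [sympForm_smul_right]
    exact mul_ne_zero ha h

/-- If all the vectors are full then `M` is everything. -/
theorem eq_top_of_full {M : Subgroup G} (h : ∀ v : V, Full M v) : M = ⊤ := by
  rw [eq_top_iff, ← Cfsg.Agent.S0765.result m, Subgroup.closure_le]
  rintro A ⟨w, c, hA⟩
  have : A = transv w c := Subtype.ext hA
  rw [this]
  exact h w c

end Cfsg.Agent.H875
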