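import Cfsg.Agent.S5647
import Cfsg.Agent.S5649
import Cfsg.Agent.S5650

/-!
# Maximal subgroups of `Sp_2m(q)` for general `m`

The theorems of S5647, S5649, S5650 with the hypothesis `7 ≤ m` weakened:

* `dec_maximal`: stabilisers of decompositions into non-degenerate subspaces (every `m`);
* `pair_maximal`: stabilisers of complementary pairs of totally singular subspaces (`4 ≤ m`, `q` odd);
* `sub_maximal`: subfield groups (`3 ≤ m` for `q` odd, `5 ≤ m` for `q` even).
-/

set_option autoImplicit false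

namespace Cfsg.Agent.H875.SpGen

open Cfsg
open Cfsg.Agent.H875 Cfsg.Agent.ClassicalGeometry.SympBasic
  Cfsg.Agent.ClassicalGeometry.SympSiegel
open Cfsg.Agent.H930 (rv rv_add rv_smul rv_zero rv_injective)
open Cfsg.Agent.S5647 (big_of)
open Cfsg.Agent.S5649 (image_pair exists_swap_pair)

/-- The stabiliser of a decomposition into pairwise orthogonal non-degenerate `k`-spaces is maximal
in `Sp_2m(F)` unless `k = |F| = 2`. -/
theorem dec_maximal {F : Type*} [Field F] [Fintype F] (m : ℕ) {t : ℕ} (k : ℕ) (D : Fin t → Submodule F (Fin m ⊕ Fin m → F)) (hD : Cfsg.Geo.IsNondegenerateMDecomposition (Cfsg.sympForm m F) k D) (hex : ¬ (k = 2 ∧ Fintype.card F = 2)) : Cfsg.Geo.IsMaximalIn (Cfsg.spGL m F) (Cfsg.Geo.decompositionStabilizer D ⊓ Cfsg.spGL m F) := by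
  classical
  obtain ⟨P, hP⟩ := exists_isProj hD.decomp.indep hD.decomp.iSup_eq_top
  have hne : ∀ l, ∃ w ∈ D l, w ≠ 0 := by
    intro l
    apply Submodule.exists_mem_ne_zero_of_ne_bot
    intro h
    have h2 := hD.decomp.finrank_eq l
    rw [h, finrank_bot] at h2
    exact absurd h2.symm hD.decomp.pos.ne'
  have hbig : ∀ i, Big (D i) := fun i =>
    big_of (hD.nondegenerate i) (hD.decomp.finrank_eq i) hD.decomp.pos hex
  apply isMaximalIn_of
  · -- properness
    have ht := hD.decomp.two_le
    let i₀ : Fin t := ⟨0, by omega⟩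
    let i₁ : Fin t := ⟨1, by omega⟩
    have h01 : i₀ ≠ i₁ := fun h => by
      have := congrArg Fin.val h
      simp [i₀, i₁] at this
    obtain ⟨x, hx, hx0⟩ := hne i₀
    obtain ⟨y, hy, hy0⟩ := hne i₁
    obtain ⟨⟨z, hz, hzx⟩, -⟩ := hD.nondegenerate i₀ x hx hx0
    refine ⟨transv (x + y) 1, fun hmem => ?_⟩
    obtain ⟨σ, hσ⟩ := smul_mem_of_mem_decompositionStabilizer hmem
    have h1 := hσ i₀ z hz
    have hzy : sympForm m F z y = 0 := hD.orthogonal i₀ i₁ h01 z hz y hy
    rw [transv_smul, one_mul, sympForm_add_right, hzy, add_zero] at h1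
    by_cases hs : σ i₀ = i₀
    · rw [hs] at h1
      have h2 := hP.ne i₁ i₀ (Ne.symm h01) _ h1
      rw [map_add, map_smul, map_add, hP.ne i₁ i₀ (Ne.symm h01) _ hz,
        hP.ne i₁ i₀ (Ne.symm h01) _ hx, hP.same i₁ _ hy, zero_add, zero_add] at h2
      rcases smul_eq_zero.1 h2 with h3 | h3
      · exact hzx h3
      · exact hy0 h3
    · have h2 := hP.ne i₀ (σ i₀) (Ne.symm hs) _ h1
      rw [map_add, map_smul, map_add, hP.same i₀ _ hz, hP.same i₀ _ hx,
        hP.ne i₀ i₁ h01 _ hy, add_zero] at h2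
      have h3 := congrArg (fun v => sympForm m F v x) h2
      simp only [sympForm_add_left, sympForm_smul_left, sympForm_self, mul_zero, add_zero,
        sympForm_zero_left] at h3
      exact hzx h3
  · -- maximality
    intro M hM ⟨g, hgM, hg⟩
    by_contra htop
    apply hg
    -- every image of a block vector has at most one non-zero component
    have hone : ∀ i, ∀ x ∈ D i, ∀ a b, a ≠ b → P a (g • x) ≠ 0 → P b (g • x) = 0 := by
      intro i x hx a b hab ha
      by_contra hb
      apply htop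
      refine eq_top_of_two_components hD hP hbig hM (u := g • x) ?_ hab ha hb
      exact Full.smul (fun c => hM (transv_mem_dec hD i hx c)) hgM
    have hblock : ∀ i, ∃ j, ∀ x ∈ D i, g • x ∈ D j := by
      intro i
      obtain ⟨x₀, hx₀, hx₀0⟩ := hne i
      have hgx₀ : g • x₀ ≠ 0 := smul_ne_zero' g hx₀0
      obtain ⟨j, hj⟩ : ∃ j, P j (g • x₀) ≠ 0 := by
        by_contra hcon
        push Not at hcon
        apply hgx₀
        rw [← hP.sum (g • x₀)]
        exact Finset.sum_eq_zero fun j _ => hcon j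
      refine ⟨j, fun x hx => ?_⟩
      have hzero : ∀ l, l ≠ j → P l (g • x) = 0 := by
        intro l hl
        by_contra hl0
        have h1 : P j (g • x) = 0 := hone i x hx l j hl hl0
        have h2 : P l (g • x₀) = 0 := hone i x₀ hx₀ j l (Ne.symm hl) hj
        have h3 := hone i (x₀ + x) ((D i).add_mem hx₀ hx) j l (Ne.symm hl) (by
          rw [smul_add', map_add, h1, add_zero]; exact hj)
        rw [smul_add', map_add, h2, zero_add] at h3
        exact hl0 h3
      rw [← hP.sum (g • x), Finset.sum_eq_single j]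
      · exact hP.mem j _
      · intro l _ hl
        exact hzero l hl
      · intro h; exact absurd (Finset.mem_univ j) h
    choose s hs using hblock
    have hinj : Function.Injective (fun x : Fin m ⊕ Fin m → F => g • x) := fun x y hxy =>
      smul_left_cancel g hxy
    let L : (Fin m ⊕ Fin m → F) →ₗ[F] (Fin m ⊕ Fin m → F) :=
      Matrix.toLin' ((g : Matrix (Fin m ⊕ Fin m) (Fin m ⊕ Fin m) F))
    have hL : ∀ x, L x = g • x := fun x => rfl
    have hmap : ∀ i, (D i).map L = D (s i) := by
      intro i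
      apply Submodule.eq_of_le_of_finrank_eq
      · rintro _ ⟨x, hx, rfl⟩
        exact hs i x hx
      · rw [hD.decomp.finrank_eq (s i), ← hD.decomp.finrank_eq i]
        exact (Submodule.equivMapOfInjective _ hinj (D i)).finrank_eq.symm
    have hsinj : Function.Injective s := by
      intro i j hij
      by_contra hne'
      have h1 : (D i).map L = (D j).map L := by rw [hmap, hmap, hij]
      obtain ⟨x, hx, hx0⟩ := hne i
      have h2 : L x ∈ (D j).map L := by rw [← h1]; exact ⟨x, hx, rfl⟩
      obtain ⟨y, hy, hyx⟩ := h2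
      have h3 : y = x := hinj hyx
      rw [h3] at hy
      have h4 := hP.ne i j hne' x hy
      rw [hP.same i x hx] at h4
      exact hx0 h4
    let σ : Equiv.Perm (Fin t) := Equiv.ofBijective s
      (Finite.injective_iff_bijective.1 hsinj)
    exact mem_decompositionStabilizer_of hD.decomp σ (fun i x hx => hs i x hx)

/-- The stabiliser of a complementary pair of totally singular subspaces is maximal in `Sp_2m(F)`,
`m ≥ 4`, `|F|` odd. -/
theorem pair_maximal {F : Type*} [Field F] [Fintype F] (m : ℕ) (hm : 4 ≤ m) (hodd : Odd (Fintype.card F)) (D : Fin 2 → Submodule F (Fin m ⊕ Fin m → F)) (hD : Cfsg.Geo.IsMDecomposition m D) (hts : ∀ i, Cfsg.Geo.IsTotallySingularFor (Cfsg.sympForm m F) (D i)) : Cfsg.Geo.IsMaximalIn (Cfsg.spGL m F) (Cfsg.Geo.decompositionStabilizer D ⊓ Cfsg.spGL m F) := by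
  classical
  have h2 : (2 : F) ≠ 0 := by
    intro h
    have hc : ((Fintype.card F : ℕ) : F) = 0 := Nat.cast_card_eq_zero F
    obtain ⟨k, hk⟩ := hodd
    rw [hk] at hc
    push_cast at hc
    rw [h, zero_mul, zero_add] at hc
    exact one_ne_zero hc
  obtain ⟨P, hP⟩ := exists_isProj hD.indep hD.iSup_eq_top
  have hpair : LPair (D 0) (D 1) := by
    refine ⟨hts 0, hts 1, fun v => ⟨P 0 v, hP.mem 0 v, P 1 v, hP.mem 1 v, ?_⟩⟩
    rw [← Fin.sum_univ_two (fun i => P i v), hP.sum v]
  have hd0 : Module.finrank F (D 0) = m := hD.finrank_eq 0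
  have hd1 : Module.finrank F (D 1) = m := hD.finrank_eq 1
  obtain ⟨s, hs, hs'⟩ := exists_swap_pair hpair (by rw [hd0, hd1])
  have hsmem : toGL m F s ∈ Cfsg.Geo.decompositionStabilizer D := by
    apply mem_decompositionStabilizer_of hD (Equiv.swap 0 1)
    intro i x hx
    fin_cases i
    · exact hs x hx
    · exact hs' x hx
  apply isMaximalIn_of
  · obtain ⟨b, hb, hb0⟩ : ∃ b ∈ D 1, b ≠ 0 := by
      apply Submodule.exists_mem_ne_zero_of_ne_bot
      intro h
      rw [h, finrank_bot] at hd1
      omega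
    obtain ⟨z, hz, hbz⟩ := hpair.symm.exists_one hb hb0
    have hzb : sympForm m F z b = -1 := by rw [sympForm_swap, hbz]
    have hz0 : z ≠ 0 := by
      rintro rfl
      rw [sympForm_zero_right] at hbz
      exact zero_ne_one hbz
    refine ⟨transv (z - b) 1, fun hmem => ?_⟩
    obtain ⟨σ, hσ⟩ := smul_mem_of_mem_decompositionStabilizer hmem
    have h3 := hσ 0 z hz
    rw [transv_smul, one_mul, sympForm_sub_right, sympForm_self, hzb, zero_sub, neg_neg,
      one_smul] at h3
    have e : z + (z - b) = (2 : F) • z + (-1 : F) • b := by module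
    rw [e] at h3
    have h4 : ∀ i : Fin 2, i = 0 ∨ i = 1 := by decide
    rcases h4 (σ 0) with h5 | h5
    · rw [h5] at h3
      have h6 := (D 0).sub_mem h3 ((D 0).smul_mem 2 hz)
      rw [add_sub_cancel_left] at h6
      have h7 := hpair.disjoint h6 ((D 1).smul_mem _ hb)
      rw [neg_one_smul, neg_eq_zero] at h7
      exact hb0 h7
    · rw [h5] at h3
      have h6 := (D 1).sub_mem h3 ((D 1).smul_mem (-1) hb)
      rw [add_sub_cancel_right] at h6
      have h7 := hpair.disjoint ((D 0).smul_mem _ hz) h6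
      rcases smul_eq_zero.1 h7 with h8 | h8
      · exact h2 h8
      · exact hz0 h8
  · intro M hM ⟨g, hgM, hg⟩
    have hrel : ∀ p ∈ D 0, ∀ q ∈ D 1, sympForm m F p q = 0 → Rel M p q := by
      intro p hp q hq hpq
      refine ⟨hpq, fun c => hM ?_⟩
      have hpq' : sympForm m F p (c • q) = 0 := by rw [sympForm_smul_right, hpq, mul_zero]
      apply mem_decompositionStabilizer_of hD 1
      intro i x hx
      rw [siegel_smul hpq', zero_smul, add_zero]
      fin_cases i
      · change x ∈ D 0 at hx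
        change _ ∈ D 0
        rw [hpair.iso p hp x hx, zero_smul, add_zero]
        exact (D 0).add_mem hx ((D 0).smul_mem _ hp)
      · change x ∈ D 1 at hx
        change _ ∈ D 1
        rw [hpair.iso' _ ((D 1).smul_mem c hq) x hx, zero_smul, add_zero]
        exact (D 1).add_mem hx ((D 1).smul_mem _ ((D 1).smul_mem _ hq))
    have hgrp : PairGrp M (D 0) (D 1) :=
      ⟨hpair, hrel, ⟨s, hM hsmem, hs⟩, ⟨s, hM hsmem, hs'⟩⟩
    by_cases hno : ∃ u, u ≠ 0 ∧ Full M u
    · obtain ⟨u, hu0, hu⟩ := hno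
      exact eq_top_of_full (hgrp.all_of_full h2 (by omega) (by omega) hu0 hu)
    · exfalso
      push Not at hno
      apply hg
      rcases image_pair hgrp h2 hno (by omega) (by omega) hgM with ⟨h3, h4⟩ | ⟨h3, h4⟩
      · apply mem_decompositionStabilizer_of hD 1
        intro i x hx
        fin_cases i
        · exact h3 x hx
        · exact h4 x hx
      · apply mem_decompositionStabilizer_of hD (Equiv.swap 0 1)
        intro i x hx
        fin_cases i
        · exact h3 x hx
        · exact h4 x hx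

/-- A subfield group is maximal in `Sp_2m(F)`, `m ≥ 3` for `|F|` odd, `m ≥ 5` for `|F|` even. -/
theorem sub_maximal {F : Type*} [Field F] [Fintype F] (m : ℕ) (hm : 3 ≤ m) (hm2 : (2 : F) = 0 → 5 ≤ m) (F₀ : Subfield F) (r : ℕ) (hr : r.Prime) (hcard : Fintype.card F = Nat.card F₀ ^ r) (P : Matrix.GeneralLinearGroup (Fin m ⊕ Fin m) F) (ζ : F) (hζ : ζ ≠ 0) (hP : Cfsg.Geo.IsFormRationalStructure (Cfsg.sympForm m F) F₀ ζ P) : Cfsg.Geo.IsMaximalIn (Cfsg.spGL m F) (Cfsg.Geo.subfieldSubgroup F₀ P ⊓ Cfsg.spGL m F) := by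
  classical
  have hF₀ : F₀ ≠ ⊤ := by
    rintro rfl
    have h1 : Nat.card (⊤ : Subfield F) = Fintype.card F := by
      rw [← Nat.card_eq_fintype_card]
      exact Nat.card_congr (Subfield.topEquiv : (⊤ : Subfield F) ≃+* F).toEquiv
    rw [h1] at hcard
    have h2 : 1 < Fintype.card F := Fintype.one_lt_card
    have h3 : Fintype.card F ^ 1 < Fintype.card F ^ r := Nat.pow_lt_pow_right h2 hr.one_lt
    rw [pow_one] at h3
    omega
  -- the rational structure
  let L : (Fin m ⊕ Fin m → F₀) →ₗ[F₀] (Fin m ⊕ Fin m → F) :=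
    { toFun := rv F₀ P
      map_add' := rv_add P
      map_smul' := rv_smul P }
  have hL : ∀ u, L u = rv F₀ P u := fun u => rfl
  let V₀ : Submodule F₀ (Fin m ⊕ Fin m → F) := LinearMap.range L
  have hmem : ∀ v, v ∈ V₀ ↔ ∃ u, rv F₀ P u = v := fun v => Iff.rfl
  have hrat : RatStr F₀ ζ V₀ := by
    refine ⟨hζ, ?_, ?_⟩
    · rintro _ ⟨u, rfl⟩ _ ⟨v, rfl⟩
      exact hP _ _ (fun i => (u i).2) (fun i => (v i).2)
    · intro v hv
      apply eq_zero_of_forall_sympForm_right
      intro w
      -- `w` is a combination of the columns of `P`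
      have h1 : w = ∑ j, ((((P⁻¹ : Matrix.GeneralLinearGroup (Fin m ⊕ Fin m) F) :
          Matrix (Fin m ⊕ Fin m) (Fin m ⊕ Fin m) F).mulVec w) j) •
          rv F₀ P (Pi.single j 1) := by
        have h2 : ∀ j, rv F₀ P (Pi.single j 1) =
            (P : Matrix (Fin m ⊕ Fin m) (Fin m ⊕ Fin m) F).mulVec (Pi.single j 1) := by
          intro j
          rw [rv, Cfsg.Agent.H873.Sub.cv_single]
        simp only [h2]
        have h3 : ∀ x : Fin m ⊕ Fin m → F,
            (P : Matrix (Fin m ⊕ Fin m) (Fin m ⊕ Fin m) F).mulVec x =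
            ∑ j, x j • (P : Matrix (Fin m ⊕ Fin m) (Fin m ⊕ Fin m) F).mulVec (Pi.single j 1) := by
          intro x
          have h4 : x = ∑ j, x j • (Pi.single j (1 : F) : Fin m ⊕ Fin m → F) := by
            funext i
            simp [Finset.sum_apply, Pi.single_apply]
          conv_lhs => rw [h4]
          rw [← Matrix.toLin'_apply, map_sum]
          simp only [map_smul, Matrix.toLin'_apply]
        rw [← h3, Matrix.mulVec_mulVec, ← Units.val_mul, mul_inv_cancel, Units.val_one,
          Matrix.one_mulVec]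
      rw [h1, form_sum_right]
      apply Finset.sum_eq_zero
      intro j _
      rw [sympForm_smul_right, hv (rv F₀ P (Pi.single j 1)) ⟨_, rfl⟩, mul_zero]
  have hdim : Module.finrank F₀ V₀ = m + m := by
    have h1 : Module.finrank F₀ V₀ = Module.finrank F₀ (Fin m ⊕ Fin m → F₀) :=
      LinearMap.finrank_range_of_inj (rv_injective P)
    rw [h1, Module.finrank_fintype_fun_eq_card, Fintype.card_sum, Fintype.card_fin]
  apply isMaximalIn_of
  · by_contra hcon
    push Not at hcon
    apply Cfsg.Agent.H931.spGL_not_le_subfieldSubgroup (by omega : 1 ≤ m) (Or.inl (by omega)) hF₀ P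
    rw [← toGL_range]
    rintro _ ⟨g, rfl⟩
    exact hcon g
  · intro M hKM ⟨g, hgM, hg⟩
    have hM : ∀ g : Matrix.symplecticGroup (Fin m) F, (∀ v ∈ V₀, g • v ∈ V₀) → g ∈ M := by
      intro g hg
      apply hKM
      apply Cfsg.Agent.H930.mem_subfieldSubgroup_of_rat
      intro u
      obtain ⟨w, hw⟩ := hg _ ⟨u, rfl⟩
      exact ⟨w, hw.symm⟩
    -- an irrational image
    obtain ⟨u, hu⟩ : ∃ u : Fin m ⊕ Fin m → F₀, ∀ (l : F) (w : Fin m ⊕ Fin m → F₀),
        g • rv F₀ P u ≠ l • rv F₀ P w := by
      by_contra hcon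
      push Not at hcon
      apply hg
      apply Cfsg.Agent.H930.mem_subfieldSubgroup_of_lines
      · rw [Fintype.card_sum, Fintype.card_fin]
        omega
      · exact hcon
    have hirr : ∀ (a : F), ∀ w ∈ V₀, g • rv F₀ P u ≠ a • w := by
      rintro a _ ⟨w, rfl⟩
      exact hu a w
    have hTu : ∀ c ∈ F₀, TT ζ (g • rv F₀ P u) c ∈ M := by
      intro c hc
      rw [← conj_TT]
      exact M.mul_mem (M.mul_mem hgM (hM _ (TT_mem_of_rat hrat ⟨u, rfl⟩ hc))) (M.inv_mem hgM)
    have hgoal : Goal ζ F₀ V₀ M := by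
      by_cases h2 : (2 : F) = 0
      · have h5 := hm2 h2
        exact even_step h2 hrat (by omega) hM hTu hirr
      · exact odd_step h2 hrat (by omega) hM hTu hirr
    exact eq_top_of_full (full_of_goal hrat (by omega) hr hcard hM hgoal)

end Cfsg.Agent.H875.SpGen
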