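import Cfsg.Agent.H875.SpMcL

/-!
Rational structures on the symplectic space: an `F₀`-form `V₀` of the space on which `ζ f` takes
values in the subfield `F₀`.
-/

set_option autoImplicit false
open Cfsg
open scoped Matrix
open Cfsg.Agent.ClassicalGeometry.SympBasic Cfsg.Agent.ClassicalGeometry.SympSiegel

namespace Cfsg.Agent.H875

variable {F : Type*} [Field F] {m : ℕ}

local notation "V" => (Fin m ⊕ Fin m → F)
local notation "G" => Matrix.symplecticGroup (Fin m) F
local notation "f" => sympForm m F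

/-! ### Scaled transvections and Siegel elements -/

/-- The transvection `v ↦ v + c ζ f(v,x) x`. -/
def TT (ζ : F) (x : Fin m ⊕ Fin m → F) (c : F) : Matrix.symplecticGroup (Fin m) F :=
  transv x (ζ * c)

/-- The Siegel element `v ↦ v + ζ f(y,v) x + ζ f(x,v) (y + c x)`. -/
noncomputable def SS (ζ : F) (x y : Fin m ⊕ Fin m → F) (c : F) :
    Matrix.symplecticGroup (Fin m) F :=
  siegel x (ζ • y) (ζ * c)

variable {ζ : F}

theorem TT_smul (x v : V) (c : F) : TT ζ x c • v = v + (c * (ζ * f v x)) • x := by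
  rw [TT, transv_smul]
  module

theorem SS_smul {x y : V} (h : f x y = 0) (c : F) (v : V) :
    SS ζ x y c • v = v + (ζ * f y v) • x + (ζ * f x v) • (y + c • x) := by
  have h' : f x (ζ • y) = 0 := by rw [sympForm_smul_right, h, mul_zero]
  rw [SS, siegel_smul h', sympForm_smul_left]
  module

theorem TT_mul (x : V) (c d : F) : TT ζ x c * TT ζ x d = TT ζ x (c + d) := by
  rw [TT, TT, TT, transv_mul, mul_add]

theorem TT_zero (x : V) : TT ζ x 0 = 1 := by
  rw [TT, mul_zero, transv_zero]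

theorem TT_inv (x : V) (c : F) : (TT ζ x c)⁻¹ = TT ζ x (-c) := by
  rw [TT, TT, transv_inv, mul_neg]

theorem TT_smul_vec (x : V) (a c : F) : TT ζ (a • x) c = TT ζ x (a ^ 2 * c) := by
  rw [TT, TT, transv_smul_vec]
  congr 1
  ring

theorem conj_TT (g : G) (x : V) (c : F) : g * TT ζ x c * g⁻¹ = TT ζ (g • x) c :=
  conj_transv g x _

theorem SS_mul {u x y : V} (h : f u x = 0) (h' : f u y = 0) (c d : F) :
    SS ζ u x c * SS ζ u y d = SS ζ u (x + y) (c + d + ζ * f x y) := by
  have h1 : f u (ζ • x) = 0 := by rw [sympForm_smul_right, h, mul_zero]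
  have h2 : f u (ζ • y) = 0 := by rw [sympForm_smul_right, h', mul_zero]
  rw [SS, SS, SS, siegel_mul h1 h2, smul_add, sympForm_smul_left, sympForm_smul_right]
  congr 1
  ring

theorem SS_inv {u x : V} (h : f u x = 0) (c : F) : (SS ζ u x c)⁻¹ = SS ζ u (-x) (-c) := by
  have h1 : f u (ζ • x) = 0 := by rw [sympForm_smul_right, h, mul_zero]
  rw [SS, SS, siegel_inv h1, smul_neg, mul_neg]

theorem conj_SS (g : G) {u x : V} (h : f u x = 0) (c : F) :
    g * SS ζ u x c * g⁻¹ = SS ζ (g • u) (g • x) c := by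
  have h1 : f u (ζ • x) = 0 := by rw [sympForm_smul_right, h, mul_zero]
  rw [SS, SS, conj_siegel g h1, smul_smul']

theorem SS_zero (u : V) (c : F) : SS ζ u 0 c = TT ζ u (-c) := by
  rw [SS, smul_zero, siegel_zero_eq_transv, TT, mul_neg]

theorem SS_comm {u x : V} (h : f u x = 0) (c : F) : SS ζ u (c • x) 0 = SS ζ x (c • u) 0 := by
  have h1 : f u (c • x) = 0 := by rw [sympForm_smul_right, h, mul_zero]
  have h2 : f x (c • u) = 0 := by rw [sympForm_smul_right, form_eq_zero_comm.1 h, mul_zero]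
  apply ext_smul
  intro v
  rw [SS_smul h1, SS_smul h2, sympForm_smul_left, sympForm_smul_left]
  module

theorem smul_vec_SS {u x : V} (h : f u x = 0) (a c : F) :
    SS ζ (a • u) x c = SS ζ u (a • x) (a ^ 2 * c) := by
  have h1 : f (a • u) x = 0 := by rw [sympForm_smul_left, h, mul_zero]
  have h2 : f u (a • x) = 0 := by rw [sympForm_smul_right, h, mul_zero]
  apply ext_smul
  intro v
  rw [SS_smul h1, SS_smul h2, sympForm_smul_left, sympForm_smul_left]
  module

/-! ### The rational structure -/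

/-- `V₀` is an `F₀`-form of the space on which `ζ f` is `F₀`-valued. -/
structure RatStr (F₀ : Subfield F) (ζ : F) (V₀ : Submodule F₀ (Fin m ⊕ Fin m → F)) : Prop where
  ne : ζ ≠ 0
  val : ∀ u ∈ V₀, ∀ v ∈ V₀, ζ * sympForm m F u v ∈ F₀
  nd : ∀ v : Fin m ⊕ Fin m → F, (∀ u ∈ V₀, sympForm m F v u = 0) → v = 0

variable {F₀ : Subfield F} {V₀ : Submodule F₀ (Fin m ⊕ Fin m → F)}

theorem sub_smul_def (c : F₀) (v : V) : c • v = (c : F) • v := rfl

/-- The `F₀`-valued form. -/
def RatStr.form (h : RatStr F₀ ζ V₀) : LinearMap.BilinForm F₀ V₀ :=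
  LinearMap.mk₂ F₀ (fun u v => ⟨ζ * f (u : V) (v : V), h.val u u.2 v v.2⟩)
    (fun u u' v => Subtype.ext (by
      change ζ * f ((u : V) + (u' : V)) (v : V) = ζ * f (u : V) (v : V) + ζ * f (u' : V) (v : V)
      rw [sympForm_add_left]; ring))
    (fun c u v => Subtype.ext (by
      change ζ * f ((c : F) • (u : V)) (v : V) = (c : F) * (ζ * f (u : V) (v : V))
      rw [sympForm_smul_left]; ring))
    (fun u v v' => Subtype.ext (by
      change ζ * f (u : V) ((v : V) + (v' : V)) = ζ * f (u : V) (v : V) + ζ * f (u : V) (v' : V)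
      rw [sympForm_add_right]; ring))
    (fun c u v => Subtype.ext (by
      change ζ * f (u : V) ((c : F) • (v : V)) = (c : F) * (ζ * f (u : V) (v : V))
      rw [sympForm_smul_right]; ring))

theorem RatStr.form_apply (h : RatStr F₀ ζ V₀) (u v : V₀) :
    ((h.form u v : F₀) : F) = ζ * f (u : V) (v : V) := rfl

theorem RatStr.form_eq_zero (h : RatStr F₀ ζ V₀) {u v : V₀} :
    h.form u v = 0 ↔ f (u : V) (v : V) = 0 := by
  rw [← Subtype.coe_inj, h.form_apply]
  change ζ * f (u : V) (v : V) = 0 ↔ _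
  rw [mul_eq_zero, or_iff_right h.ne]

theorem RatStr.isRefl (h : RatStr F₀ ζ V₀) : h.form.IsRefl := by
  intro u v huv
  rw [h.form_eq_zero] at huv ⊢
  exact form_eq_zero_comm.1 huv

theorem RatStr.nondegenerate (h : RatStr F₀ ζ V₀) : h.form.Nondegenerate := by
  constructor
  · intro u hu
    apply Subtype.ext
    apply h.nd
    intro v hv
    have := hu ⟨v, hv⟩
    rwa [h.form_eq_zero] at this
  · intro u hu
    apply Subtype.ext
    apply h.nd
    intro v hv
    have := hu ⟨v, hv⟩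
    rw [h.form_eq_zero] at this
    exact form_eq_zero_comm.1 this

variable [Finite F]

/-- A vector all of whose pairings with `V₀` are `F₀`-multiples of `a` is a multiple of a rational
vector. -/
theorem RatStr.rep (h : RatStr F₀ ζ V₀) {u : V} {a : F} (ha : a ≠ 0)
    (hu : ∀ x ∈ V₀, ζ * f u x / a ∈ F₀) : ∃ w ∈ V₀, u = a • w := by
  let φ : Module.Dual F₀ V₀ :=
    { toFun := fun x => ⟨ζ * f u (x : V) / a, hu x x.2⟩
      map_add' := fun x y => Subtype.ext (by
        change ζ * f u ((x : V) + (y : V)) / a = ζ * f u (x : V) / a + ζ * f u (y : V) / a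
        rw [sympForm_add_right]; ring)
      map_smul' := fun c x => Subtype.ext (by
        change ζ * f u ((c : F) • (x : V)) / a = (c : F) * (ζ * f u (x : V) / a)
        rw [sympForm_smul_right]; ring) }
  let w := (h.form.toDual h.nondegenerate).symm φ
  have hw : ∀ x : V₀, h.form w x = φ x := fun x =>
    LinearMap.BilinForm.apply_toDual_symm_apply φ x
  refine ⟨w, w.2, ?_⟩
  have key : u - a • (w : V) = 0 := by
    apply h.nd
    intro x hx
    have h1 := congrArg (Subtype.val) (hw ⟨x, hx⟩)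
    rw [h.form_apply] at h1
    change ζ * f (w : V) x = ζ * f u x / a at h1
    rw [sympForm_sub_left, sympForm_smul_left]
    have h2 : ζ * (f u x - a * f (w : V) x) = 0 := by
      have : a * (ζ * f (w : V) x) = ζ * f u x := by
        rw [h1]
        field_simp
      linear_combination -this
    exact (mul_eq_zero.1 h2).resolve_left h.ne
  exact sub_eq_zero.1 key

/-- If `u` is no multiple of a rational vector then two of its pairings are independent. -/
theorem RatStr.exists_indep (h : RatStr F₀ ζ V₀) {u : V}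
    (hu : ∀ (a : F), ∀ w ∈ V₀, u ≠ a • w) :
    ∃ x ∈ V₀, ∃ y ∈ V₀, (ζ * f u y) / (ζ * f u x) ∉ F₀ := by
  by_contra hcon
  push Not at hcon
  have hu0 : u ≠ 0 := by
    rintro rfl
    exact hu 0 0 V₀.zero_mem (by simp)
  obtain ⟨x, hx, hux⟩ : ∃ x ∈ V₀, f u x ≠ 0 := by
    by_contra hc
    push Not at hc
    exact hu0 (h.nd u hc)
  obtain ⟨w, hw, huw⟩ := h.rep (mul_ne_zero h.ne hux) (fun y hy => hcon x hx y hy)
  exact hu _ w hw huw

/-- Dual vectors over `F₀`. -/
theorem RatStr.exists_dual (h : RatStr F₀ ζ V₀) {S : Submodule F₀ V₀} {z : V₀} (hz : z ∉ S) :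
    ∃ p : V₀, (∀ s ∈ S, f (s : V) (p : V) = 0) ∧ ζ * f (z : V) (p : V) = 1 := by
  obtain ⟨φ, hφz, hφS⟩ := Submodule.exists_le_ker_of_notMem hz
  let w := (h.form.toDual h.nondegenerate).symm φ
  have hw : ∀ x : V₀, h.form w x = φ x := fun x =>
    LinearMap.BilinForm.apply_toDual_symm_apply φ x
  refine ⟨-(φ z)⁻¹ • w, fun s hs => ?_, ?_⟩
  · have h1 : h.form w s = 0 := by rw [hw]; exact hφS hs
    have h2 : f (s : V) (w : V) = 0 := by
      rw [h.form_eq_zero] at h1
      exact form_eq_zero_comm.1 h1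
    change f (s : V) (((-(φ z)⁻¹ : F₀) : F) • (w : V)) = 0
    rw [sympForm_smul_right, h2, mul_zero]
  · have h1 := congrArg (Subtype.val) (hw z)
    rw [h.form_apply] at h1
    have h3 : ((φ z : F₀) : F) ≠ 0 := by
      intro h0
      exact hφz (Subtype.ext h0)
    change ζ * f (z : V) (((-(φ z)⁻¹ : F₀) : F) • (w : V)) = 1
    rw [sympForm_smul_right, sympForm_swap]
    push_cast
    have h4 : ζ * (-((φ z : F₀) : F)⁻¹ * -f (w : V) (z : V)) =
        ((φ z : F₀) : F)⁻¹ * (ζ * f (w : V) (z : V)) := by ring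
    rw [h4, h1, inv_mul_cancel₀ h3]

/-- Vectors orthogonal to a small subspace and outside it. -/
theorem RatStr.exists_orth (h : RatStr F₀ ζ V₀) {S : Submodule F₀ V₀}
    (hS : 2 * Module.finrank F₀ S < Module.finrank F₀ V₀) :
    ∃ q : V₀, q ∉ S ∧ ∀ s ∈ S, f (s : V) (q : V) = 0 := by
  by_contra hcon
  push Not at hcon
  have hle : h.form.orthogonal S ≤ S := by
    intro q hq
    by_contra hqS
    obtain ⟨s, hs, hsq⟩ := hcon q hqS
    apply hsq
    rw [← h.form_eq_zero]
    exact hq s hs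
  have h1 := Submodule.finrank_mono hle
  rw [LinearMap.BilinForm.finrank_orthogonal h.nondegenerate S] at h1
  omega

theorem finrank_span_le {K W : Type*} [Field K] [AddCommGroup W] [Module K W] (s : Finset W) :
    Module.finrank K (Submodule.span K (s : Set W)) ≤ s.card :=
  finrank_span_finset_le_card s

omit [Finite F] in
theorem TT_mem_of_rat (h : RatStr F₀ ζ V₀) {x : V} (hx : x ∈ V₀) {c : F} (hc : c ∈ F₀) :
    ∀ v ∈ V₀, TT ζ x c • v ∈ V₀ := by
  intro v hv
  rw [TT_smul]
  apply V₀.add_mem hv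
  have : c * (ζ * f v x) ∈ F₀ := F₀.mul_mem hc (h.val v hv x hx)
  exact V₀.smul_mem (⟨_, this⟩ : F₀) hx

omit [Finite F] in
theorem SS_mem_of_rat (h : RatStr F₀ ζ V₀) {x y : V} (hx : x ∈ V₀) (hy : y ∈ V₀)
    (hxy : f x y = 0) {c : F} (hc : c ∈ F₀) : ∀ v ∈ V₀, SS ζ x y c • v ∈ V₀ := by
  intro v hv
  rw [SS_smul hxy]
  apply V₀.add_mem
  · apply V₀.add_mem hv
    exact V₀.smul_mem (⟨_, h.val y hy v hv⟩ : F₀) hx
  · apply V₀.smul_mem (⟨_, h.val x hx v hv⟩ : F₀)
    exact V₀.add_mem hy (V₀.smul_mem (⟨c, hc⟩ : F₀) hx)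

end Cfsg.Agent.H875
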