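import Cfsg.Agent.H875.SpRatStep

/-!
Subgroups of the symplectic group containing the isometries of a rational structure and an
irrational transvection with rational centre are the whole group (prime degree).
-/

set_option autoImplicit false
open Cfsg
open scoped Matrix
open Cfsg.Agent.ClassicalGeometry.SympBasic Cfsg.Agent.ClassicalGeometry.SympSiegel

namespace Cfsg.Agent.H875

variable {F : Type*} [Field F] {m : ℕ}

local notation "V" => (Fin m ⊕ Fin m → F)
local notation "G" => Matrix.symplecticGroup (Fin m) F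
local notation "f" => sympForm m F

variable {ζ : F} {F₀ : Subfield F} {V₀ : Submodule F₀ (Fin m ⊕ Fin m → F)}

theorem set_rot3 {α : Type*} (a b c : α) : ({a, b, c} : Set α) = {c, a, b} := by
  ext t; simp only [Set.mem_insert_iff, Set.mem_singleton_iff]; tauto

theorem set_rot4 {α : Type*} (a b c d : α) : ({a, b, c, d} : Set α) = {d, a, b, c} := by
  ext t; simp only [Set.mem_insert_iff, Set.mem_singleton_iff]; tauto

/-- In a finite field of characteristic two a square in a subfield has its root there. -/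
theorem mem_of_sq_mem [Finite F] (h2 : (2 : F) = 0) {b : F} (hb : b ^ 2 ∈ F₀) : b ∈ F₀ := by
  have h2' : (2 : F₀) = 0 := Subtype.ext h2
  have hchar : CharP F₀ 2 := by
    apply CharTwo.of_one_ne_zero_of_two_eq_zero one_ne_zero h2'
  obtain ⟨c, hc⟩ := FiniteField.isSquare_of_char_two (ringChar.eq F₀ 2) (⟨b ^ 2, hb⟩ : F₀)
  have hc' : b ^ 2 = (c : F) * (c : F) := congrArg Subtype.val hc
  have h3 : (b - c) ^ 2 = 0 := by
    linear_combination hc' + (c * c - b * c) * h2
  have h4 : b - c = 0 := by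
    exact pow_eq_zero_iff (two_ne_zero) |>.1 h3
  rw [sub_eq_zero.1 h4]
  exact c.2

/-- Even characteristic. -/
theorem even_step [Finite F] (h2 : (2 : F) = 0) (h : RatStr F₀ ζ V₀)
    (hdim : 8 < Module.finrank F₀ V₀)
    {M : Subgroup G} (hM : ∀ g : G, (∀ v ∈ V₀, g • v ∈ V₀) → g ∈ M) {u : V}
    (hu : ∀ c ∈ F₀, TT ζ u c ∈ M) (hirr : ∀ (a : F), ∀ w ∈ V₀, u ≠ a • w) :
    Goal ζ F₀ V₀ M := by
  classical
  -- a rational vector with irrational pairing
  obtain ⟨y, hyβ⟩ : ∃ y : V₀, ζ * f u (y : V) ∉ F₀ := by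
    obtain ⟨x₀, hx₀, y₀, hy₀, hind⟩ := h.exists_indep hirr
    by_contra hcon
    push Not at hcon
    exact hind (F₀.div_mem (hcon ⟨y₀, hy₀⟩) (hcon ⟨x₀, hx₀⟩))
  set β : F := ζ * f u (y : V) with hβ
  have hβ2 : β ^ 2 ∉ F₀ := fun hc => hyβ (mem_of_sq_mem h2 hc)
  have card_bound : ∀ s : Finset V₀, Module.finrank F₀ (Submodule.span F₀ (s : Set V₀)) ≤ s.card :=
    fun s => finrank_span_le s
  -- `z`
  obtain ⟨z, hzS, hyz, hze⟩ : ∃ z : V₀, z ∉ Submodule.span F₀ ({y} : Set V₀) ∧
      f (y : V) (z : V) = 0 ∧ (ζ * f u (z : V)) * β ∉ F₀ := by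
    have h1 := card_bound {y}
    rw [Finset.card_singleton, Finset.coe_singleton] at h1
    obtain ⟨z₁, hz₁S, hz₁⟩ := h.exists_orth (S := Submodule.span F₀ ({y} : Set V₀)) (by omega)
    have hyS : y ∈ Submodule.span F₀ ({y} : Set V₀) := Submodule.mem_span_singleton_self y
    have hyz₁ := hz₁ y hyS
    by_cases h3 : (ζ * f u (z₁ : V)) * β ∈ F₀
    · refine ⟨z₁ + y, ?_, ?_, ?_⟩
      · intro h4
        apply hz₁S
        have := Submodule.sub_mem _ h4 hyS
        rwa [add_sub_cancel_right] at this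
      · change f (y : V) ((z₁ : V) + (y : V)) = 0
        rw [sympForm_add_right, hyz₁, sympForm_self, add_zero]
      · intro h4
        apply hβ2
        have h5 := F₀.sub_mem h4 h3
        convert h5 using 1
        change β ^ 2 = ζ * f u ((z₁ : V) + (y : V)) * β - ζ * f u (z₁ : V) * β
        rw [sympForm_add_right, hβ]
        ring
    · exact ⟨z₁, hz₁S, hyz₁, h3⟩
  -- `x`
  obtain ⟨x, hxS, hxo⟩ := h.exists_orth (S := Submodule.span F₀ ((({y, z} : Finset V₀)) : Set V₀))
    (by have := (card_bound {y, z}).trans Finset.card_le_two; omega)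
  -- `x'`
  obtain ⟨x', hx'S, hx'o⟩ := h.exists_orth
    (S := Submodule.span F₀ ((({x, y, z} : Finset V₀)) : Set V₀))
    (by have := (card_bound {x, y, z}).trans Finset.card_le_three; omega)
  -- `z'`
  obtain ⟨z', hz'S, hz'o⟩ := h.exists_orth
    (S := Submodule.span F₀ ((({x', x, y, z} : Finset V₀)) : Set V₀))
    (by have := (card_bound {x', x, y, z}).trans Finset.card_le_four; omega)
  simp only [Finset.coe_insert, Finset.coe_singleton] at hxS hxo hx'S hx'o hz'S hz'o
  have hmem : ∀ {S : Set V₀} {a : V₀}, a ∈ S → a ∈ Submodule.span F₀ S := fun ha =>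
    Submodule.subset_span ha
  have hyx : f (y : V) (x : V) = 0 := hxo y (hmem (by simp))
  have hzx : f (z : V) (x : V) = 0 := hxo z (hmem (by simp))
  have hxx' : f (x : V) (x' : V) = 0 := hx'o x (hmem (by simp))
  have hyx' : f (y : V) (x' : V) = 0 := hx'o y (hmem (by simp))
  have hzx' : f (z : V) (x' : V) = 0 := hx'o z (hmem (by simp))
  have hx'z' : f (x' : V) (z' : V) = 0 := hz'o x' (hmem (by simp))
  have hxz' : f (x : V) (z' : V) = 0 := hz'o x (hmem (by simp))
  have hyz' : f (y : V) (z' : V) = 0 := hz'o y (hmem (by simp))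
  have hzz' : f (z : V) (z' : V) = 0 := hz'o z (hmem (by simp))
  -- independence
  have hind1 : x ∉ Submodule.span F₀ ({x', y, z} : Set V₀) := by
    intro h3
    exact hx'S (mem_span_insert_exchange h3 hxS)
  have hind2 : z ∉ Submodule.span F₀ ({z', x', x, y} : Set V₀) := by
    intro h3
    by_cases h4 : z ∈ Submodule.span F₀ ({x', x, y} : Set V₀)
    · by_cases h5 : z ∈ Submodule.span F₀ ({x, y} : Set V₀)
      · have h6 := mem_span_insert_exchange h5 hzS
        apply hxS
        rw [Set.pair_comm]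
        exact h6
      · have h6 := mem_span_insert_exchange h4 h5
        apply hx'S
        rw [set_rot3]
        exact h6
    · have h6 := mem_span_insert_exchange h3 h4
      apply hz'S
      rw [set_rot4]
      exact h6
  obtain ⟨p, hpo, hxp⟩ := h.exists_dual hind1
  obtain ⟨p', hp'o, hzp'⟩ := h.exists_dual hind2
  obtain ⟨p'', hp''o, hz'p''⟩ := h.exists_dual hz'S
  have hSS := SS_of_comm h hM (hu 1 F₀.one_mem) (hu (-1) (F₀.neg_mem F₀.one_mem)) x.2 y.2 z.2
    x'.2 z'.2 p.2 p'.2 (form_eq_zero_comm.1 hyx) (form_eq_zero_comm.1 hzx) hyz hxx' hyx' hzx'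
    hxz' hyz' hzz' hx'z' hxp (hpo y (hmem (by simp))) (hpo z (hmem (by simp)))
    (hpo x' (hmem (by simp))) hzp' (hp'o x (hmem (by simp))) (hp'o y (hmem (by simp)))
    (hp'o x' (hmem (by simp))) (hp'o z' (hmem (by simp))) (by
      rw [sympForm_swap (y : V) u, sympForm_swap (x : V) u]
      linear_combination (-(ζ * f u (y : V) * f u (x : V))) * h2)
  have hTT := TT_of_SS h hM z'.2 p''.2 hx'z' (hp''o x' (hmem (by simp))) hz'p'' hSS
  refine ⟨x', x'.2, ?_, _, ?_, hTT⟩
  · intro h0
    apply hx'S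
    have : x' = 0 := Subtype.ext h0
    rw [this]
    exact Submodule.zero_mem _
  · intro h3
    apply hze
    apply mem_of_sq_mem h2
    have h4 := F₀.neg_mem h3
    rwa [neg_neg] at h4

/-- Rational transvections are transitive on non-zero rational vectors. -/
theorem rat_transitive (h : RatStr F₀ ζ V₀) {M : Subgroup G}
    (hM : ∀ g : G, (∀ v ∈ V₀, g • v ∈ V₀) → g ∈ M) {x y : V} (hx : x ∈ V₀) (hy : y ∈ V₀)
    (hx0 : x ≠ 0) (hy0 : y ≠ 0) : ∃ g ∈ M, g • x = y := by
  have step : ∀ x ∈ V₀, ∀ y ∈ V₀, f x y ≠ 0 → ∃ g ∈ M, g • x = y := by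
    intro x hx y hy hxy
    have hg : ζ * f x y ≠ 0 := mul_ne_zero h.ne hxy
    refine ⟨TT ζ (y - x) (ζ * f x y)⁻¹,
      hM _ (TT_mem_of_rat h (V₀.sub_mem hy hx) (F₀.inv_mem (h.val x hx y hy))), ?_⟩
    rw [TT_smul, sympForm_sub_right, sympForm_self, sub_zero, inv_mul_cancel₀ hg, one_smul]
    abel
  obtain ⟨a, ha, hxa⟩ : ∃ a ∈ V₀, f x a ≠ 0 := by
    by_contra hc
    push Not at hc
    exact hx0 (h.nd x hc)
  obtain ⟨b, hb, hyb⟩ : ∃ b ∈ V₀, f y b ≠ 0 := by
    by_contra hc
    push Not at hc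
    exact hy0 (h.nd y hc)
  obtain ⟨z, hz, hxz, hyz⟩ : ∃ z ∈ V₀, f x z ≠ 0 ∧ f y z ≠ 0 := by
    by_cases h1 : f y a = 0
    · by_cases h3 : f x b = 0
      · refine ⟨a + b, V₀.add_mem ha hb, ?_, ?_⟩
        · rwa [sympForm_add_right, h3, add_zero]
        · rwa [sympForm_add_right, h1, zero_add]
      · exact ⟨b, hb, h3, hyb⟩
    · exact ⟨a, ha, hxa, h1⟩
  obtain ⟨g, hg, hgx⟩ := step x hx z hz hxz
  obtain ⟨g', hg', hgz⟩ := step z hz y hy (by rw [sympForm_swap]; exact neg_ne_zero.2 hyz)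
  exact ⟨g' * g, M.mul_mem hg' hg, by rw [mul_smul, hgx, hgz]⟩

/-- The ring of scalars of the short Siegel elements. -/
def BRing [Finite F] (h : RatStr F₀ ζ V₀) (hdim : 4 < Module.finrank F₀ V₀)
    (M : Subgroup (Matrix.symplecticGroup (Fin m) F))
    (hM : ∀ g : Matrix.symplecticGroup (Fin m) F, (∀ v ∈ V₀, g • v ∈ V₀) → g ∈ M) :
    Subalgebra F₀ F where
  carrier := {b | ∀ x ∈ V₀, ∀ y ∈ V₀, f x y = 0 → SS ζ x (b • y) 0 ∈ M}
  mul_mem' {b b'} hb hb' := by
    classical
    intro x hx y hy hxy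
    have h1 : Module.finrank F₀ (Submodule.span F₀
        ((({⟨x, hx⟩, ⟨y, hy⟩} : Finset V₀)) : Set V₀)) ≤ 2 :=
      (finrank_span_le _).trans Finset.card_le_two
    obtain ⟨z, hzS, hzo⟩ := h.exists_orth (S := Submodule.span F₀
        ((({⟨x, hx⟩, ⟨y, hy⟩} : Finset V₀)) : Set V₀)) (by omega)
    obtain ⟨z', hz'o, hzz'⟩ := h.exists_dual hzS
    have hxS : (⟨x, hx⟩ : V₀) ∈ Submodule.span F₀
        ((({⟨x, hx⟩, ⟨y, hy⟩} : Finset V₀)) : Set V₀) := Submodule.subset_span (by simp)
    have hyS : (⟨y, hy⟩ : V₀) ∈ Submodule.span F₀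
        ((({⟨x, hx⟩, ⟨y, hy⟩} : Finset V₀)) : Set V₀) := Submodule.subset_span (by simp)
    have hxz : f x (z : V) = 0 := hzo _ hxS
    have hyz : f y (z : V) = 0 := hzo _ hyS
    have hxz' : f x (z' : V) = 0 := hz'o _ hxS
    have hyz' : f y (z' : V) = 0 := hz'o _ hyS
    have hz'z : ζ * f (z' : V) (z : V) = -1 := by rw [sympForm_swap, mul_neg, hzz']
    have h3 := hb x hx z z.2 hxz
    have h4 := hb' y hy z' z'.2 hyz'
    have hybz' : f y (b' • (z' : V)) = 0 := by rw [sympForm_smul_right, hyz', mul_zero]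
    have hxbz : f x (b • (z : V)) = 0 := by rw [sympForm_smul_right, hxz, mul_zero]
    have h5 := M.mul_mem (M.mul_mem h4 h3) (M.inv_mem h4)
    have e1 : SS ζ y (b' • (z' : V)) 0 • x = x := by
      rw [SS_smul hybz', sympForm_smul_left, form_eq_zero_comm.1 hxz', form_eq_zero_comm.1 hxy]
      module
    have e2 : SS ζ y (b' • (z' : V)) 0 • (b • (z : V)) = b • (z : V) + (-(b * b')) • y := by
      rw [smul_smul', SS_smul hybz', sympForm_smul_left, hyz]
      have : ζ * (b' * f (z' : V) (z : V)) = -b' := by linear_combination b' * hz'z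
      rw [this]
      module
    rw [conj_SS _ hxbz, e1, e2] at h5
    have h6 : f x (b • (z : V) + (-(b * b')) • y) = 0 := by
      rw [sympForm_add_right, hxbz, sympForm_smul_right, hxy, mul_zero, add_zero]
    have h7 := M.mul_mem h3 (M.inv_mem h5)
    rw [SS_inv h6, SS_mul hxbz (by rw [sympForm_neg_right, h6, neg_zero])] at h7
    have e3 : b • (z : V) + -(b • (z : V) + (-(b * b')) • y) = (b * b') • y := by module
    have e4 : (0 : F) + -0 + ζ * f (b • (z : V)) (-(b • (z : V) + (-(b * b')) • y)) = 0 := by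
      rw [sympForm_neg_right, sympForm_add_right, sympForm_self, sympForm_smul_left,
        sympForm_smul_right, form_eq_zero_comm.1 hyz]
      ring
    rw [e3, e4] at h7
    exact h7
  add_mem' {b b'} hb hb' := by
    intro x hx y hy hxy
    have h1 := M.mul_mem (hb x hx y hy hxy) (hb' x hx y hy hxy)
    rw [SS_mul (by rw [sympForm_smul_right, hxy, mul_zero])
      (by rw [sympForm_smul_right, hxy, mul_zero]), ← add_smul] at h1
    convert h1 using 2
    rw [sympForm_smul_left, sympForm_smul_right, sympForm_self]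
    ring
  algebraMap_mem' c := by
    intro x hx y hy hxy
    apply hM
    have h1 : (algebraMap F₀ F c) • y ∈ V₀ := V₀.smul_mem c hy
    exact SS_mem_of_rat h hx h1 (by rw [sympForm_smul_right, hxy, mul_zero]) F₀.zero_mem

/-- **An irrational transvection with rational centre generates everything with the rational
isometries.** -/
theorem full_of_goal [Fintype F] (h : RatStr F₀ ζ V₀) (hdim : 4 < Module.finrank F₀ V₀)
    {r : ℕ} (hr : r.Prime) (hcard : Fintype.card F = Nat.card F₀ ^ r) {M : Subgroup G}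
    (hM : ∀ g : G, (∀ v ∈ V₀, g • v ∈ V₀) → g ∈ M) (hg : Goal ζ F₀ V₀ M) :
    ∀ v : V, Full M v := by
  classical
  obtain ⟨s, hs, hs0, c₁, hc₁, hsc⟩ := hg
  -- the transvections with parameter `c₁` at all rational vectors
  have hall : ∀ x ∈ V₀, TT ζ x c₁ ∈ M := by
    intro x hx
    by_cases hx0 : x = 0
    · subst hx0
      have : TT ζ (0 : V) c₁ = 1 := by
        apply ext_smul
        intro v
        rw [TT_smul, smul_zero, add_zero, one_smul]
      rw [this]
      exact M.one_mem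
    · obtain ⟨g, hg, hgs⟩ := rat_transitive h hM hs hx hs0 hx0
      rw [← hgs, ← conj_TT]
      exact M.mul_mem (M.mul_mem hg hsc) (M.inv_mem hg)
  -- the ring is everything
  have hc₁B : c₁ ∈ BRing h hdim M hM := by
    intro x hx y hy hxy
    have h1 := M.mul_mem (M.mul_mem (hall x hx) (hall y hy))
      (M.inv_mem (hall _ (V₀.add_mem hx hy)))
    have e : TT ζ x c₁ * TT ζ y c₁ * (TT ζ (x + y) c₁)⁻¹ = SS ζ x (c₁ • y) 0 := by
      rw [TT_inv]
      apply ext_smul
      intro v
      rw [mul_smul, mul_smul, TT_smul, TT_smul, TT_smul,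
        SS_smul (by rw [sympForm_smul_right, hxy, mul_zero])]
      simp only [sympForm_add_left, sympForm_add_right, sympForm_smul_left, sympForm_self, hxy,
        form_eq_zero_comm.1 hxy, sympForm_swap x v, sympForm_swap y v]
      module
    rwa [e] at h1
  have hprime : (Module.finrank F₀ F).Prime := by
    have h1 : Fintype.card F = Fintype.card F₀ ^ Module.finrank F₀ F :=
      Module.card_eq_pow_finrank
    rw [hcard, Nat.card_eq_fintype_card] at h1
    have h3 : 1 < Fintype.card F₀ := Fintype.one_lt_card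
    have h4 := Nat.pow_right_injective h3 h1
    rw [← h4]
    exact hr
  have htop : BRing h hdim M hM = ⊤ := by
    have hso := Subalgebra.isSimpleOrder_of_finrank_prime F₀ F hprime
    rcases hso.eq_bot_or_eq_top (BRing h hdim M hM) with h1 | h1
    · exfalso
      rw [h1, Algebra.mem_bot] at hc₁B
      obtain ⟨c, hc⟩ := hc₁B
      apply hc₁
      rw [← hc]
      exact c.2
    · exact h1
  have hB : ∀ b : F, ∀ x ∈ V₀, ∀ y ∈ V₀, f x y = 0 → SS ζ x (b • y) 0 ∈ M := by
    intro b
    have : b ∈ BRing h hdim M hM := by rw [htop]; trivial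
    exact this
  -- squares
  have hsq : ∀ x ∈ V₀, ∀ b : F, TT ζ x (-b ^ 2) ∈ M := by
    intro x hx b
    have h1 := finrank_span_le (K := F₀) ({⟨x, hx⟩} : Finset V₀)
    rw [Finset.card_singleton] at h1
    obtain ⟨z, hzS, hzo⟩ := h.exists_orth (S := Submodule.span F₀
        ((({⟨x, hx⟩} : Finset V₀)) : Set V₀)) (by omega)
    obtain ⟨p, hpo, hzp⟩ := h.exists_dual hzS
    have hxS : (⟨x, hx⟩ : V₀) ∈ Submodule.span F₀
        ((({⟨x, hx⟩} : Finset V₀)) : Set V₀) := Submodule.subset_span (by simp)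
    exact TT_of_SS h hM z.2 p.2 (hzo _ hxS) (hpo _ hxS) hzp (hB b x hx z z.2 (hzo _ hxS))
  have hTT : ∀ x ∈ V₀, ∀ c : F, TT ζ x c ∈ M := by
    intro x hx c
    by_cases h2 : (2 : F) = 0
    · have hchar : CharP F 2 := CharTwo.of_one_ne_zero_of_two_eq_zero one_ne_zero h2
      obtain ⟨b, hb⟩ := FiniteField.isSquare_of_char_two (ringChar.eq F 2) (-c)
      have h3 := hsq x hx b
      have e : -b ^ 2 = c := by rw [pow_two, ← hb, neg_neg]
      rwa [e] at h3
    · have h3 := M.mul_mem (hsq x hx ((c - 1) / 2)) (M.inv_mem (hsq x hx ((c + 1) / 2)))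
      rw [TT_inv, TT_mul] at h3
      have e : -((c - 1) / 2) ^ 2 + - -((c + 1) / 2) ^ 2 = c := by
        field_simp
        ring
      rwa [e] at h3
  have hfull : ∀ x ∈ V₀, Full M x := by
    intro x hx c
    have h3 := hTT x hx (c / ζ)
    rw [TT, mul_div_cancel₀ _ h.ne] at h3
    exact h3
  -- the whole space
  have hs1 : ∃ s : F, s ≠ 0 ∧ s ≠ -1 := by
    refine ⟨c₁, ?_, ?_⟩
    · rintro rfl
      exact hc₁ F₀.zero_mem
    · rintro rfl
      exact hc₁ (F₀.neg_mem F₀.one_mem)
  apply full_of_connected hs1 (V₀ : Set V) hfull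
  · intro v hv
    by_contra hc
    push Not at hc
    exact hv (h.nd v hc)
  · intro W hW hW'
    -- a rational vector outside `W`
    obtain ⟨x₁, hx₁, hx₁W⟩ : ∃ x ∈ V₀, x ∉ W := by
      obtain ⟨v, hv⟩ : ∃ v, v ∉ W := by
        by_contra hc
        push Not at hc
        exact hW' (eq_top_iff.2 fun v _ => hc v)
      obtain ⟨φ, hφv, hφW⟩ := Submodule.exists_le_ker_of_notMem hv
      have hnd : LinearMap.BilinForm.Nondegenerate (sympBilin m F) :=
        sympBilin_nondegenerate
      let a := (LinearMap.BilinForm.toDual (sympBilin m F) hnd).symm φ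
      have ha : ∀ x, f a x = φ x := fun x =>
        LinearMap.BilinForm.apply_toDual_symm_apply (B := sympBilin m F) (hB := hnd) φ x
      have ha0 : a ≠ 0 := by
        intro h0
        apply hφv
        rw [← ha, h0, sympForm_zero_left]
      by_contra hc
      push Not at hc
      apply ha0
      apply h.nd
      intro x hx
      rw [ha]
      exact hφW (hc x hx)
    obtain ⟨w, hw, hw0⟩ := Submodule.exists_mem_ne_zero_of_ne_bot hW
    obtain ⟨x₂, hx₂, hwx₂⟩ : ∃ x ∈ V₀, f w x ≠ 0 := by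
      by_contra hc
      push Not at hc
      exact hw0 (h.nd w hc)
    by_cases h1 : x₂ ∈ W
    · by_cases h3 : ∃ w' ∈ W, f w' x₁ ≠ 0
      · exact ⟨x₁, hx₁, hx₁W, h3⟩
      · push Not at h3
        refine ⟨x₁ + x₂, V₀.add_mem hx₁ hx₂, ?_, w, hw, ?_⟩
        · intro h4
          apply hx₁W
          have := W.sub_mem h4 h1
          rwa [add_sub_cancel_right] at this
        · rw [sympForm_add_right, h3 w hw, zero_add]
          exact hwx₂
    · exact ⟨x₂, hx₂, h1, w, hw, hwx₂⟩

end Cfsg.Agent.H875
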