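import Cfsg.Agent.H875.SpGen

/-!
# Subfield groups of `Sp_2m(q)`, `q` even, `m ≥ 3`

Characteristic two, low dimension (after helper910's argument for `m = 2`): a subgroup containing
the isometries of a rational structure and a transvection with irrational centre contains an
irrational transvection with rational centre, as soon as the dimension is at least six.
-/

set_option autoImplicit false
open Cfsg
open scoped Matrix
open Cfsg.Agent.ClassicalGeometry.SympBasic Cfsg.Agent.ClassicalGeometry.SympSiegel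

namespace Cfsg.Agent.H875

variable {F : Type*} [Field F] {m : ℕ}

local notation "V" => (Fin m ⊕ Fin m → F)
local notation "G" => Matrix.symplecticGroup (Fin m) F
local notation "f" => sympForm m F

variable {ζ : F} {F₀ : Subfield F} {V₀ : Submodule F₀ (Fin m ⊕ Fin m → F)}

/-- The transvection `v ↦ v + ζ f(v,u) u` is in `M`. -/
def UU (ζ : F) (M : Subgroup (Matrix.symplecticGroup (Fin m) F)) (u : Fin m ⊕ Fin m → F) : Prop :=
  TT ζ u 1 ∈ M

theorem UU.map {M : Subgroup G} {u : V} (h : UU ζ M u) {g : G} (hg : g ∈ M) : UU ζ M (g • u) := by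
  rw [UU, ← conj_TT]
  exact M.mul_mem (M.mul_mem hg h) (M.inv_mem hg)

theorem neg_eq_self_of_two (h2 : (2 : F) = 0) (a : F) : -a = a := by
  linear_combination (-a) * h2

theorem add_self_of_two (h2 : (2 : F) = 0) (a : F) : a + a = 0 := by
  linear_combination a * h2

theorem TT_inj (h2 : (2 : F) = 0) (hζ : ζ ≠ 0) {u v : V} (h : TT ζ u 1 = TT ζ v 1) : u = v := by
  have key : ∀ x : V, f x u • u = f x v • v := by
    intro x
    have h1 : TT ζ u 1 • x = TT ζ v 1 • x := by rw [h]
    rw [TT_smul, TT_smul, add_right_inj, one_mul, one_mul, mul_smul, mul_smul] at h1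
    exact smul_right_injective _ hζ h1
  by_cases hu : u = 0
  · rw [hu]
    by_contra hne
    apply hne
    have hv : ∀ x : V, f v x = 0 := by
      intro x
      have h1 := key x
      rw [hu, smul_zero] at h1
      rcases smul_eq_zero.1 h1.symm with h3 | h3
      · exact form_eq_zero_comm.1 h3
      · exact absurd h3.symm hne
    exact (eq_zero_of_forall_sympForm_right hv).symm
  · obtain ⟨x, hx⟩ : ∃ x : V, f x u ≠ 0 := by
      by_contra hcon
      push Not at hcon
      exact hu (eq_zero_of_forall_sympForm_right fun x => form_eq_zero_comm.1 (hcon x))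
    set s : F := f x v / f x u with hs
    have hus : u = s • v := by
      have h1 := key x
      calc u = (f x u)⁻¹ • (f x u • u) := by rw [smul_smul, inv_mul_cancel₀ hx, one_smul]
        _ = s • v := by rw [h1, smul_smul, hs, div_eq_inv_mul]
    have h3 : s * (f x u) = f x v := by rw [hs]; field_simp
    have h4 : s * s = 1 := by
      have h5 : f x v ≠ 0 := by
        intro h0
        have h1 := key x
        rw [h0, zero_smul] at h1
        rcases smul_eq_zero.1 h1 with h6 | h6
        · exact hx h6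
        · exact hu h6
      rw [hus, sympForm_smul_right] at h3
      have h6 : (s * s - 1) * f x v = 0 := by linear_combination h3
      have h7 := (mul_eq_zero.1 h6).resolve_right h5
      exact sub_eq_zero.1 h7
    have h5 : (s - 1) ^ 2 = 0 := by linear_combination h4 + (1 - s) * h2
    have h6 : s = 1 := sub_eq_zero.1 (pow_eq_zero_iff (two_ne_zero) |>.1 h5)
    rw [hus, h6, one_smul]

/-- Two transvections with non-orthogonal centres are conjugate in the group they generate. -/
theorem exists_conj_UU [Finite F] (h2 : (2 : F) = 0) (hζ : ζ ≠ 0) {M : Subgroup G} {u v : V}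
    (hu : UU ζ M u) (hv : UU ζ M v) (huv : f u v ≠ 0) : ∃ h ∈ M, h • v = u := by
  classical
  set a := TT ζ u 1 with ha
  set b := TT ζ v 1 with hb
  have haM : a ∈ M := hu
  have hbM : b ∈ M := hv
  have h11 : (1 : F) + 1 = 0 := by rw [← h2]; norm_num
  have ha2 : a * a = 1 := by rw [ha, TT_mul, h11, TT_zero]
  have hb2 : b * b = 1 := by rw [hb, TT_mul, h11, TT_zero]
  have hai : a⁻¹ = a := inv_eq_of_mul_eq_one_left ha2
  have hbi : b⁻¹ = b := inv_eq_of_mul_eq_one_left hb2
  set X := a * b with hX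
  have hXM : X ∈ M := M.mul_mem haM hbM
  have hXi : X⁻¹ = b * a := by rw [hX, mul_inv_rev, hai, hbi]
  have haX : a * X * a⁻¹ = X⁻¹ := by rw [hXi, hX, hai, ← mul_assoc, ha2, one_mul]
  have hbX : b * X * b⁻¹ = X⁻¹ := by rw [hXi, hX, hbi, mul_assoc, mul_assoc, hb2, mul_one]
  have haXn : ∀ n : ℕ, a * X ^ n * a⁻¹ = (X ^ n)⁻¹ := by
    intro n
    rw [← inv_pow, ← haX, conj_pow]
  have hbXn : ∀ n : ℕ, b * X ^ n * b⁻¹ = (X ^ n)⁻¹ := by
    intro n
    rw [← inv_pow, ← hbX, conj_pow]
  have hodd : Odd (orderOf X) := by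
    rw [← Nat.not_even_iff_odd]
    intro hev
    obtain ⟨k, hk⟩ := hev
    have hpos : 0 < orderOf X := orderOf_pos X
    have hk0 : 0 < k := by omega
    set z := X ^ k with hz
    have hz2 : z * z = 1 := by rw [hz, ← pow_add, ← hk, pow_orderOf_eq_one]
    have hz1 : z ≠ 1 := by
      intro h
      have := orderOf_dvd_of_pow_eq_one h
      have := Nat.le_of_dvd hk0 this
      omega
    have hzi : z⁻¹ = z := inv_eq_of_mul_eq_one_left hz2
    have hza : z * a * z⁻¹ = a := by
      have h1 := haXn k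
      rw [← hz, hzi] at h1
      calc z * a * z⁻¹ = (a * z * a⁻¹) * a * z⁻¹ := by rw [h1]
        _ = a := by group
    have hzb : z * b * z⁻¹ = b := by
      have h1 := hbXn k
      rw [← hz, hzi] at h1
      calc z * b * z⁻¹ = (b * z * b⁻¹) * b * z⁻¹ := by rw [h1]
        _ = b := by group
    have hzu : z • u = u := by
      apply TT_inj h2 hζ
      rw [← conj_TT, ← ha, hza]
    have hzv : z • v = v := by
      apply TT_inj h2 hζ
      rw [← conj_TT, ← hb, hzb]
    apply hz1
    apply ext_smul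
    intro x
    have hfix : ∀ x, f x u = 0 → f x v = 0 → X • x = x := by
      intro x h1 h3
      have e1 : b • x = x := by rw [hb, TT_smul, h3]; simp
      have e2 : a • x = x := by rw [ha, TT_smul, h1]; simp
      rw [hX, mul_smul, e1, e2]
    have hfixn : ∀ n : ℕ, ∀ x, f x u = 0 → f x v = 0 → X ^ n • x = x := by
      intro n
      induction n with
      | zero => intro x _ _; rw [pow_zero, one_smul]
      | succ n ih =>
        intro x h1 h3
        rw [pow_succ, mul_smul, hfix x h1 h3, ih x h1 h3]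
    set s := f u v with hs
    have hvu : f v u = s := by rw [sympForm_swap, neg_eq_self_of_two h2]
    set y := x + (f x v / s) • u + (f x u / s) • v with hy
    have hyu : f y u = 0 := by
      rw [hy, sympForm_add_left, sympForm_add_left, sympForm_smul_left, sympForm_smul_left,
        sympForm_self, hvu, mul_zero, add_zero, div_mul_cancel₀ _ huv, add_self_of_two h2]
    have hyv : f y v = 0 := by
      rw [hy, sympForm_add_left, sympForm_add_left, sympForm_smul_left, sympForm_smul_left,
        sympForm_self, ← hs, mul_zero, add_zero, div_mul_cancel₀ _ huv, add_self_of_two h2]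
    have h1 := hfixn k y hyu hyv
    rw [← hz, hy, smul_add', smul_add', smul_smul', smul_smul', hzu, hzv,
      add_left_inj, add_left_inj] at h1
    rw [h1, one_smul]
  obtain ⟨j, hj⟩ := hodd
  refine ⟨X ^ (j + 1), M.pow_mem hXM _, ?_⟩
  apply TT_inj h2 hζ
  rw [← conj_TT, ← hb, ← ha]
  have h1 : X ^ (j + 1) * X ^ (j + 1) = X := by
    rw [← pow_add, show j + 1 + (j + 1) = (2 * j + 1) + 1 by ring, pow_succ, ← hj,
      pow_orderOf_eq_one, one_mul]
  have h3 := hbXn (j + 1)
  calc X ^ (j + 1) * b * (X ^ (j + 1))⁻¹ = X ^ (j + 1) * (b * (b * X ^ (j + 1) * b⁻¹)) := by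
        rw [h3]; group
    _ = X ^ (j + 1) * ((b * b) * X ^ (j + 1) * b⁻¹) := by group
    _ = (X ^ (j + 1) * X ^ (j + 1)) * b := by rw [hb2, one_mul, hbi]; group
    _ = a := by rw [h1, hX, mul_assoc, hb2, mul_one]

variable [Finite F]

/-- A vector with rational pairings is rational. -/
theorem RatStr.mem_of_val (h : RatStr F₀ ζ V₀) {u : V} (hu : ∀ x ∈ V₀, ζ * f u x ∈ F₀) :
    u ∈ V₀ := by
  obtain ⟨w, hw, huw⟩ := h.rep (one_ne_zero) (a := (1 : F)) (fun x hx => by
    rw [div_one]
    exact hu x hx)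
  rw [huw, one_smul]
  exact hw

theorem UU_of_rat (h : RatStr F₀ ζ V₀) {M : Subgroup G}
    (hM : ∀ g : G, (∀ v ∈ V₀, g • v ∈ V₀) → g ∈ M) {v : V} (hv : v ∈ V₀) : UU ζ M v :=
  hM _ (TT_mem_of_rat h hv F₀.one_mem)

/-- If the transvection centres orthogonal to rational ones are rational then all are. -/
theorem rat_of_all (h2 : (2 : F) = 0) (h : RatStr F₀ ζ V₀) (hdim : 2 < Module.finrank F₀ V₀)
    {M : Subgroup G} (hM : ∀ g : G, (∀ v ∈ V₀, g • v ∈ V₀) → g ∈ M)
    (hsub : ∀ y ∈ V₀, y ≠ 0 → ∀ u, UU ζ M u → f u y = 0 → u ∈ V₀) {u : V} (hu : UU ζ M u) :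
    u ∈ V₀ := by
  classical
  by_cases hu0 : u = 0
  · rw [hu0]; exact V₀.zero_mem
  obtain ⟨v, hv, huv⟩ : ∃ v ∈ V₀, f u v ≠ 0 := by
    by_contra hcon
    push Not at hcon
    exact hu0 (h.nd u hcon)
  have hv0 : v ≠ 0 := by
    rintro rfl
    exact huv (sympForm_zero_right _)
  obtain ⟨g, hgM, hg⟩ := exists_conj_UU h2 h.ne hu (UU_of_rat h hM hv) huv
  have hinv : g⁻¹ • u = v := by rw [← hg, inv_smul_smul]
  -- one pair
  have main : ∀ e ∈ V₀, ∀ w ∈ V₀, f e w = 0 →
      UU ζ M ((ζ * f u e) • w + (ζ * f u w) • e) := by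
    intro e he w hw hew
    have hS : SS ζ e w 0 ∈ M := hM _ (SS_mem_of_rat h he hw hew F₀.zero_mem)
    set s := (ζ * f u e) • w + (ζ * f u w) • e with hs
    have e1 : SS ζ e w 0 • u = u + s := by
      rw [SS_smul hew, hs, zero_smul, add_zero, sympForm_swap w u, sympForm_swap e u,
        neg_eq_self_of_two h2, neg_eq_self_of_two h2]
      abel
    have h1 := hu.map hS
    rw [e1] at h1
    have hus : f u s = 0 := by
      rw [hs, sympForm_add_right, sympForm_smul_right, sympForm_smul_right]
      linear_combination (ζ * f u e * f u w) * h2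
    have h3 := h1.map (M.inv_mem hgM)
    have h4 : f (g⁻¹ • (u + s)) v = 0 := by
      rw [← hinv, form_smul, sympForm_add_left, sympForm_self, zero_add]
      exact form_eq_zero_comm.1 hus
    have h5 := hsub v hv hv0 _ h3 h4
    rw [smul_add', hinv] at h5
    have h6 : g⁻¹ • s ∈ V₀ := by
      have := V₀.sub_mem h5 hv
      rwa [add_sub_cancel_left] at this
    have h7 := (UU_of_rat h hM h6).map hgM
    rwa [smul_inv_smul] at h7
  apply h.mem_of_val
  intro e he
  by_cases he0 : e = 0
  · rw [he0, sympForm_zero_right, mul_zero]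
    exact F₀.zero_mem
  have hcard := finrank_span_le (K := F₀) ({⟨e, he⟩} : Finset V₀)
  rw [Finset.card_singleton] at hcard
  obtain ⟨w, hwS, hwo⟩ := h.exists_orth (S := Submodule.span F₀ ((({⟨e, he⟩} : Finset V₀)) :
    Set V₀)) (by omega)
  obtain ⟨p, hpo, hwp⟩ := h.exists_dual hwS
  have heS : (⟨e, he⟩ : V₀) ∈ Submodule.span F₀ ((({⟨e, he⟩} : Finset V₀)) : Set V₀) :=
    Submodule.subset_span (by simp)
  have hew : f e (w : V) = 0 := hwo _ heS
  have hep : f e (p : V) = 0 := hpo _ heS
  have h1 := main e he w w.2 hew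
  have h3 := hsub e he he0 _ h1 (by
    rw [sympForm_add_left, sympForm_smul_left, sympForm_smul_left, sympForm_self,
      form_eq_zero_comm.1 hew]
    ring)
  have h4 := h.val _ h3 p p.2
  rw [sympForm_add_left, sympForm_smul_left, sympForm_smul_left, hep, mul_zero, add_zero] at h4
  have e2 : ζ * (ζ * f u e * f (w : V) (p : V)) = ζ * f u e := by
    linear_combination (ζ * f u e) * hwp
  rwa [e2] at h4

/-- The reduction of a Siegel element with irrational direction. -/
theorem goal_of_SS (h : RatStr F₀ ζ V₀) (hdim : 4 < Module.finrank F₀ V₀)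
    {M : Subgroup G} (hM : ∀ g : G, (∀ v ∈ V₀, g • v ∈ V₀) → g ∈ M) {y v : V₀}
    (hyv : f (y : V) (v : V) = 0) (hind : v ∉ Submodule.span F₀ ({y} : Set V₀))
    (hy0 : (y : V) ≠ 0) {b c : F} (hb : b ^ 2 ∉ F₀) (hS : SS ζ (y : V) (b • (v : V)) c ∈ M) :
    Goal ζ F₀ V₀ M := by
  classical
  have h1 := (finrank_span_le (K := F₀) ({y, v} : Finset V₀)).trans Finset.card_le_two
  obtain ⟨z, hzS, hzo⟩ := h.exists_orth (S := Submodule.span F₀ ((({y, v} : Finset V₀)) :
    Set V₀)) (by omega)
  have hyS : y ∈ Submodule.span F₀ ((({y, v} : Finset V₀)) : Set V₀) :=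
    Submodule.subset_span (by simp)
  have hvS : v ∈ Submodule.span F₀ ((({y, v} : Finset V₀)) : Set V₀) :=
    Submodule.subset_span (by simp)
  have hyz : f (y : V) (z : V) = 0 := hzo _ hyS
  have hvz : f (v : V) (z : V) = 0 := hzo _ hvS
  have hind2 : v ∉ Submodule.span F₀ ({z, y} : Set V₀) := by
    intro h3
    apply hzS
    rw [Finset.coe_insert, Finset.coe_singleton, Set.pair_comm]
    exact mem_span_insert_exchange h3 hind
  obtain ⟨v', hv'o, hvv'⟩ := h.exists_dual hind2
  have hzv' : f (z : V) (v' : V) = 0 := hv'o z (Submodule.subset_span (by simp))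
  have hyv' : f (y : V) (v' : V) = 0 := hv'o y (Submodule.subset_span (by simp))
  have hv'z : f (v' : V) (z : V) = 0 := form_eq_zero_comm.1 hzv'
  have hg : SS ζ (v' : V) (z : V) 0 ∈ M := hM _ (SS_mem_of_rat h v'.2 z.2 hv'z F₀.zero_mem)
  have hybv : f (y : V) (b • (v : V)) = 0 := by rw [sympForm_smul_right, hyv, mul_zero]
  have h3 := M.mul_mem (M.mul_mem hg hS) (M.inv_mem hg)
  have e1 : SS ζ (v' : V) (z : V) 0 • (y : V) = y := by
    rw [SS_smul hv'z, form_eq_zero_comm.1 hyz, form_eq_zero_comm.1 hyv']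
    module
  have e2 : SS ζ (v' : V) (z : V) 0 • (b • (v : V)) = b • ((v : V) - (z : V)) := by
    rw [smul_smul', SS_smul hv'z, form_eq_zero_comm.1 hvz]
    have : ζ * f (v' : V) (v : V) = -1 := by rw [sympForm_swap, mul_neg, hvv']
    rw [this]
    module
  rw [conj_SS _ hybv, e1, e2] at h3
  have hyd : f (y : V) (b • ((v : V) - (z : V))) = 0 := by
    rw [sympForm_smul_right, sympForm_sub_right, hyv, hyz, sub_zero, mul_zero]
  have h4 := M.mul_mem hS (M.inv_mem h3)
  rw [SS_inv hyd, SS_mul hybv (by rw [sympForm_neg_right, hyd, neg_zero])] at h4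
  have e3 : b • (v : V) + -(b • ((v : V) - (z : V))) = b • (z : V) := by module
  have e4 : c + -c + ζ * f (b • (v : V)) (-(b • ((v : V) - (z : V)))) = 0 := by
    rw [sympForm_neg_right, sympForm_smul_left, sympForm_smul_right, sympForm_sub_right,
      sympForm_self, hvz]
    ring
  rw [e3, e4] at h4
  have hzy : z ∉ Submodule.span F₀ ({y} : Set V₀) := by
    intro h5
    apply hzS
    apply Submodule.span_mono _ h5
    simp
  obtain ⟨p, hpo, hzp⟩ := h.exists_dual hzy
  have hyp : f (y : V) (p : V) = 0 := hpo y (Submodule.subset_span (by simp))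
  have hTT := TT_of_SS h hM z.2 p.2 hyz hyp hzp h4
  refine ⟨y, y.2, hy0, _, ?_, hTT⟩
  intro h5
  apply hb
  have h6 := F₀.neg_mem h5
  rwa [neg_neg] at h6

/-- Even characteristic, dimension at least six. -/
theorem even_step' (h2 : (2 : F) = 0) (h : RatStr F₀ ζ V₀) (hdim : 4 < Module.finrank F₀ V₀)
    {M : Subgroup G} (hM : ∀ g : G, (∀ v ∈ V₀, g • v ∈ V₀) → g ∈ M) {u₁ : V}
    (hu₁ : UU ζ M u₁) (hirr : u₁ ∉ V₀) : Goal ζ F₀ V₀ M := by
  classical
  obtain ⟨y, hy, hy0, u, hu, huy, hun⟩ : ∃ y ∈ V₀, y ≠ 0 ∧ ∃ u, UU ζ M u ∧ f u y = 0 ∧ u ∉ V₀ := by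
    by_contra hcon
    push Not at hcon
    exact hirr (rat_of_all h2 h (by omega) hM hcon hu₁)
  have hyu : f y u = 0 := form_eq_zero_comm.1 huy
  -- products of two transvections with orthogonal centres
  have prod : ∀ (u : V) (lam : F), f y u = 0 → UU ζ M u → UU ζ M (u + lam • y) →
      SS ζ y (lam • u) (lam ^ 2) ∈ M := by
    intro u lam hyu h3 h4
    have huy : f u y = 0 := form_eq_zero_comm.1 hyu
    have h5 := M.mul_mem h3 h4
    have h6 : f y (lam • u) = 0 := by rw [sympForm_smul_right, hyu, mul_zero]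
    have e : TT ζ u 1 * TT ζ (u + lam • y) 1 = SS ζ y (lam • u) (lam ^ 2) := by
      apply ext_smul
      intro v
      rw [mul_smul, TT_smul, TT_smul, SS_smul h6]
      simp only [sympForm_add_left, sympForm_add_right, sympForm_smul_left, sympForm_smul_right,
        sympForm_self, huy, hyu, sympForm_swap u v, sympForm_swap y v]
      have e1 : (2 : F) • (ζ * f v u) • u + (2 : F) • (ζ * lam * f v u) • y +
        (2 : F) • (ζ * lam * f v y) • u + (2 : F) • (ζ * lam ^ 2 * f v y) • y = 0 := by
        rw [h2]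
        simp
      rw [← sub_eq_zero, ← e1]
      module
    rwa [e] at h5
  by_cases hA : ∃ w ∈ V₀, f y w = 0 ∧ ζ * f u w ∉ F₀
  · obtain ⟨w, hw, hyw, hlam⟩ := hA
    set lam : F := ζ * f u w with hlamdef
    have hSg : SS ζ y w 0 ∈ M := hM _ (SS_mem_of_rat h hy hw hyw F₀.zero_mem)
    have h3 := hu.map hSg
    have e1 : SS ζ y w 0 • u = u + lam • y := by
      rw [SS_smul hyw, hyu, hlamdef, sympForm_swap w u, neg_eq_self_of_two h2]
      module
    rw [e1] at h3
    have h4 := prod u lam hyu hu h3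
    have h6 : f y (lam • u) = 0 := by rw [sympForm_smul_right, hyu, mul_zero]
    have hT : TT ζ w 1 ∈ M := hM _ (TT_mem_of_rat h hw F₀.one_mem)
    have h7 := M.mul_mem (M.mul_mem hT h4) (M.inv_mem hT)
    have e2 : TT ζ w 1 • y = y := by
      rw [TT_smul, hyw, mul_zero, mul_zero, zero_smul, add_zero]
    have e3 : TT ζ w 1 • (lam • u) = lam • u + (lam ^ 2) • w := by
      rw [smul_smul', TT_smul, one_mul, ← hlamdef]
      module
    rw [conj_SS _ h6, e2, e3] at h7
    have h8 : f y (lam • u + (lam ^ 2) • w) = 0 := by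
      rw [sympForm_add_right, h6, sympForm_smul_right, hyw, mul_zero, add_zero]
    have h9 := M.mul_mem h4 h7
    rw [SS_mul h6 h8] at h9
    have e4 : lam • u + (lam • u + (lam ^ 2) • w) = (lam ^ 2) • w := by
      have : (2 : F) • (lam • u) = 0 := by rw [h2, zero_smul]
      calc lam • u + (lam • u + (lam ^ 2) • w) = (2 : F) • (lam • u) + (lam ^ 2) • w := by module
        _ = (lam ^ 2) • w := by rw [this, zero_add]
    rw [e4] at h9
    refine goal_of_SS h hdim hM (y := ⟨y, hy⟩) (v := ⟨w, hw⟩) hyw ?_ hy0 (b := lam ^ 2) ?_ h9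
    · intro h10
      rw [Submodule.mem_span_singleton] at h10
      obtain ⟨c, hc⟩ := h10
      apply hlam
      have h11 : (c : F) • y = w := congrArg Subtype.val hc
      rw [hlamdef, ← h11, sympForm_smul_right, huy, mul_zero, mul_zero]
      exact F₀.zero_mem
    · intro h10
      exact hlam (mem_of_sq_mem h2 (mem_of_sq_mem h2 h10))
  · push Not at hA
    -- the rational hyperbolic partner of `y`
    have hyS : (⟨y, hy⟩ : V₀) ∉ (⊥ : Submodule F₀ V₀) := by
      rw [Submodule.mem_bot]
      intro h3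
      exact hy0 (congrArg Subtype.val h3)
    obtain ⟨y', -, hyy'⟩ := h.exists_dual hyS
    change ζ * f y (y' : V) = 1 at hyy'
    set gam : F := ζ * f u (y' : V) with hgam
    have hu₀ : u - gam • y ∈ V₀ := by
      apply h.mem_of_val
      intro x hx
      -- split `x`
      set a : F := ζ * f y x with ha
      have haF : a ∈ F₀ := h.val y hy x hx
      have hx1 : x - a • (y' : V) ∈ V₀ := V₀.sub_mem hx (V₀.smul_mem (⟨a, haF⟩ : F₀) y'.2)
      have h3 : f y (x - a • (y' : V)) = 0 := by
        have h4 : ζ * f y (x - a • (y' : V)) = 0 := by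
          rw [sympForm_sub_right, sympForm_smul_right]
          linear_combination (-a) * hyy'
        exact (mul_eq_zero.1 h4).resolve_left h.ne
      have h4 := hA _ hx1 h3
      have e : ζ * f (u - gam • y) x = ζ * f u (x - a • (y' : V)) := by
        rw [sympForm_sub_left, sympForm_smul_left, sympForm_sub_right, sympForm_smul_right]
        linear_combination (-gam) * ha + a * hgam
      rw [e]
      exact h4
    set u₀ : V := u - gam • y with hu₀def
    have huu₀ : u = u₀ + gam • y := by rw [hu₀def, sub_add_cancel]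
    have hgamF : gam ∉ F₀ := by
      intro h3
      apply hun
      rw [huu₀]
      exact V₀.add_mem hu₀ (V₀.smul_mem (⟨gam, h3⟩ : F₀) hy)
    have hyu₀ : f y u₀ = 0 := by
      rw [hu₀def, sympForm_sub_right, hyu, sympForm_smul_right, sympForm_self, mul_zero, sub_zero]
    by_cases hdep : (⟨u₀, hu₀⟩ : V₀) ∈ Submodule.span F₀ ({⟨y, hy⟩} : Set V₀)
    · rw [Submodule.mem_span_singleton] at hdep
      obtain ⟨c, hc⟩ := hdep
      have h3 : (c : F) • y = u₀ := congrArg Subtype.val hc
      rw [UU, huu₀, ← h3, ← add_smul, TT_smul_vec, mul_one] at hu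
      refine ⟨y, hy, hy0, _, ?_, hu⟩
      intro h4
      apply hgamF
      have h5 := mem_of_sq_mem h2 h4
      have h6 := F₀.sub_mem h5 c.2
      rwa [add_sub_cancel_left] at h6
    · have h3 := prod u₀ gam hyu₀ (UU_of_rat h hM hu₀) (by rw [← huu₀]; exact hu)
      exact goal_of_SS h hdim hM (y := ⟨y, hy⟩) (v := ⟨u₀, hu₀⟩) hyu₀ hdep hy0
        (fun h4 => hgamF (mem_of_sq_mem h2 h4)) h3

end Cfsg.Agent.H875
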