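import Cfsg.Agent.H875.SpRat

/-!
Subgroups of the symplectic group containing the isometries of a rational structure and a
transvection with irrational centre: they contain an irrational transvection with rational centre.
-/

set_option autoImplicit false
open Cfsg
open scoped Matrix
open Cfsg.Agent.ClassicalGeometry.SympBasic Cfsg.Agent.ClassicalGeometry.SympSiegel

namespace Cfsg.Agent.H875

variable {F : Type*} [Field F] {m : ℕ}

local notation "V" => (Fin m ⊕ Fin m → F)
local notation "G" => Matrix.symplecticGroup (Fin m) F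
local notation "f" => sympForm m F

variable {ζ : F} {F₀ : Subfield F} {V₀ : Submodule F₀ (Fin m ⊕ Fin m → F)}

/-- The conclusion: an irrational transvection with rational centre. -/
def Goal (ζ : F) (F₀ : Subfield F) (V₀ : Submodule F₀ (Fin m ⊕ Fin m → F))
    (M : Subgroup (Matrix.symplecticGroup (Fin m) F)) : Prop :=
  ∃ s ∈ V₀, s ≠ 0 ∧ ∃ c : F, c ∉ F₀ ∧ TT ζ s c ∈ M

theorem div_not_mem_symm {a b : F} (h : b / a ∉ F₀) : a / b ∉ F₀ := by
  intro h1
  apply h
  have := F₀.inv_mem h1
  rwa [inv_div] at this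

theorem ne_zero_of_div_left {a b : F} (h : b / a ∉ F₀) : b ≠ 0 := by
  rintro rfl
  rw [zero_div] at h
  exact h F₀.zero_mem

theorem ne_zero_of_div_right {a b : F} (h : b / a ∉ F₀) : a ≠ 0 := by
  rintro rfl
  rw [div_zero] at h
  exact h F₀.zero_mem

variable [Finite F]

/-- Odd characteristic, centre in a rational hyperbolic plane. -/
theorem odd_two (h2 : (2 : F) ≠ 0) (h : RatStr F₀ ζ V₀) (hdim : 4 < Module.finrank F₀ V₀)
    {M : Subgroup G} (hM : ∀ g : G, (∀ v ∈ V₀, g • v ∈ V₀) → g ∈ M) {x y : V} (hx : x ∈ V₀)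
    (hy : y ∈ V₀) (hxy : ζ * f x y = 1) {α β : F} (hαβ : β / α ∉ F₀)
    (hu : ∀ c ∈ F₀, TT ζ (α • x + β • y) c ∈ M) : Goal ζ F₀ V₀ M := by
  classical
  set v₂ : V := α • x + β • y with hv₂
  have hα : α ≠ 0 := ne_zero_of_div_right hαβ
  have hyx : ζ * f y x = -1 := by rw [sympForm_swap, mul_neg, hxy]
  -- a rational vector orthogonal to the plane
  let S : Submodule F₀ V₀ := Submodule.span F₀ (({⟨x, hx⟩, ⟨y, hy⟩} : Finset V₀) : Set V₀)
  have hS : Module.finrank F₀ S ≤ 2 := (finrank_span_le _).trans Finset.card_le_two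
  obtain ⟨s, hsS, hso⟩ := h.exists_orth (S := S) (by omega)
  have hxS : (⟨x, hx⟩ : V₀) ∈ S := Submodule.subset_span (by simp)
  have hyS : (⟨y, hy⟩ : V₀) ∈ S := Submodule.subset_span (by simp)
  have hxs : f x s = 0 := hso _ hxS
  have hys : f y s = 0 := hso _ hyS
  have hsx : f s x = 0 := form_eq_zero_comm.1 hxs
  have hsy : f s y = 0 := form_eq_zero_comm.1 hys
  have hs0 : (s : V) ≠ 0 := by
    intro h0
    apply hsS
    have : s = 0 := Subtype.ext h0
    rw [this]
    exact S.zero_mem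
  have hsv : f s v₂ = 0 := by
    rw [hv₂, sympForm_add_right, sympForm_smul_right, sympForm_smul_right, hsx, hsy, mul_zero,
      mul_zero, add_zero]
  have hvs : f v₂ s = 0 := form_eq_zero_comm.1 hsv
  -- the key claim
  have claim : ∀ p ∈ V₀, ∀ q ∈ V₀, f s p = 0 → f s q = 0 → ∀ c ∈ F₀,
      TT ζ (s : V) (2 * c * (ζ * f p v₂) * (ζ * f v₂ q)) ∈ M := by
    intro p hp q hq hsp hsq c hc
    set a : F := ζ * f p v₂ with ha
    have h1 : SS ζ (s : V) p 0 ∈ M := hM _ (SS_mem_of_rat h s.2 hp hsp F₀.zero_mem)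
    have h3 : SS ζ (s : V) p 0 • v₂ = v₂ + a • (s : V) := by
      rw [SS_smul hsp, hsv, mul_zero, zero_smul, add_zero]
    have h4 : TT ζ (v₂ + a • (s : V)) c ∈ M := by
      rw [← h3, ← conj_TT]
      exact M.mul_mem (M.mul_mem h1 (hu c hc)) (M.inv_mem h1)
    have h5 : TT ζ (v₂ + a • (s : V)) c * TT ζ v₂ (-c) =
        SS ζ (s : V) ((-(c * a)) • v₂) (-(c * a ^ 2)) := by
      have h6 : f (s : V) ((-(c * a)) • v₂) = 0 := by
        rw [sympForm_smul_right, hsv, mul_zero]
      apply ext_smul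
      intro v
      rw [mul_smul, TT_smul, TT_smul, SS_smul h6]
      simp only [sympForm_add_left, sympForm_add_right, sympForm_smul_left, sympForm_smul_right,
        sympForm_self, hvs, sympForm_swap v₂ v, sympForm_swap (s : V) v]
      module
    have h7 : SS ζ (s : V) ((-(c * a)) • v₂) (-(c * a ^ 2)) ∈ M := by
      rw [← h5]
      exact M.mul_mem h4 (hu _ (F₀.neg_mem hc))
    have h8 : SS ζ (s : V) q 0 ∈ M := hM _ (SS_mem_of_rat h s.2 hq hsq F₀.zero_mem)
    have h6 : f (s : V) ((-(c * a)) • v₂) = 0 := by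
      rw [sympForm_smul_right, hsv, mul_zero]
    have h9 := M.mul_mem (M.mul_mem h7 h8) (M.inv_mem (M.mul_mem h8 h7))
    have h10 : f (s : V) ((-(c * a)) • v₂ + q) = 0 := by
      rw [sympForm_add_right, h6, hsq, add_zero]
    have h11 : f (s : V) (q + (-(c * a)) • v₂) = 0 := by rw [add_comm]; exact h10
    rw [SS_mul h6 hsq, SS_mul hsq h6, SS_inv h11, SS_mul h10 (form_neg_eq_zero h11),
      add_comm q, add_neg_cancel, SS_zero] at h9
    convert h9 using 2
    simp only [sympForm_smul_left, sympForm_smul_right, sympForm_neg_right, sympForm_self,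
      sympForm_swap q v₂]
    ring
  have e1 : ζ * f y v₂ = -α := by
    rw [hv₂, sympForm_add_right, sympForm_smul_right, sympForm_smul_right, sympForm_self]
    linear_combination α * hyx
  have e2 : ζ * f v₂ y = α := by
    rw [hv₂, sympForm_add_left, sympForm_smul_left, sympForm_smul_left, sympForm_self]
    linear_combination α * hxy
  have e3 : ζ * f v₂ x = -β := by
    rw [hv₂, sympForm_add_left, sympForm_smul_left, sympForm_smul_left, sympForm_self]
    linear_combination β * hyx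
  have c1 := claim y hy y hy hsy hsy 1 F₀.one_mem
  have c2 := claim y hy x hx hsy hsx 1 F₀.one_mem
  rw [e1, e2] at c1
  rw [e1, e3] at c2
  have h2mem : (2 : F) ∈ F₀ := by
    have : (1 : F) + 1 ∈ F₀ := F₀.add_mem F₀.one_mem F₀.one_mem
    convert this using 1
    norm_num
  by_cases hα2 : 2 * 1 * -α * α ∈ F₀
  · refine ⟨s, s.2, hs0, _, ?_, c2⟩
    intro hmem
    apply hαβ
    have h3 : 2 * 1 * -α * -β / (2 * 1 * -α * α) ∈ F₀ := F₀.div_mem hmem hα2
    have h4 : β / α = -(2 * 1 * -α * -β / (2 * 1 * -α * α)) := by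
      field_simp
    rw [h4]
    exact F₀.neg_mem h3
  · exact ⟨s, s.2, hs0, _, hα2, c1⟩

/-- Odd characteristic. -/
theorem odd_step (h2 : (2 : F) ≠ 0) (h : RatStr F₀ ζ V₀) (hdim : 4 < Module.finrank F₀ V₀)
    {M : Subgroup G} (hM : ∀ g : G, (∀ v ∈ V₀, g • v ∈ V₀) → g ∈ M) {u : V}
    (hu : ∀ c ∈ F₀, TT ζ u c ∈ M) (hirr : ∀ (a : F), ∀ w ∈ V₀, u ≠ a • w) :
    Goal ζ F₀ V₀ M := by
  classical
  have h2mem : (2 : F) ∈ F₀ := by
    have : (1 : F) + 1 ∈ F₀ := F₀.add_mem F₀.one_mem F₀.one_mem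
    convert this using 1
    norm_num
  -- a rational hyperbolic pair with independent pairings
  obtain ⟨x, hx, y, hy, hxy, hind⟩ : ∃ x ∈ V₀, ∃ y ∈ V₀, ζ * f x y = 1 ∧
      (ζ * f u y) / (ζ * f u x) ∉ F₀ := by
    obtain ⟨x, hx, y, hy, hind⟩ := h.exists_indep hirr
    by_cases hxy : f x y = 0
    · have hx0 : x ≠ 0 := by
        rintro rfl
        rw [sympForm_zero_right, mul_zero, div_zero] at hind
        exact hind F₀.zero_mem
      obtain ⟨z, -, hz⟩ := h.exists_dual (S := ⊥) (z := ⟨x, hx⟩) (by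
        rw [Submodule.mem_bot]
        intro h0
        exact hx0 (congrArg Subtype.val h0))
      by_cases hz' : (ζ * f u (z : V)) / (ζ * f u x) ∈ F₀
      · refine ⟨x, hx, z + y, V₀.add_mem z.2 hy, ?_, ?_⟩
        · rw [sympForm_add_right, hxy, add_zero]
          exact hz
        · intro h3
          apply hind
          have h4 := F₀.sub_mem h3 hz'
          rw [← sub_div, sympForm_add_right] at h4
          convert h4 using 2
          ring
      · exact ⟨x, hx, z, z.2, hz, hz'⟩
    · have hg : ζ * f x y ≠ 0 := mul_ne_zero h.ne hxy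
      have hgm : (ζ * f x y)⁻¹ ∈ F₀ := F₀.inv_mem (h.val x hx y hy)
      refine ⟨x, hx, (ζ * f x y)⁻¹ • y, V₀.smul_mem (⟨_, hgm⟩ : F₀) hy, ?_, ?_⟩
      · rw [sympForm_smul_right]
        have e : ζ * ((ζ * f x y)⁻¹ * f x y) = (ζ * f x y)⁻¹ * (ζ * f x y) := by ring
        rw [e, inv_mul_cancel₀ hg]
      · intro h3
        apply hind
        have h4 := F₀.mul_mem (h.val x hx y hy) h3
        convert h4 using 1
        rw [sympForm_smul_right]
        field_simp
  have hyx : ζ * f y x = -1 := by rw [sympForm_swap, mul_neg, hxy]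
  set a : F := ζ * f u x with ha
  set b : F := ζ * f u y with hb
  have hind' : -a / b ∉ F₀ := by
    intro h3
    apply div_not_mem_symm hind
    have := F₀.neg_mem h3
    rwa [neg_div, neg_neg] at this
  -- the projection to the plane
  set w : V := b • x + (-a) • y with hw
  set w' : V := u - w with hw'
  have huw : u = w + w' := by rw [hw']; abel
  have hw'x : f w' x = 0 := by
    have h3 : ζ * f w' x = 0 := by
      rw [hw', hw, sympForm_sub_left, sympForm_add_left, sympForm_smul_left, sympForm_smul_left,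
        sympForm_self]
      linear_combination -ha + a * hyx
    exact (mul_eq_zero.1 h3).resolve_left h.ne
  have hw'y : f w' y = 0 := by
    have h3 : ζ * f w' y = 0 := by
      rw [hw', hw, sympForm_sub_left, sympForm_add_left, sympForm_smul_left, sympForm_smul_left,
        sympForm_self]
      linear_combination -hb - b * hxy
    exact (mul_eq_zero.1 h3).resolve_left h.ne
  have hw'w : f w' w = 0 := by
    rw [hw, sympForm_add_right, sympForm_smul_right, sympForm_smul_right, hw'x, hw'y, mul_zero,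
      mul_zero, add_zero]
  have hww' : f w w' = 0 := form_eq_zero_comm.1 hw'w
  by_cases hw'0 : w' = 0
  · apply odd_two h2 h hdim hM hx hy hxy hind'
    intro c hc
    rw [← hw]
    have : w = u := by rw [huw, hw'0, add_zero]
    rw [this]
    exact hu c hc
  -- the involution
  let T : V →ₗ[F] V := LinearMap.id - (2 : F) • (((ζ • (sympBilin m F).flip y).smulRight x) -
    ((ζ • (sympBilin m F).flip x).smulRight y))
  have hT : ∀ v, T v = v - (2 : F) • ((ζ * f v y) • x - (ζ * f v x) • y) := fun v => rfl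
  have hiso : ∀ v v', f (T v) (T v') = f v v' := by
    intro v v'
    have h3 : ζ * f (T v) (T v') = ζ * f v v' := by
      rw [hT, hT]
      simp only [sympForm_sub_left, sympForm_sub_right, sympForm_smul_left, sympForm_smul_right,
        sympForm_self, sympForm_swap x v', sympForm_swap y v', sympForm_swap y x]
      linear_combination (4 * ((ζ * f v x) * (ζ * f v' y) - (ζ * f v y) * (ζ * f v' x))) * hxy
    exact mul_left_cancel₀ h.ne h3
  have hTM : ofIso T hiso ∈ M := by
    apply hM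
    intro v hv
    rw [ofIso_smul, hT]
    apply V₀.sub_mem hv
    apply V₀.smul_mem (⟨2, h2mem⟩ : F₀)
    apply V₀.sub_mem
    · exact V₀.smul_mem (⟨_, h.val v hv y hy⟩ : F₀) hx
    · exact V₀.smul_mem (⟨_, h.val v hv x hx⟩ : F₀) hy
  have hTu : ofIso T hiso • u = w' - w := by
    rw [ofIso_smul, hT, ← ha, ← hb]
    have e : (b • x - a • y : V) = w := by rw [hw]; module
    rw [e, huw]
    module
  -- the Siegel elements `SS w (c w')`
  have hSS : ∀ c ∈ F₀, SS ζ w (c • w') 0 ∈ M := by
    intro c hc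
    obtain ⟨d, hd, rfl⟩ : ∃ d ∈ F₀, c = 2 * d :=
      ⟨c / 2, F₀.div_mem hc h2mem, by field_simp⟩
    have h3 := hu _ (F₀.neg_mem hd)
    have h4 : TT ζ (w' - w) d ∈ M := by
      rw [← hTu, ← conj_TT]
      exact M.mul_mem (M.mul_mem hTM (hu _ hd)) (M.inv_mem hTM)
    have h5 : TT ζ u (-d) * TT ζ (w' - w) d = SS ζ w ((2 * d) • w') 0 := by
      have h6 : f w ((2 * d) • w') = 0 := by rw [sympForm_smul_right, hww', mul_zero]
      apply ext_smul
      intro v
      rw [mul_smul, TT_smul, TT_smul, SS_smul h6, huw]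
      simp only [sympForm_add_left, sympForm_add_right, sympForm_sub_left, sympForm_sub_right,
        sympForm_smul_left, sympForm_self, hww', hw'w,
        sympForm_swap w v, sympForm_swap w' v]
      module
    rw [← h5]
    exact M.mul_mem h3 h4
  -- a rational vector orthogonal to the plane and not to `w'`
  obtain ⟨z₀, hz₀, hwz₀⟩ : ∃ z ∈ V₀, f w' z ≠ 0 := by
    by_contra hc
    push Not at hc
    exact hw'0 (h.nd w' hc)
  obtain ⟨z, hz, hzx, hzy, hwz⟩ : ∃ z ∈ V₀, f z x = 0 ∧ f z y = 0 ∧ f w' z ≠ 0 := by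
    refine ⟨z₀ - (ζ * f z₀ y) • x + (ζ * f z₀ x) • y, ?_, ?_, ?_, ?_⟩
    · apply V₀.add_mem
      · apply V₀.sub_mem hz₀
        exact V₀.smul_mem (⟨_, h.val z₀ hz₀ y hy⟩ : F₀) hx
      · exact V₀.smul_mem (⟨_, h.val z₀ hz₀ x hx⟩ : F₀) hy
    · rw [sympForm_add_left, sympForm_sub_left, sympForm_smul_left, sympForm_smul_left,
        sympForm_self]
      linear_combination (f z₀ x) * hyx
    · rw [sympForm_add_left, sympForm_sub_left, sympForm_smul_left, sympForm_smul_left,
        sympForm_self]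
      linear_combination -(f z₀ y) * hxy
    · rw [sympForm_add_right, sympForm_sub_right, sympForm_smul_right, sympForm_smul_right, hw'x,
        hw'y, mul_zero, mul_zero, sub_zero, add_zero]
      exact hwz₀
  set d : F := ζ * f w' z with hd
  have hd0 : d ≠ 0 := mul_ne_zero h.ne hwz
  have hzw : f z w = 0 := by
    rw [hw, sympForm_add_right, sympForm_smul_right, sympForm_smul_right, hzx, hzy, mul_zero,
      mul_zero, add_zero]
  have hwz' : f w z = 0 := form_eq_zero_comm.1 hzw
  have hzw' : ζ * f z w' = -d := by rw [sympForm_swap, hd]; ring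
  -- `SS w (± c d z) (c d^2)`
  have key : ∀ c ∈ F₀, TT ζ w (-(2 * c * d ^ 2)) ∈ M := by
    intro c hc
    have hTz : TT ζ z c ∈ M := hM _ (TT_mem_of_rat h hz hc)
    have e1 : TT ζ z c • w = w := by
      rw [TT_smul, hwz', mul_zero, mul_zero, zero_smul, add_zero]
    have e2 : TT ζ z c • w' = w' + (c * d) • z := by rw [TT_smul]
    have h1 := hSS 1 F₀.one_mem
    rw [one_smul] at h1
    have h1' : SS ζ w (w' + (c * d) • z) 0 ∈ M := by
      have h3 := M.mul_mem (M.mul_mem hTz h1) (M.inv_mem hTz)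
      rw [conj_SS _ hww', e1, e2] at h3
      exact h3
    have hw1 : f w (w' + (c * d) • z) = 0 := by
      rw [sympForm_add_right, hww', sympForm_smul_right, hwz', mul_zero, add_zero]
    have hw2 : f w (-(w' + (c * d) • z)) = 0 := by rw [sympForm_neg_right, hw1, neg_zero]
    have hw3 : f w (-w') = 0 := by rw [sympForm_neg_right, hww', neg_zero]
    have h3 := M.mul_mem h1' (M.inv_mem h1)
    have h4 := M.mul_mem (M.inv_mem h1') h1
    rw [SS_inv hww', SS_mul hw1 hw3] at h3
    rw [SS_inv hw1, SS_mul hw2 hww'] at h4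
    have h5 := M.mul_mem h3 h4
    rw [SS_mul (by rw [sympForm_add_right, hw1, hw3, add_zero])
      (by rw [sympForm_add_right, hw2, hww', add_zero])] at h5
    have e3 : w' + (c * d) • z + -w' + (-(w' + (c * d) • z) + w') = 0 := by module
    rw [e3, SS_zero] at h5
    convert h5 using 2
    simp only [sympForm_add_left, sympForm_add_right, sympForm_neg_left, sympForm_neg_right,
      sympForm_smul_left, sympForm_smul_right, sympForm_self, sympForm_swap w' z]
    linear_combination (-(2 * c * d)) * hzw'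
  have hind2 : (d * -a) / (d * b) ∉ F₀ := by
    rw [mul_div_mul_left _ _ hd0]
    exact hind'
  apply odd_two h2 h hdim hM hx hy hxy hind2
  intro c hc
  have e : (d * b) • x + (d * -a) • y = d • w := by rw [hw]; module
  rw [e, TT_smul_vec]
  have h3 := key (-(c / 2)) (F₀.neg_mem (F₀.div_mem hc h2mem))
  convert h3 using 2
  field_simp

omit [Finite F] in
/-- From one Siegel element `SS x (e z) 0` with rational orthogonal `x, z` to a transvection. -/
theorem TT_of_SS (h : RatStr F₀ ζ V₀) {M : Subgroup G}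
    (hM : ∀ g : G, (∀ v ∈ V₀, g • v ∈ V₀) → g ∈ M) {x z p : V} (hz : z ∈ V₀)
    (hp : p ∈ V₀) (hxz : f x z = 0) (hxp : f x p = 0) (hzp : ζ * f z p = 1) {e : F}
    (hS : SS ζ x (e • z) 0 ∈ M) : TT ζ x (-e ^ 2) ∈ M := by
  have hpz : ζ * f p z = -1 := by rw [sympForm_swap, mul_neg, hzp]
  have hxez : f x (e • z) = 0 := by rw [sympForm_smul_right, hxz, mul_zero]
  have hxep : f x (e • p) = 0 := by rw [sympForm_smul_right, hxp, mul_zero]
  -- `SS x (e (z + p)) 0`
  have h1 : TT ζ p 1 ∈ M := hM _ (TT_mem_of_rat h hp F₀.one_mem)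
  have h2 : SS ζ x (e • (z + p)) 0 ∈ M := by
    have h3 := M.mul_mem (M.mul_mem h1 hS) (M.inv_mem h1)
    rw [conj_SS _ hxez] at h3
    have e1 : TT ζ p 1 • x = x := by
      rw [TT_smul, hxp, mul_zero, mul_zero, zero_smul, add_zero]
    have e2 : TT ζ p 1 • (e • z) = e • (z + p) := by
      rw [smul_smul', TT_smul, hzp, mul_one, one_smul]
    rwa [e1, e2] at h3
  have hxzp : f x (e • (z + p)) = 0 := by
    rw [sympForm_smul_right, sympForm_add_right, hxz, hxp, add_zero, mul_zero]
  -- `SS x (e p) 0`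
  have h4 : TT ζ z 1 ∈ M := hM _ (TT_mem_of_rat h hz F₀.one_mem)
  have h5 : SS ζ x (e • p) 0 ∈ M := by
    have h3 := M.mul_mem (M.mul_mem h4 h2) (M.inv_mem h4)
    rw [conj_SS _ hxzp] at h3
    have e1 : TT ζ z 1 • x = x := by
      rw [TT_smul, hxz, mul_zero, mul_zero, zero_smul, add_zero]
    have e2 : TT ζ z 1 • (e • (z + p)) = e • p := by
      rw [smul_smul', TT_smul, sympForm_add_left, sympForm_self, zero_add, hpz]
      module
    rwa [e1, e2] at h3
  have h6 := M.mul_mem (M.mul_mem hS h5) (M.inv_mem h2)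
  rw [SS_mul hxez hxep, SS_inv hxzp, SS_mul (by rw [sympForm_add_right, hxez, hxep, add_zero])
    (by rw [sympForm_neg_right, hxzp, neg_zero])] at h6
  have e1 : e • z + e • p + -(e • (z + p)) = 0 := by module
  rw [e1, SS_zero] at h6
  convert h6 using 2
  simp only [sympForm_add_left, sympForm_add_right, sympForm_neg_right,
    sympForm_smul_left, sympForm_smul_right, sympForm_self, sympForm_swap p z]
  linear_combination (e ^ 2) * hzp

omit [Finite F] in
/-- The main commutator computation: irrational Siegel elements. -/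
theorem SS_of_comm (h : RatStr F₀ ζ V₀) {M : Subgroup G}
    (hM : ∀ g : G, (∀ v ∈ V₀, g • v ∈ V₀) → g ∈ M) {u x y z x' z' p p' : V}
    (hu : TT ζ u 1 ∈ M) (huc : TT ζ u (-1) ∈ M)
    (hx : x ∈ V₀) (hy : y ∈ V₀) (hz : z ∈ V₀) (hx' : x' ∈ V₀) (hz' : z' ∈ V₀) (hp : p ∈ V₀)
    (hp' : p' ∈ V₀)
    (hxy : f x y = 0) (hxz : f x z = 0) (hyz : f y z = 0)
    (hxx' : f x x' = 0) (hyx' : f y x' = 0) (hzx' : f z x' = 0)
    (hxz' : f x z' = 0) (hyz' : f y z' = 0) (hzz' : f z z' = 0) (hx'z' : f x' z' = 0)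
    (hxp : ζ * f x p = 1) (hyp : f y p = 0) (hzp : f z p = 0) (hx'p : f x' p = 0)
    (hzp' : ζ * f z p' = 1) (hxp' : f x p' = 0) (hyp' : f y p' = 0) (hx'p' : f x' p' = 0)
    (hz'p' : f z' p' = 0)
    (hw0 : (ζ * f y u) * f u x + (ζ * f x u) * f u y = 0) :
    SS ζ x' (((ζ * f u z) * (ζ * f u y)) • z') 0 ∈ M := by
  set β : F := ζ * f y u with hβ
  set α : F := ζ * f x u with hα
  set w : V := β • x + α • y with hw
  set d : F := ζ * f u z with hd
  have huw : f u w = 0 := by
    rw [hw, sympForm_add_right, sympForm_smul_right, sympForm_smul_right]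
    exact hw0
  have hwu : f w u = 0 := form_eq_zero_comm.1 huw
  have hwz : f w z = 0 := by
    rw [hw, sympForm_add_left, sympForm_smul_left, sympForm_smul_left, hxz, hyz, mul_zero,
      mul_zero, add_zero]
  have hwx' : f w x' = 0 := by
    rw [hw, sympForm_add_left, sympForm_smul_left, sympForm_smul_left, hxx', hyx', mul_zero,
      mul_zero, add_zero]
  have hwz' : f w z' = 0 := by
    rw [hw, sympForm_add_left, sympForm_smul_left, sympForm_smul_left, hxz', hyz', mul_zero,
      mul_zero, add_zero]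
  -- first element
  have h1 : SS ζ x y 0 ∈ M := hM _ (SS_mem_of_rat h hx hy hxy F₀.zero_mem)
  have e1 : SS ζ x y 0 • u = u + w := by
    rw [SS_smul hxy, zero_smul, add_zero, ← hβ, ← hα, hw]
    abel
  have h2 : TT ζ (u + w) 1 ∈ M := by
    rw [← e1, ← conj_TT]
    exact M.mul_mem (M.mul_mem h1 hu) (M.inv_mem h1)
  have hwnu : f w (-u) = 0 := by rw [sympForm_neg_right, hwu, neg_zero]
  have e2 : TT ζ (u + w) 1 * TT ζ u (-1) = SS ζ w (-u) (-1) := by
    apply ext_smul
    intro v
    rw [mul_smul, TT_smul, TT_smul, SS_smul hwnu]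
    simp only [sympForm_add_left, sympForm_add_right, sympForm_neg_left,
      sympForm_smul_left, sympForm_self, huw,
      sympForm_swap w v, sympForm_swap u v]
    module
  have h3 : SS ζ w (-u) (-1) ∈ M := by
    rw [← e2]
    exact M.mul_mem h2 huc
  -- `SS w (-d z) (d^2)`
  have h4 : TT ζ z 1 ∈ M := hM _ (TT_mem_of_rat h hz F₀.one_mem)
  have hzw : f z w = 0 := form_eq_zero_comm.1 hwz
  have h5 := M.mul_mem (M.mul_mem h4 h3) (M.inv_mem h4)
  have e3 : TT ζ z 1 • w = w := by
    rw [TT_smul, hwz, mul_zero, mul_zero, zero_smul, add_zero]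
  have e4 : TT ζ z 1 • (-u) = -u + (-d) • z := by
    rw [TT_smul, sympForm_neg_left, hd]
    module
  rw [conj_SS _ hwnu, e3, e4] at h5
  have hwuz : f w (-u + (-d) • z) = 0 := by
    rw [sympForm_add_right, hwnu, sympForm_smul_right, hwz, mul_zero, add_zero]
  have hwu' : f w (- -u) = 0 := by rw [neg_neg]; exact hwu
  have h6 := M.mul_mem h5 (M.inv_mem h3)
  rw [SS_inv hwnu, SS_mul hwuz hwu'] at h6
  have e5 : -u + (-d) • z + - -u = (-d) • z := by module
  have e6 : (-1 : F) + - -1 + ζ * f (-u + (-d) • z) (- -u) = d ^ 2 := by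
    simp only [neg_neg, sympForm_add_left, sympForm_neg_left, sympForm_self, sympForm_smul_left,
      sympForm_swap z u]
    linear_combination (-d) * hd
  rw [e5, e6] at h6
  -- `h6 : SS w (-d z) (d^2) ∈ M`; move `x`
  have hwdz : f w ((-d) • z) = 0 := by rw [sympForm_smul_right, hwz, mul_zero]
  have h7 : SS ζ x' p 0 ∈ M := hM _ (SS_mem_of_rat h hx' hp hx'p F₀.zero_mem)
  have hpx : ζ * f p x = -1 := by rw [sympForm_swap, mul_neg, hxp]
  have e7 : SS ζ x' p 0 • w = w + (-β) • x' := by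
    rw [SS_smul hx'p, form_eq_zero_comm.1 hwx', hw, sympForm_add_right, sympForm_smul_right,
      sympForm_smul_right, form_eq_zero_comm.1 hyp]
    have : ζ * (β * f p x + α * 0) = -β := by linear_combination β * hpx
    rw [this]
    module
  have e8 : SS ζ x' p 0 • ((-d) • z) = (-d) • z := by
    rw [smul_smul', SS_smul hx'p, form_eq_zero_comm.1 hzp, form_eq_zero_comm.1 hzx']
    module
  have h8 := M.mul_mem (M.mul_mem h7 h6) (M.inv_mem h7)
  rw [conj_SS _ hwdz, e7, e8] at h8
  have h9 := M.mul_mem h8 (M.inv_mem h6)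
  -- move `z`
  have h10 : SS ζ z' p' 0 ∈ M := hM _ (SS_mem_of_rat h hz' hp' hz'p' F₀.zero_mem)
  have hpz : ζ * f p' z = -1 := by rw [sympForm_swap, mul_neg, hzp']
  have e9 : SS ζ z' p' 0 • w = w := by
    rw [SS_smul hz'p', form_eq_zero_comm.1 hwz', hw, sympForm_add_right, sympForm_smul_right,
      sympForm_smul_right, form_eq_zero_comm.1 hyp', form_eq_zero_comm.1 hxp']
    module
  have e10 : SS ζ z' p' 0 • x' = x' := by
    rw [SS_smul hz'p', form_eq_zero_comm.1 hx'z', form_eq_zero_comm.1 hx'p']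
    module
  have e11 : SS ζ z' p' 0 • z = z + (-1 : F) • z' := by
    rw [SS_smul hz'p', hpz, form_eq_zero_comm.1 hzz']
    module
  have hxz2 : f x' z = 0 := form_eq_zero_comm.1 hzx'
  have hz2 : f (w + (-β) • x') ((-d) • z) = 0 := by
    rw [sympForm_add_left, hwdz, sympForm_smul_left, sympForm_smul_right, hxz2]
    ring
  have h11 := M.mul_mem (M.mul_mem h10 h9) (M.inv_mem h10)
  have e12 : SS ζ z' p' 0 * (SS ζ (w + (-β) • x') ((-d) • z) (d ^ 2) *
      (SS ζ w ((-d) • z) (d ^ 2))⁻¹) * (SS ζ z' p' 0)⁻¹ =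
      SS ζ (w + (-β) • x') ((-d) • (z + (-1 : F) • z')) (d ^ 2) *
      (SS ζ w ((-d) • (z + (-1 : F) • z')) (d ^ 2))⁻¹ := by
    have : ∀ a b c : G, a * (b * c⁻¹) * a⁻¹ = (a * b * a⁻¹) * (a * c * a⁻¹)⁻¹ := by
      intro a b c
      group
    rw [this, conj_SS _ hz2, conj_SS _ hwdz, smul_add', smul_smul', smul_smul', e9, e10, e11]
  rw [e12] at h11
  have h12 := M.mul_mem h11 (M.inv_mem h9)
  have hq : f w ((-d) • (z + (-1 : F) • z')) = 0 := by
    rw [sympForm_smul_right, sympForm_add_right, sympForm_smul_right, hwz, hwz']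
    ring
  have hq' : f (w + (-β) • x') ((-d) • (z + (-1 : F) • z')) = 0 := by
    rw [sympForm_add_left, hq, sympForm_smul_left, sympForm_smul_right, sympForm_add_right,
      sympForm_smul_right, hxz2, hx'z']
    ring
  have hfin : f x' ((d * (ζ * f u y)) • z') = 0 := by
    rw [sympForm_smul_right, hx'z', mul_zero]
  have e13 : SS ζ (w + (-β) • x') ((-d) • (z + (-1 : F) • z')) (d ^ 2) *
      (SS ζ w ((-d) • (z + (-1 : F) • z')) (d ^ 2))⁻¹ *
      (SS ζ (w + (-β) • x') ((-d) • z) (d ^ 2) * (SS ζ w ((-d) • z) (d ^ 2))⁻¹)⁻¹ =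
      SS ζ x' ((d * (ζ * f u y)) • z') 0 := by
    have hβ' : ζ * f u y = -β := by rw [hβ, sympForm_swap y u]; ring
    have hz'x' : f z' x' = 0 := form_eq_zero_comm.1 hx'z'
    have hz'w : f z' w = 0 := form_eq_zero_comm.1 hwz'
    have hz'z : f z' z = 0 := form_eq_zero_comm.1 hzz'
    have hx'w : f x' w = 0 := form_eq_zero_comm.1 hwx'
    rw [mul_inv_rev, inv_inv, SS_inv hq, SS_inv hz2]
    apply ext_smul
    intro v
    have hq2 : f w (-((-d) • (z + (-1 : F) • z'))) = 0 := by rw [sympForm_neg_right, hq, neg_zero]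
    have hz3 : f (w + (-β) • x') (-((-d) • z)) = 0 := by rw [sympForm_neg_right, hz2, neg_zero]
    rw [mul_smul, mul_smul, mul_smul, SS_smul hz3, SS_smul hwdz, SS_smul hq2, SS_smul hq',
      SS_smul hfin, hβ']
    simp only [sympForm_add_left, sympForm_add_right, sympForm_neg_left, sympForm_neg_right,
      sympForm_smul_left, sympForm_smul_right, sympForm_self, hwz, hwx', hwz', hzw, hxz2, hzx',
      hx'z', hz'x', hz'w, hz'z, hx'w, mul_zero, add_zero, neg_zero]
    module
  rw [e13] at h12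
  exact h12

end Cfsg.Agent.H875
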