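import Cfsg.Agent.H910.Elim
import Cfsg.Agent.H910.Weights

/-!
`L₂(r)`, `r` odd, is a subgroup of `Sp_4(F)`, `F` of characteristic two, only for `r = 3, 5, 9`
(task 104 for S5791).
-/

set_option autoImplicit false
open Cfsg
open scoped Matrix MatrixGroups

namespace Cfsg.Agent.H875.L2

open Cfsg.Agent.ClassicalGeometry.SympBasic Cfsg.Agent.H876 Cfsg.Agent.H910

section psl

variable {A : Type*} [Field A]

/-- Unipotent elements. -/
def uS (t : A) : Matrix.SpecialLinearGroup (Fin 2) A :=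
  ⟨!![1, t; 0, 1], by simp [Matrix.det_fin_two]⟩

/-- Diagonal elements. -/
def dS (l : Aˣ) : Matrix.SpecialLinearGroup (Fin 2) A :=
  ⟨!![(l : A), 0; 0, ((l⁻¹ : Aˣ) : A)], by simp [Matrix.det_fin_two]⟩

/-- A lower unipotent element. -/
def lS : Matrix.SpecialLinearGroup (Fin 2) A :=
  ⟨!![1, 0; 1, 1], by simp [Matrix.det_fin_two]⟩

theorem uS_add (s t : A) : uS (s + t) = uS s * uS t := by
  apply Subtype.ext
  rw [Matrix.SpecialLinearGroup.coe_mul]
  simp only [uS]
  ext i j
  fin_cases i <;> fin_cases j <;> simp [add_comm]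

theorem uS_conj (l : Aˣ) (t : A) : dS l * uS t = uS ((l : A) ^ 2 * t) * dS l := by
  apply Subtype.ext
  rw [Matrix.SpecialLinearGroup.coe_mul, Matrix.SpecialLinearGroup.coe_mul]
  simp only [uS, dS]
  ext i j
  fin_cases i <;> fin_cases j <;> simp
  field_simp

/-- `PSL` version. -/
def uP (t : A) : Matrix.ProjectiveSpecialLinearGroup (Fin 2) A := QuotientGroup.mk (uS t)

/-- `PSL` version. -/
def dP (l : Aˣ) : Matrix.ProjectiveSpecialLinearGroup (Fin 2) A := QuotientGroup.mk (dS l)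

theorem uP_add (s t : A) : uP (s + t) = uP s * uP t := by
  rw [uP, uS_add]; rfl

theorem uP_conj (l : Aˣ) (t : A) : dP l * uP t * (dP l)⁻¹ = uP ((l : A) ^ 2 * t) := by
  rw [mul_inv_eq_iff_eq_mul]
  change QuotientGroup.mk (dS l * uS t) = QuotientGroup.mk (uS _ * dS l)
  rw [uS_conj]

theorem uP_zero : uP (0 : A) = 1 := by
  have h := uP_add (0 : A) 0
  rw [add_zero] at h
  exact (mul_eq_left.1 h.symm)

theorem uP_eq_one {t : A} (h : uP t = 1) : t = 0 := by
  rw [uP, QuotientGroup.eq_one_iff, Subgroup.mem_center_iff] at h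
  have h1 := h lS
  have h2 : ((lS * uS t : Matrix.SpecialLinearGroup (Fin 2) A) : Matrix (Fin 2) (Fin 2) A) 1 1 =
    ((uS t * lS : Matrix.SpecialLinearGroup (Fin 2) A) : Matrix (Fin 2) (Fin 2) A) 1 1 := by rw [h1]
  rw [Matrix.SpecialLinearGroup.coe_mul, Matrix.SpecialLinearGroup.coe_mul] at h2
  simp only [uS, lS] at h2
  simpa using h2

theorem uP_pow (n : ℕ) (t : A) : uP t ^ n = uP ((n : A) * t) := by
  induction n with
  | zero => rw [pow_zero, Nat.cast_zero, zero_mul, uP_zero]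
  | succ n ih => rw [pow_succ, ih, ← uP_add, Nat.cast_succ, add_mul, one_mul]

end psl

/-- **Task 104.** -/
theorem l2_odd {F : Type*} [Field F] [CharP F 2] {G : Type*} [Group G]
    {f : G →* GL (Fin 2 ⊕ Fin 2) F}
    (hf : Function.Injective f) (hfs : ∀ g, f g ∈ spGL 2 F) {A : Type*} [Field A] [Finite A]
    (ho : Odd (Nat.card A)) (e : G ≃* Matrix.ProjectiveSpecialLinearGroup (Fin 2) A) :
    Nat.card A = 3 ∨ Nat.card A = 5 ∨ Nat.card A = 9 := by
  classical
  have := Fintype.ofFinite A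
  set r := Nat.card A with hr
  have hrF : Fintype.card A = r := by rw [hr, Nat.card_eq_fintype_card]
  have hr0 : (r : A) = 0 := by rw [← hrF]; exact Nat.cast_card_eq_zero A
  let u : A → G := fun t => e.symm (uP t)
  have hu_add : ∀ s t, u (s + t) = u s * u t := fun s t => by
    change e.symm _ = e.symm _ * e.symm _
    rw [uP_add, map_mul]
  have hu_pow : ∀ t, u t ^ r = 1 := fun t => by
    change e.symm _ ^ r = 1
    rw [← map_pow, uP_pow, hr0, zero_mul, uP_zero, map_one]
  have hu_comm : ∀ s t, u s * u t = u t * u s := fun s t => by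
    rw [← hu_add, ← hu_add, add_comm]
  have hu_one : ∀ t, u t = 1 → t = 0 := fun t h => by
    apply uP_eq_one
    have : e (u t) = e 1 := by rw [h]
    rwa [map_one, MulEquiv.apply_symm_apply] at this
  have hu_zero : u 0 = 1 := by
    change e.symm _ = 1
    rw [uP_zero, map_one]
  have hu_conj : ∀ (l : Aˣ) (t : A), e.symm (dP l) * u t * (e.symm (dP l))⁻¹ =
      u ((l : A) ^ 2 * t) := fun l t => by
    change _ * e.symm _ * _ = e.symm _
    rw [← map_mul, ← map_inv, ← map_mul, uP_conj]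
  -- the extension to the algebraic closure
  let K := AlgebraicClosure F
  let φ : F →+* K := algebraMap F K
  let X : A → Matrix (Fin 2 ⊕ Fin 2) (Fin 2 ⊕ Fin 2) K :=
    fun t => (f (u t) : Matrix _ _ F).map φ
  have hXdef : ∀ t, X t = (f (u t) : Matrix _ _ F).map φ := fun _ => rfl
  have hXmul : ∀ s t, X (s + t) = X s * X t := by
    intro s t
    rw [hXdef, hXdef, hXdef, ← Matrix.map_mul, ← Units.val_mul, ← map_mul, hu_add]
  have hXc : ∀ i j, X i * X j = X j * X i := by
    intro i j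
    rw [← hXmul, ← hXmul, add_comm]
  have hXn : ∀ i, X i ^ r = 1 := by
    intro i
    rw [hXdef, ← Matrix.map_pow, ← Units.val_pow_eq_pow_val, ← map_pow, hu_pow, map_one,
      Units.val_one, Matrix.map_one _ (map_zero _) (map_one _)]
  have hX0 : X 0 = 1 := by
    rw [hXdef, hu_zero, map_one, Units.val_one, Matrix.map_one _ (map_zero _) (map_one _)]
  have hrK : (r : K) ≠ 0 := by
    intro h0
    apply odd_ne_zero (F := F) ho
    apply φ.injective
    rw [map_natCast, h0, map_zero]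
  have hord : ∀ i, ∃ n : ℕ, (n : K) ≠ 0 ∧ X i ^ n = 1 := fun i => ⟨r, hrK, hXn i⟩
  -- a nontrivial weight
  obtain ⟨χ, hχ, hχ1⟩ : ∃ χ, wt X χ ≠ ⊥ ∧ χ 1 ≠ χ 0 := by
    by_contra hcon
    push Not at hcon
    have h1 : X 1 = X 0 := eq_of_wt hXc hord fun χ hχ => hcon χ hχ
    rw [hXdef, hXdef] at h1
    have h2 := Matrix.map_injective φ.injective h1
    have h3 : f (u 1) = f (u 0) := Units.ext h2
    have h4 := hf h3
    rw [hu_zero] at h4
    exact one_ne_zero (hu_one _ h4)
  obtain ⟨v, hv, hvX⟩ := exists_of_wt hχ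
  have hχmul : ∀ s t, χ (s + t) = χ s * χ t := by
    intro s t
    have h1 := hvX (s + t)
    rw [hXmul, ← Matrix.mulVec_mulVec, hvX, Matrix.mulVec_smul, hvX, smul_smul] at h1
    have h2 : (χ t * χ s - χ (s + t)) • v = 0 := by rw [sub_smul, h1, sub_self]
    have h3 := sub_eq_zero.1 ((smul_eq_zero.1 h2).resolve_right hv)
    rw [← h3, mul_comm]
  have hχ0 : χ 0 = 1 := by
    have h1 := hvX 0
    rw [hX0, Matrix.one_mulVec] at h1
    have h2 : (χ 0 - 1) • v = 0 := by rw [sub_smul, one_smul, ← h1, sub_self]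
    exact sub_eq_zero.1 ((smul_eq_zero.1 h2).resolve_right hv)
  -- the translates
  have htr : ∀ l : Aˣ, wt X (fun t => χ ((l : A) ^ 2 * t)) ≠ ⊥ := by
    intro l
    let D : Matrix (Fin 2 ⊕ Fin 2) (Fin 2 ⊕ Fin 2) K := (f (e.symm (dP l)) : Matrix _ _ F).map φ
    let D' : Matrix (Fin 2 ⊕ Fin 2) (Fin 2 ⊕ Fin 2) K :=
      (((f (e.symm (dP l)))⁻¹ : GL (Fin 2 ⊕ Fin 2) F) : Matrix _ _ F).map φ
    have hDD : D * D' = 1 := by
      change (f (e.symm (dP l)) : Matrix (Fin 2 ⊕ Fin 2) (Fin 2 ⊕ Fin 2) F).map φ * (((f (e.symm (dP l)))⁻¹ :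
        GL (Fin 2 ⊕ Fin 2) F) : Matrix (Fin 2 ⊕ Fin 2) (Fin 2 ⊕ Fin 2) F).map φ = 1
      rw [← Matrix.map_mul, ← Units.val_mul, mul_inv_cancel, Units.val_one,
        Matrix.map_one _ (map_zero _) (map_one _)]
    have hDX : ∀ t, X t * D' = D' * X ((l : A) ^ 2 * t) := by
      intro t
      change (f (u t) : Matrix (Fin 2 ⊕ Fin 2) (Fin 2 ⊕ Fin 2) F).map φ * (((f (e.symm (dP l)))⁻¹ :
        GL (Fin 2 ⊕ Fin 2) F) : Matrix (Fin 2 ⊕ Fin 2) (Fin 2 ⊕ Fin 2) F).map φ =
        (((f (e.symm (dP l)))⁻¹ : GL (Fin 2 ⊕ Fin 2) F) : Matrix (Fin 2 ⊕ Fin 2) (Fin 2 ⊕ Fin 2) F).map φ *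
        (f (u ((l : A) ^ 2 * t)) : Matrix (Fin 2 ⊕ Fin 2) (Fin 2 ⊕ Fin 2) F).map φ
      rw [← Matrix.map_mul, ← Matrix.map_mul, ← Units.val_mul, ← Units.val_mul, ← hu_conj,
        map_mul, map_mul, map_inv]
      congr 2
      group
    refine wt_ne_bot (v := D' *ᵥ v) ?_ ?_
    · intro h0
      apply hv
      have h2 : D *ᵥ (D' *ᵥ v) = D *ᵥ 0 := by rw [h0]
      rwa [Matrix.mulVec_mulVec, hDD, Matrix.one_mulVec, Matrix.mulVec_zero] at h2
    · intro t
      rw [Matrix.mulVec_mulVec, hDX, ← Matrix.mulVec_mulVec, hvX, Matrix.mulVec_smul]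
  -- counting
  let S : Finset A := (Finset.univ : Finset Aˣ).image fun l : Aˣ => (l : A) ^ 2
  have hS4 : S.card ≤ 4 := by
    have h1 := card_le_of_wt hXc hord (α := S) (fun a t => χ ((a : A) * t)) (by
      rintro ⟨a, ha⟩ ⟨b, hb⟩ hab
      apply Subtype.ext
      by_contra hne
      have hne' : a - b ≠ 0 := sub_ne_zero.2 hne
      have h1 := congrFun hab (a - b)⁻¹
      change χ (a * (a - b)⁻¹) = χ (b * (a - b)⁻¹) at h1
      have h3 : a * (a - b)⁻¹ = b * (a - b)⁻¹ + 1 := by
        field_simp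
        ring
      rw [h3, hχmul] at h1
      have h4 : χ (b * (a - b)⁻¹) ≠ 0 := by
        intro h5
        have h6 := hχmul (b * (a - b)⁻¹) (-(b * (a - b)⁻¹))
        rw [add_neg_cancel, hχ0, h5, zero_mul] at h6
        exact one_ne_zero h6
      apply hχ1
      rw [hχ0]
      exact mul_left_cancel₀ h4 (by rw [h1, mul_one])) (by
      rintro ⟨a, ha⟩
      obtain ⟨l, -, rfl⟩ := Finset.mem_image.1 ha
      exact htr l)
    rw [Fintype.card_coe, Fintype.card_sum, Fintype.card_fin] at h1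
    exact h1
  have hcard : r - 1 ≤ 2 * S.card := by
    have h1 := Finset.card_le_mul_card_image (s := (Finset.univ : Finset Aˣ))
      (f := fun l : Aˣ => (l : A) ^ 2) 2 (by
      intro b _
      by_cases hb : ∃ m : Aˣ, (m : A) ^ 2 = b
      · obtain ⟨m, hm⟩ := hb
        refine (Finset.card_le_card (t := {m, -m}) ?_).trans Finset.card_le_two
        intro l hl
        rw [Finset.mem_filter] at hl
        have h2 : (l : A) ^ 2 = (m : A) ^ 2 := by rw [hl.2, hm]
        rw [Finset.mem_insert, Finset.mem_singleton]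
        rcases sq_eq_sq_iff_eq_or_eq_neg.1 h2 with h3 | h3
        · exact Or.inl (Units.ext h3)
        · exact Or.inr (Units.ext (by rw [h3, Units.val_neg]))
      · rw [Finset.card_eq_zero.2]
        · exact Nat.zero_le _
        · rw [Finset.filter_eq_empty_iff]
          intro l _ hl
          exact hb ⟨l, hl⟩)
    rw [Finset.card_univ, Fintype.card_units, hrF] at h1
    exact h1
  have hr2 : 2 ≤ r := by rw [← hrF]; exact Fintype.one_lt_card
  have hr9 : r ≤ 9 := by omega
  have hr7 : r ≠ 7 := by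
    intro h7
    rw [h7] at hr0
    have h7' : (7 : A) = 0 := by exact_mod_cast hr0
    have h2ne : (2 : A) ≠ 0 := by
      intro h2
      apply one_ne_zero (α := A)
      linear_combination h7' - 3 * h2
    have h3ne : (3 : A) ≠ 0 := by
      intro h3
      apply one_ne_zero (α := A)
      linear_combination h7' - 2 * h3
    let l : Aˣ := Units.mk0 2 h2ne
    have hl : (l : A) = 2 := rfl
    have h1 := rot3 hf hfs ![u 1, u 4, u 2] (by
      intro i j
      fin_cases i <;> fin_cases j <;> exact hu_comm _ _) (n := 7) (by decide) (by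
      intro i
      fin_cases i
      · have := hu_pow 1; rwa [h7] at this
      · have := hu_pow 4; rwa [h7] at this
      · have := hu_pow 2; rwa [h7] at this) (e.symm (dP l)) (by
      intro i
      fin_cases i
      · change _ * u 1 * _ = u 4
        rw [hu_conj, hl]; congr 1; norm_num
      · change _ * u 4 * _ = u 2
        rw [hu_conj, hl]; congr 1; linear_combination 2 * h7'
      · change _ * u 2 * _ = u 1
        rw [hu_conj, hl]; congr 1; linear_combination h7')
    have h4 : u 1 = u 4 := h1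
    have h5 : u 3 = 1 := by
      have h6 : u (1 + 3) = u 1 * u 3 := hu_add 1 3
      have h8 : (1 : A) + 3 = 4 := by norm_num
      rw [h8, ← h4] at h6
      exact (mul_eq_left.1 h6.symm)
    exact h3ne (hu_one _ h5)
  obtain ⟨k, hk⟩ := ho
  omega

end Cfsg.Agent.H875.L2
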