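import Cfsg.Agent.H910.Elim
import Cfsg.Prelude.Def_Classical

/-!
`U₃(q)`, `q ≥ 4` even, is not a subgroup of `Sp_4(F)`, `F` of characteristic two
(task 103 for S5791).
-/

set_option autoImplicit false
open Cfsg
open scoped Matrix MatrixGroups

namespace Cfsg.Agent.H875.U3

open Cfsg.Agent.ClassicalGeometry.SympBasic Cfsg.Agent.H876 Cfsg.Agent.H910

variable {A : Type*} [Field A] {q : ℕ}

/-- Diagonal elements of `SU_3`. -/
def dU (a : Fin 3 → A) (h1 : a 0 * a 1 * a 2 = 1) (h2 : ∀ i, a i * a i ^ q = 1) : SU 3 A q :=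
  ⟨⟨Matrix.diagonal a, by rw [Matrix.det_diagonal, Fin.prod_univ_three, h1]⟩, by
    intro u v
    change hermForm 3 A q (Matrix.diagonal a *ᵥ u) (Matrix.diagonal a *ᵥ v) = hermForm 3 A q u v
    rw [hermForm, hermForm]
    refine Finset.sum_congr rfl fun i _ => ?_
    rw [Matrix.mulVec_diagonal, Matrix.mulVec_diagonal, mul_pow]
    linear_combination (u i * v i ^ q) * h2 i⟩

/-- The cyclic permutation. -/
def cU : SU 3 A q :=
  ⟨⟨!![0, 0, 1; 1, 0, 0; 0, 1, 0], by rw [Matrix.det_fin_three]; simp⟩, by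
    intro u v
    change hermForm 3 A q (!![0, 0, 1; 1, 0, 0; 0, 1, 0] *ᵥ u) (!![0, 0, 1; 1, 0, 0; 0, 1, 0] *ᵥ v)
      = hermForm 3 A q u v
    rw [hermForm, hermForm, Fin.sum_univ_three, Fin.sum_univ_three]
    simp [Matrix.mulVec, dotProduct, Fin.sum_univ_three]
    ring⟩

theorem ext_SU {x y : SU 3 A q} (h : (x.1.1 : Matrix (Fin 3) (Fin 3) A) = y.1.1) : x = y :=
  Subtype.ext (Subtype.ext h)

theorem mul_SU (x y : SU 3 A q) : (x * y).1.1 = x.1.1 * y.1.1 := rfl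

theorem cU_conj {a b : Fin 3 → A} (h1 : a 0 * a 1 * a 2 = 1) (h2 : ∀ i, a i * a i ^ q = 1)
    (h1' : b 0 * b 1 * b 2 = 1) (h2' : ∀ i, b i * b i ^ q = 1) (hb0 : b 0 = a 2) (hb1 : b 1 = a 0)
    (hb2 : b 2 = a 1) : cU * dU a h1 h2 * cU⁻¹ = dU b h1' h2' := by
  rw [mul_inv_eq_iff_eq_mul]
  apply ext_SU
  rw [mul_SU, mul_SU]
  change !![0, 0, 1; 1, 0, 0; 0, 1, 0] * Matrix.diagonal a =
    Matrix.diagonal b * !![0, 0, 1; 1, 0, 0; 0, 1, 0]
  ext i j
  rw [Matrix.mul_diagonal, Matrix.diagonal_mul]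
  fin_cases i <;> fin_cases j <;> simp [hb0, hb1, hb2]

theorem dU_mul {a b : Fin 3 → A} (h1 : a 0 * a 1 * a 2 = 1) (h2 : ∀ i, a i * a i ^ q = 1)
    (h1' : b 0 * b 1 * b 2 = 1) (h2' : ∀ i, b i * b i ^ q = 1) (h1'' : (a * b) 0 * (a * b) 1 * (a * b) 2 = 1)
    (h2'' : ∀ i, (a * b) i * (a * b) i ^ q = 1) :
    dU a h1 h2 * dU b h1' h2' = dU (a * b) h1'' h2'' := by
  apply ext_SU
  rw [mul_SU]
  change Matrix.diagonal a * Matrix.diagonal b = Matrix.diagonal (a * b)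
  rw [Matrix.diagonal_mul_diagonal]
  rfl

theorem dU_comm {a b : Fin 3 → A} (h1 : a 0 * a 1 * a 2 = 1) (h2 : ∀ i, a i * a i ^ q = 1)
    (h1' : b 0 * b 1 * b 2 = 1) (h2' : ∀ i, b i * b i ^ q = 1) :
    dU a h1 h2 * dU b h1' h2' = dU b h1' h2' * dU a h1 h2 := by
  apply ext_SU
  rw [mul_SU, mul_SU]
  change Matrix.diagonal a * Matrix.diagonal b = Matrix.diagonal b * Matrix.diagonal a
  rw [Matrix.diagonal_mul_diagonal, Matrix.diagonal_mul_diagonal]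
  congr 1
  funext i
  exact mul_comm _ _

theorem dU_pow {a : Fin 3 → A} (h1 : a 0 * a 1 * a 2 = 1) (h2 : ∀ i, a i * a i ^ q = 1) :
    (dU a h1 h2) ^ (q + 1) = 1 := by
  apply ext_SU
  have : ∀ n : ℕ, ((dU a h1 h2) ^ n).1.1 = Matrix.diagonal (a ^ n) := by
    intro n
    induction n with
    | zero =>
      rw [pow_zero, pow_zero]
      change (1 : Matrix (Fin 3) (Fin 3) A) = Matrix.diagonal 1
      exact Matrix.diagonal_one.symm
    | succ n ih =>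
      rw [pow_succ, mul_SU, ih]
      change Matrix.diagonal (a ^ n) * Matrix.diagonal a = _
      rw [Matrix.diagonal_mul_diagonal, pow_succ]
      rfl
  rw [this]
  change Matrix.diagonal (a ^ (q + 1)) = (1 : Matrix (Fin 3) (Fin 3) A)
  rw [← Matrix.diagonal_one]
  congr 1
  funext i
  change a i ^ (q + 1) = 1
  rw [pow_succ, mul_comm, h2]

/-- **Task 103.** -/
theorem no_u3 {F : Type*} [Field F] [CharP F 2] {G : Type*} [Group G]
    {f : G →* GL (Fin 2 ⊕ Fin 2) F}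
    (hf : Function.Injective f) (hfs : ∀ g, f g ∈ spGL 2 F) {A : Type*} [Field A] [Finite A]
    {q : ℕ} (hq : 4 ≤ q) (he : Even q)
    (hA : Nat.card A = q ^ 2) (e : G ≃* PSU 3 A q) : False := by
  classical
  have := Fintype.ofFinite A
  obtain ⟨s, hs, hs3⟩ : ∃ s : Aˣ, s ^ (q + 1) = 1 ∧ s ^ 3 ≠ 1 := by
    obtain ⟨g, hg⟩ := IsCyclic.exists_generator (α := Aˣ)
    have hord : orderOf g = q ^ 2 - 1 := by
      rw [orderOf_eq_card_of_forall_mem_zpowers hg, Nat.card_units, hA]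
    have h1 : q ^ 2 - 1 = (q + 1) * (q - 1) := by
      have := Nat.sq_sub_sq q 1
      simpa using this
    refine ⟨g ^ (q - 1), ?_, ?_⟩
    · rw [← pow_mul, mul_comm, ← h1, ← hord, pow_orderOf_eq_one]
    · intro h
      rw [← pow_mul] at h
      have h2 := orderOf_dvd_of_pow_eq_one h
      rw [hord, h1] at h2
      have h3 := Nat.le_of_dvd (by
        have : 0 < q - 1 := by omega
        omega) h2
      have h4 : 0 < q - 1 := by omega
      nlinarith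
  have hss : (s : A) ^ q * (s : A) = 1 := by
    have := congrArg (fun u : Aˣ => (u : A)) hs
    simp only [Units.val_one, pow_succ] at this
    exact this
  have hs0 : (s : A) ≠ 0 := s.ne_zero
  have hs2 : (s : A) * (s : A) ^ q = 1 := by rw [mul_comm]; exact hss
  have hs4 : (s : A)⁻¹ * ((s : A)⁻¹) ^ q = 1 := by
    rw [inv_pow, ← mul_inv, hs2, inv_one]
  let a0 : Fin 3 → A := ![(s : A), (s : A)⁻¹, 1]
  let a1 : Fin 3 → A := ![1, (s : A), (s : A)⁻¹]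
  let a2 : Fin 3 → A := ![(s : A)⁻¹, 1, (s : A)]
  have p0 : a0 0 * a0 1 * a0 2 = 1 := by
    change (s : A) * (s : A)⁻¹ * 1 = 1
    rw [mul_inv_cancel₀ hs0, one_mul]
  have p1 : a1 0 * a1 1 * a1 2 = 1 := by
    change 1 * (s : A) * (s : A)⁻¹ = 1
    rw [one_mul, mul_inv_cancel₀ hs0]
  have p2 : a2 0 * a2 1 * a2 2 = 1 := by
    change (s : A)⁻¹ * 1 * (s : A) = 1
    rw [mul_one, inv_mul_cancel₀ hs0]
  have m1 : (1 : A) * 1 ^ q = 1 := by rw [one_pow, one_mul]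
  have r0 : ∀ i, a0 i * a0 i ^ q = 1 := by
    intro i; fin_cases i
    · exact hs2
    · exact hs4
    · exact m1
  have r1 : ∀ i, a1 i * a1 i ^ q = 1 := by
    intro i; fin_cases i
    · exact m1
    · exact hs2
    · exact hs4
  have r2 : ∀ i, a2 i * a2 i ^ q = 1 := by
    intro i; fin_cases i
    · exact hs4
    · exact m1
    · exact hs2
  let φ : SU 3 A q →* G := e.symm.toMonoidHom.comp (QuotientGroup.mk' _)
  have c0 : (cU : SU 3 A q) * dU a0 p0 r0 * cU⁻¹ = dU a1 p1 r1 := cU_conj _ _ _ _ rfl rfl rfl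
  have c1 : (cU : SU 3 A q) * dU a1 p1 r1 * cU⁻¹ = dU a2 p2 r2 := cU_conj _ _ _ _ rfl rfl rfl
  have c2 : (cU : SU 3 A q) * dU a2 p2 r2 * cU⁻¹ = dU a0 p0 r0 := cU_conj _ _ _ _ rfl rfl rfl
  have h1 := rot3 hf hfs ![φ (dU a0 p0 r0), φ (dU a1 p1 r1), φ (dU a2 p2 r2)] (by
    intro i j
    fin_cases i <;> fin_cases j <;> first | rfl | (
      change φ _ * φ _ = φ _ * φ _
      rw [← map_mul, ← map_mul, dU_comm])) (n := q + 1) he.add_one (by
    intro i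
    fin_cases i <;> (
      change φ _ ^ (q + 1) = 1
      rw [← map_pow, dU_pow, map_one])) (φ cU) (by
    intro i
    fin_cases i
    · change φ _ * φ _ * (φ _)⁻¹ = φ _
      rw [← map_inv, ← map_mul, ← map_mul, c0]
    · change φ _ * φ _ * (φ _)⁻¹ = φ _
      rw [← map_inv, ← map_mul, ← map_mul, c1]
    · change φ _ * φ _ * (φ _)⁻¹ = φ _
      rw [← map_inv, ← map_mul, ← map_mul, c2])
  have h2 : φ (dU a0 p0 r0) = φ (dU a1 p1 r1) := h1
  have h3 : (QuotientGroup.mk (dU a0 p0 r0) : PSU 3 A q) = QuotientGroup.mk (dU a1 p1 r1) :=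
    e.symm.injective h2
  rw [QuotientGroup.eq, Subgroup.mem_center_iff] at h3
  have h4 := h3 cU
  have h5 : dU a0 p0 r0 * (cU * ((dU a0 p0 r0)⁻¹ * dU a1 p1 r1)) * cU⁻¹ =
      dU a0 p0 r0 * ((dU a0 p0 r0)⁻¹ * dU a1 p1 r1 * cU) * cU⁻¹ := by rw [h4]
  have h6 : (cU : SU 3 A q) * (dU a0 p0 r0)⁻¹ * cU⁻¹ = (dU a1 p1 r1)⁻¹ := by
    rw [← c0]; group
  have h7 : dU a0 p0 r0 * (dU a1 p1 r1)⁻¹ * dU a2 p2 r2 = dU a1 p1 r1 := by
    have e1 : dU a0 p0 r0 * (cU * ((dU a0 p0 r0)⁻¹ * dU a1 p1 r1)) * cU⁻¹ =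
        dU a0 p0 r0 * (cU * (dU a0 p0 r0)⁻¹ * cU⁻¹) * (cU * dU a1 p1 r1 * cU⁻¹) := by group
    rw [e1, h6, c1] at h5
    rw [h5]
    group
  have h8 : dU a0 p0 r0 * dU a2 p2 r2 = dU a1 p1 r1 * dU a1 p1 r1 := by
    rw [mul_assoc] at h7
    have e2 : (dU a1 p1 r1)⁻¹ * dU a2 p2 r2 = dU a2 p2 r2 * (dU a1 p1 r1)⁻¹ := by
      rw [inv_mul_eq_iff_eq_mul, ← mul_assoc, eq_mul_inv_iff_mul_eq, dU_comm]
    rw [e2, ← mul_assoc, mul_inv_eq_iff_eq_mul] at h7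
    exact h7
  have h9 := congrArg (fun x : SU 3 A q => x.1.1 1 1) h8
  change (Matrix.diagonal a0 * Matrix.diagonal a2) 1 1 =
    (Matrix.diagonal a1 * Matrix.diagonal a1) 1 1 at h9
  rw [Matrix.diagonal_mul_diagonal, Matrix.diagonal_mul_diagonal, Matrix.diagonal_apply_eq,
    Matrix.diagonal_apply_eq] at h9
  change (s : A)⁻¹ * 1 = (s : A) * (s : A) at h9
  apply hs3
  apply Units.ext
  rw [Units.val_pow_eq_pow_val, Units.val_one, pow_succ, pow_two, ← h9, mul_one,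
    inv_mul_cancel₀ hs0]

end Cfsg.Agent.H875.U3
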