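import Cfsg.Agent.H875.TenW

/-!
# Skew operators with scalar anticommutators

`W` with a non-degenerate symmetric bilinear form of dimension at least three having a singular
vector, characteristic not two. A set of operators closed under differences and conjugation by
isometries, any two members of which have a scalar anticommutator, contains no non-zero skew
operator.
-/

set_option autoImplicit false
set_option linter.unusedSimpArgs false

namespace Cfsg.Agent.H875.Ten

variable {F : Type*} [Field F] {W : Type*} [AddCommGroup W] [Module F W]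
variable {B : LinearMap.BilinForm F W}

/-- The reflection in `v`. -/
def rf (B : LinearMap.BilinForm F W) (v : W) : W →ₗ[F] W :=
  LinearMap.id - (2 / B v v) • rk B v v

theorem rf_apply (v w : W) : rf B v w = w - (2 / B v v) • B w v • v := rfl

theorem rf_isom (hB : SymB B) {v : W} (hv : B v v ≠ 0) (w w' : W) :
    B (rf B v w) (rf B v w') = B w w' := by
  simp only [rf_apply, map_sub, map_smul, LinearMap.sub_apply, LinearMap.smul_apply, smul_eq_mul,
    hB.symm v w']
  field_simp
  ring

theorem rf_rf {v : W} (hv : B v v ≠ 0) (w : W) : rf B v (rf B v w) = w := by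
  simp only [rf_apply, map_sub, map_smul, LinearMap.sub_apply, LinearMap.smul_apply, smul_eq_mul]
  match_scalars <;> field_simp <;> ring

/-- The operator `w ↦ B(w,s) z - B(w,z) s`. -/
def wd (B : LinearMap.BilinForm F W) (s z : W) : W →ₗ[F] W := rk B s z - rk B z s

theorem wd_apply (s z w : W) : wd B s z w = B w s • z - B w z • s := rfl

/-- A set of operators closed under differences and conjugation by isometries. -/
structure SkewSet (B : LinearMap.BilinForm F W) (Q : (W →ₗ[F] W) → Prop) : Prop where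
  sub : ∀ {K L}, Q K → Q L → Q (K - L)
  conj : ∀ (y y' : W →ₗ[F] W), (∀ w w', B (y w) (y w') = B w w') → (∀ w, y (y' w) = w) →
    (∀ w, y' (y w) = w) → ∀ {K}, Q K → Q (y ∘ₗ K ∘ₗ y')

variable {Q : (W →ₗ[F] W) → Prop}

theorem SkewSet.neg (hQ : SkewSet B Q) {K : W →ₗ[F] W} (hK : Q K) : Q (-K) := by
  have h0 : Q (K - K) := hQ.sub hK hK
  have := hQ.sub h0 hK
  rwa [sub_self, zero_sub] at this

theorem SkewSet.dd (h2 : (2 : F) ≠ 0) (hB : SymB B) (hQ : SkewSet B Q) {s a : W}
    (hs : B s s = 0) (ha : B a s = 0) {K : W →ₗ[F] W} (hK : Q K) : Q (dd B s a K) := by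
  apply hQ.sub _ hK
  have ha2 : B (-a) s = 0 := by rw [map_neg, LinearMap.neg_apply, ha, neg_zero]
  apply hQ.conj _ _ (Eg_isom h2 hB hs ha) (Eg_inv h2 hB hs ha) _ hK
  intro w
  have := Eg_inv h2 hB hs ha2 w
  rwa [neg_neg] at this

/-- Skew operators. -/
def Sk (B : LinearMap.BilinForm F W) (K : W →ₗ[F] W) : Prop := ∀ x y, B (K x) y = -B x (K y)

theorem Sk.dd (h2 : (2 : F) ≠ 0) (hB : SymB B) {s a : W} (hs : B s s = 0) (ha : B a s = 0)
    {K : W →ₗ[F] W} (hK : Sk B K) : Sk B (dd B s a K) := by
  intro x y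
  have ha2 : B (-a) s = 0 := by rw [map_neg, LinearMap.neg_apply, ha, neg_zero]
  have h1 : ∀ x y, B (Eg B s a x) y = B x (Eg B s (-a) y) := by
    intro x y
    have e := Eg_inv h2 hB hs ha y
    conv_lhs => rw [← e]
    rw [Eg_isom h2 hB hs ha]
  have h3 : ∀ x y, B (Eg B s (-a) x) y = B x (Eg B s a y) := by
    intro x y
    have e := Eg_inv h2 hB hs ha2 y
    rw [neg_neg] at e
    conv_lhs => rw [← e]
    rw [Eg_isom h2 hB hs ha2]
  rw [dd_apply, dd_apply, map_sub, LinearMap.sub_apply, map_sub, h1, hK, h3, hK x y]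
  ring

theorem dd_skew_eigen (h2 : (2 : F) ≠ 0) (hB : SymB B) {s a : W} (hs : B s s = 0)
    (ha : B a s = 0) {K : W →ₗ[F] W} (hK : Sk B K) {μ : F} (hKs : K s = μ • s) :
    dd B s a K = -wd B s (K a + μ • a) := by
  have ha' : B s a = 0 := by rw [hB.symm]; exact ha
  apply LinearMap.ext
  intro w
  have e1 : B (K w) s = -(μ * B w s) := by
    rw [hK, hKs, map_smul, smul_eq_mul]
  have e2 : B (K a) s = 0 := by
    rw [hK, hKs, map_smul, smul_eq_mul, ha, mul_zero, neg_zero]
  have e3 : B (K w) a = -B w (K a) := hK w a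
  have e4 : B (K a) a = 0 := by
    have h4 := hK a a
    rw [hB.symm a (K a)] at h4
    have : 2 * B (K a) a = 0 := by linear_combination h4
    exact (mul_eq_zero.1 this).resolve_left h2
  simp only [dd_apply, Eg_apply, wd_apply, map_add, map_sub, map_neg, map_smul,
    LinearMap.add_apply,
    LinearMap.sub_apply, LinearMap.neg_apply, LinearMap.smul_apply, smul_eq_mul, hs, ha, ha',
    hKs, rk_apply, e1, e2, e3, e4, mul_zero, neg_zero, add_zero, sub_zero, neg_neg,
    zero_smul, smul_zero, neg_mul, mul_neg]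
  match_scalars <;> field_simp <;> ring

/-- A non-singular vector orthogonal to a singular vector. -/
theorem exists_nonsing (h2 : (2 : F) ≠ 0) (hB : SymB B) [FiniteDimensional F W]
    (hdim : 3 ≤ Module.finrank F W) {s : W} (hs0 : s ≠ 0) (hs : B s s = 0) :
    ∃ a, B a s = 0 ∧ B a a ≠ 0 := by
  by_contra hcon
  push Not at hcon
  have h1 : ∀ a a', B a s = 0 → B a' s = 0 → B a a' = 0 := by
    intro a a' ha ha'
    have h3 := hcon (a + a') (by rw [map_add, LinearMap.add_apply, ha, ha', add_zero])
    simp only [map_add, LinearMap.add_apply] at h3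
    rw [hcon a ha, hcon a' ha', hB.symm a' a] at h3
    have : 2 * B a a' = 0 := by linear_combination h3
    exact (mul_eq_zero.1 this).resolve_left h2
  have h5 := LinearMap.finrank_range_add_finrank_ker (B.flip s)
  have h4 : Module.finrank F (LinearMap.range (B.flip s)) ≤ 1 := by
    calc _ ≤ Module.finrank F F := Submodule.finrank_le _
      _ = 1 := Module.finrank_self F
  have h7 : LinearMap.ker (B.flip s) ≤ Submodule.span F {s} := by
    intro a ha
    rw [LinearMap.mem_ker] at ha
    obtain ⟨c, hc⟩ := mem_line_of_orth hB hs0 (z := a) (fun a' ha' => h1 a' a ha' ha)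
    rw [hc]
    exact Submodule.smul_mem _ _ (Submodule.mem_span_singleton_self s)
  have h8 := Submodule.finrank_mono h7
  have h9 := finrank_span_le_card (R := F) ({s} : Set W)
  simp only [Set.toFinset_singleton, Finset.card_singleton] at h9
  omega

/-- From a skew operator having `s` as an eigenvector. -/
theorem exists_wd_of_eigen (h2 : (2 : F) ≠ 0) (hB : SymB B) [FiniteDimensional F W]
    (hdim : 3 ≤ Module.finrank F W) (hQ : SkewSet B Q) {s : W} (hs0 : s ≠ 0) (hs : B s s = 0)
    {K : W →ₗ[F] W} (hK : Sk B K) (hKQ : Q K) (hK0 : K ≠ 0) {μ : F} (hKs : K s = μ • s) :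
    ∃ z, B z s = 0 ∧ (∀ c : F, z ≠ c • s) ∧ Q (wd B s z) := by
  by_cases hex : ∃ a, B a s = 0 ∧ ∀ c : F, K a + μ • a ≠ c • s
  · obtain ⟨a, ha, hac⟩ := hex
    refine ⟨K a + μ • a, ?_, hac, ?_⟩
    · rw [map_add, map_smul, LinearMap.add_apply, LinearMap.smul_apply, ha, hK, hKs, map_smul,
        ha, smul_zero, neg_zero, add_zero]
    · have h1 := hQ.dd h2 hB hs ha hKQ
      rw [dd_skew_eigen h2 hB hs ha hK hKs] at h1
      have := hQ.neg h1
      rwa [neg_neg] at this
  · push Not at hex
    have hμ : μ = 0 := by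
      obtain ⟨a, ha, haa⟩ := exists_nonsing h2 hB hdim hs0 hs
      obtain ⟨c, hc⟩ := hex a ha
      have e1 := congrArg (fun x => B x a) hc
      simp only [map_add, map_smul, LinearMap.add_apply, LinearMap.smul_apply, smul_eq_mul,
        hB.symm s a, ha, mul_zero] at e1
      have e4 : B (K a) a = 0 := by
        have h4 := hK a a
        rw [hB.symm a (K a)] at h4
        have : 2 * B (K a) a = 0 := by linear_combination h4
        exact (mul_eq_zero.1 this).resolve_left h2
      rw [e4, zero_add] at e1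
      exact (mul_eq_zero.1 e1).resolve_right haa
    rw [hμ, zero_smul] at hKs
    obtain ⟨p, hp⟩ := exists_partner hB hs0
    have hsp : B s p = 1 := by rw [hB.symm]; exact hp
    have hns : B (K p) s = 0 := by rw [hK, hKs, map_zero, neg_zero]
    have hpn : B p (K p) = 0 := by
      have h4 := hK p p
      rw [hB.symm (K p) p] at h4
      have : 2 * B p (K p) = 0 := by linear_combination h4
      exact (mul_eq_zero.1 this).resolve_left h2
    have hKe : K = wd B s (K p) := by
      apply LinearMap.ext
      intro w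
      have hw : B (w - B w s • p) s = 0 := by
        rw [map_sub, map_smul, LinearMap.sub_apply, LinearMap.smul_apply, hp, smul_eq_mul, mul_one,
          sub_self]
      obtain ⟨c, hc⟩ := hex _ hw
      rw [hμ, zero_smul, add_zero] at hc
      have e1 := congrArg (fun x => B x p) hc
      simp only [map_smul, LinearMap.smul_apply, smul_eq_mul, hsp, mul_one] at e1
      rw [hK] at e1
      have e2 : K w = K (w - B w s • p) + B w s • K p := by
        rw [← map_smul, ← map_add, sub_add_cancel]
      rw [e2, hc, ← e1, wd_apply, map_sub, map_smul, LinearMap.sub_apply, LinearMap.smul_apply,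
        hpn]
      module
    refine ⟨K p, hns, ?_, by rw [← hKe]; exact hKQ⟩
    intro c hc
    apply hK0
    rw [hKe, hc]
    apply LinearMap.ext
    intro w
    rw [wd_apply, map_smul, LinearMap.zero_apply, smul_eq_mul]
    module

/-- From any non-zero skew operator. -/
theorem exists_wd (h2 : (2 : F) ≠ 0) (hB : SymB B) [FiniteDimensional F W]
    (hdim : 3 ≤ Module.finrank F W) (hQ : SkewSet B Q) {s : W} (hs0 : s ≠ 0) (hs : B s s = 0)
    {K : W →ₗ[F] W} (hK : Sk B K) (hKQ : Q K) (hK0 : K ≠ 0) :
    ∃ z, B z s = 0 ∧ (∀ c : F, z ≠ c • s) ∧ Q (wd B s z) := by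
  by_cases hex : ∃ μ : F, K s = μ • s
  · obtain ⟨μ, hμ⟩ := hex
    exact exists_wd_of_eigen h2 hB hdim hQ hs0 hs hK hKQ hK0 hμ
  · push Not at hex
    have hys : B (K s) s = 0 := by
      have h4 := hK s s
      rw [hB.symm s (K s)] at h4
      have : 2 * B (K s) s = 0 := by linear_combination h4
      exact (mul_eq_zero.1 this).resolve_left h2
    obtain ⟨a, ha, hya⟩ : ∃ a, B a s = 0 ∧ B a (K s) ≠ 0 := by
      by_contra hc
      push Not at hc
      obtain ⟨c, hc'⟩ := mem_line_of_orth hB hs0 hc
      exact hex c hc'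
    have e1 : dd B s a K s = (-(B (K s) a)) • s := by
      rw [dd_self hB hs ha, hys, zero_smul, zero_smul, smul_zero, zero_sub, sub_zero, neg_smul]
    refine exists_wd_of_eigen h2 hB hdim hQ hs0 hs (hK.dd h2 hB hs ha) (hQ.dd h2 hB hs ha hKQ)
      ?_ e1
    intro h0
    rw [h0, LinearMap.zero_apply] at e1
    rcases smul_eq_zero.1 e1.symm with h | h
    · apply hya
      rw [hB.symm]
      exact neg_eq_zero.1 h
    · exact hs0 h

/-- **No skew operators.** -/
theorem skew_eq_zero (h2 : (2 : F) ≠ 0) (hB : SymB B) [FiniteDimensional F W]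
    (hdim : 3 ≤ Module.finrank F W) (hQ : SkewSet B Q)
    (hcomm : ∀ K L, Q K → Q L → Sk B K → Sk B L → ∃ c : F, K ∘ₗ L + L ∘ₗ K = c • LinearMap.id)
    {s : W} (hs0 : s ≠ 0) (hs : B s s = 0) {K : W →ₗ[F] W} (hK : Sk B K) (hKQ : Q K) : K = 0 := by
  by_contra hK0
  obtain ⟨z, hzs, hzc, hz⟩ := exists_wd h2 hB hdim hQ hs0 hs hK hKQ hK0
  have hsk : ∀ z, Sk B (wd B s z) := by
    intro z x y
    simp only [wd_apply, map_sub, map_smul, LinearMap.sub_apply, LinearMap.smul_apply, smul_eq_mul,
      hB.symm z y, hB.symm s y]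
    ring
  obtain ⟨z', hz's, hzz', hz'⟩ : ∃ z', B z' s = 0 ∧ B z z' ≠ 0 ∧ Q (wd B s z') := by
    by_cases hzz : B z z = 0
    · obtain ⟨v, hvs, hvz, hvv⟩ : ∃ v, B v s = 0 ∧ B v z ≠ 0 ∧ B v v ≠ 0 := by
        obtain ⟨v, hvs, hvz⟩ : ∃ v, B v s = 0 ∧ B v z ≠ 0 := by
          by_contra hc
          push Not at hc
          obtain ⟨c, hc'⟩ := mem_line_of_orth hB hs0 hc
          exact hzc c hc'
        by_cases hvv : B v v = 0
        · refine ⟨v + z, ?_, ?_, ?_⟩
          · rw [map_add, LinearMap.add_apply, hvs, hzs, add_zero]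
          · rwa [map_add, LinearMap.add_apply, hzz, add_zero]
          · simp only [map_add, LinearMap.add_apply, hvv, hzz, hB.symm z v, zero_add, add_zero]
            rw [← two_mul]
            exact mul_ne_zero h2 hvz
        · exact ⟨v, hvs, hvz, hvv⟩
      have h1 := hQ.conj (rf B v) (rf B v) (rf_isom hB hvv) (rf_rf hvv) (rf_rf hvv) hz
      have hsv : B s v = 0 := by rw [hB.symm]; exact hvs
      have hzv : B z v = B v z := hB.symm z v
      have e : rf B v ∘ₗ wd B s z ∘ₗ rf B v = wd B s (rf B v z) := by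
        apply LinearMap.ext
        intro w
        simp only [LinearMap.comp_apply, rf_apply, wd_apply, map_sub, map_smul,
          LinearMap.sub_apply, LinearMap.smul_apply, smul_eq_mul, hvs, hsv, hzv, mul_zero, sub_zero,
          zero_smul, smul_zero, map_zero, LinearMap.zero_apply]
        module
      rw [e] at h1
      refine ⟨rf B v z, ?_, ?_, h1⟩
      · rw [rf_apply, map_sub, map_smul, map_smul, LinearMap.sub_apply, LinearMap.smul_apply,
          LinearMap.smul_apply, hvs, hzs, smul_zero, smul_zero, sub_zero]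
      · rw [rf_apply, map_sub, map_smul, map_smul, hzz, hzv, zero_sub]
        apply neg_ne_zero.2
        rw [smul_eq_mul, smul_eq_mul]
        exact mul_ne_zero (div_ne_zero h2 hvv) (mul_ne_zero hvz hvz)
    · exact ⟨z, hzs, hzz, hz⟩
  obtain ⟨c, hc⟩ := hcomm _ _ hz hz' (hsk z) (hsk z')
  have hsz : B s z = 0 := by rw [hB.symm]; exact hzs
  have hsz' : B s z' = 0 := by rw [hB.symm]; exact hz's
  obtain ⟨p, hp⟩ := exists_partner hB hs0
  have h1 := congrArg (fun L : W →ₗ[F] W => L s) hc
  simp only [LinearMap.add_apply, LinearMap.comp_apply, wd_apply, hs, hsz, hsz', zero_smul,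
    sub_self, map_zero, add_zero, LinearMap.zero_apply, LinearMap.smul_apply,
    LinearMap.id_apply] at h1
  have hc0 : c = 0 := by
    rcases smul_eq_zero.1 h1.symm with h | h
    · exact h
    · exact absurd h hs0
  have h3 := congrArg (fun L : W →ₗ[F] W => L p) hc
  simp only [LinearMap.add_apply, LinearMap.comp_apply, wd_apply, map_sub, map_smul, hs, hsz, hsz',
    hp, hzs, hz's, hB.symm z' z, hc0, LinearMap.sub_apply, LinearMap.smul_apply, smul_eq_mul,
    LinearMap.id_apply, mul_zero, zero_smul, sub_zero, zero_sub, mul_one, one_smul,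
    smul_zero] at h3
  have h4 : (2 * B z z') • s = 0 := by
    have : (2 * B z z') • s = -(-(B z z' • s) + -(B z z' • s)) := by module
    rw [this]
    have e : -(B z z' • s) + -(B z z' • s) = 0 := h3
    rw [e, neg_zero]
  rcases smul_eq_zero.1 h4 with h | h
  · exact mul_ne_zero h2 hzz' h
  · exact hs0 h

end Cfsg.Agent.H875.Ten
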