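import Cfsg.Agent.H875.SpMcL
import Cfsg.Agent.H875.TenSkew

/-!
# Tensor structures on the symplectic space

`V = F^{2m}` with its alternating form is identified through `Θ` with `U ⊗ W`, `U` with a
non-degenerate alternating form `A`, `W` with a non-degenerate symmetric form `B`.
`ct x : V → W` is the contraction `u ⊗ w ↦ A(u,x) w`.
-/

set_option autoImplicit false
set_option linter.unusedSimpArgs false
open Cfsg
open scoped Matrix TensorProduct
open Cfsg.Agent.ClassicalGeometry.SympBasic Cfsg.Agent.ClassicalGeometry.SympSiegel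

namespace Cfsg.Agent.H875.Ten

variable {F : Type*} [Field F] {m : ℕ}

local notation "V" => (Fin m ⊕ Fin m → F)
local notation "G" => Matrix.symplecticGroup (Fin m) F
local notation "f" => sympForm m F

variable {U W : Type*} [AddCommGroup U] [Module F U] [AddCommGroup W] [Module F W]

/-- A tensor structure. -/
structure TS (A : LinearMap.BilinForm F U) (B : LinearMap.BilinForm F W)
    (Θ : U ⊗[F] W ≃ₗ[F] (Fin m ⊕ Fin m → F)) : Prop where
  alt : ∀ u, A u u = 0
  ndA : ∀ u, (∀ u', A u u' = 0) → u = 0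
  symB : SymB B
  form : ∀ u w u' w', sympForm m F (Θ (u ⊗ₜ w)) (Θ (u' ⊗ₜ w')) = A u u' * B w w'

/-- Pure tensors. -/
def tn (Θ : U ⊗[F] W ≃ₗ[F] (Fin m ⊕ Fin m → F)) (u : U) (w : W) : Fin m ⊕ Fin m → F :=
  Θ (u ⊗ₜ w)

/-- `a ⊗ b`. -/
noncomputable def opT (Θ : U ⊗[F] W ≃ₗ[F] (Fin m ⊕ Fin m → F)) (a : U →ₗ[F] U) (b : W →ₗ[F] W) :
    (Fin m ⊕ Fin m → F) →ₗ[F] (Fin m ⊕ Fin m → F) :=
  Θ.toLinearMap ∘ₗ TensorProduct.map a b ∘ₗ Θ.symm.toLinearMap

/-- The contraction `u ⊗ w ↦ A(u,x) w`. -/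
noncomputable def ct (Θ : U ⊗[F] W ≃ₗ[F] (Fin m ⊕ Fin m → F)) (A : LinearMap.BilinForm F U)
    (x : U) : (Fin m ⊕ Fin m → F) →ₗ[F] W :=
  (TensorProduct.lid F W).toLinearMap ∘ₗ TensorProduct.map (A.flip x) LinearMap.id ∘ₗ
    Θ.symm.toLinearMap

variable {A : LinearMap.BilinForm F U} {B : LinearMap.BilinForm F W}
  {Θ : U ⊗[F] W ≃ₗ[F] (Fin m ⊕ Fin m → F)}

theorem tn_add_left (u u' : U) (w : W) : tn Θ (u + u') w = tn Θ u w + tn Θ u' w := by
  rw [tn, tn, tn, TensorProduct.add_tmul, map_add]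

theorem tn_add_right (u : U) (w w' : W) : tn Θ u (w + w') = tn Θ u w + tn Θ u w' := by
  rw [tn, tn, tn, TensorProduct.tmul_add, map_add]

theorem tn_smul_left (c : F) (u : U) (w : W) : tn Θ (c • u) w = c • tn Θ u w := by
  rw [tn, tn, ← TensorProduct.smul_tmul', map_smul]

theorem tn_smul_right (c : F) (u : U) (w : W) : tn Θ u (c • w) = c • tn Θ u w := by
  rw [tn, tn, TensorProduct.tmul_smul, map_smul]

theorem tn_zero_left (w : W) : tn Θ 0 w = 0 := by
  rw [tn, TensorProduct.zero_tmul, map_zero]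

theorem tn_zero_right (u : U) : tn Θ u 0 = 0 := by
  rw [tn, TensorProduct.tmul_zero, map_zero]

theorem tn_neg_left (u : U) (w : W) : tn Θ (-u) w = -tn Θ u w := by
  rw [← neg_one_smul F u, tn_smul_left, neg_one_smul]

theorem tn_neg_right (u : U) (w : W) : tn Θ u (-w) = -tn Θ u w := by
  rw [← neg_one_smul F w, tn_smul_right, neg_one_smul]

theorem tn_sub_left (u u' : U) (w : W) : tn Θ (u - u') w = tn Θ u w - tn Θ u' w := by
  rw [sub_eq_add_neg, tn_add_left, tn_neg_left, sub_eq_add_neg]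

theorem tn_sub_right (u : U) (w w' : W) : tn Θ u (w - w') = tn Θ u w - tn Θ u w' := by
  rw [sub_eq_add_neg, tn_add_right, tn_neg_right, sub_eq_add_neg]

theorem opT_tn (a : U →ₗ[F] U) (b : W →ₗ[F] W) (u : U) (w : W) :
    opT Θ a b (tn Θ u w) = tn Θ (a u) (b w) := by
  simp [opT, tn]

theorem ct_tn (x u : U) (w : W) : ct Θ A x (tn Θ u w) = A u x • w := by
  simp [ct, tn]

theorem ext_tn {X : Type*} [AddCommGroup X] [Module F X] {L L' : V →ₗ[F] X}
    (h : ∀ u w, L (tn Θ u w) = L' (tn Θ u w)) : L = L' := by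
  have h1 : L ∘ₗ Θ.toLinearMap = L' ∘ₗ Θ.toLinearMap := TensorProduct.ext' fun u w => h u w
  apply LinearMap.ext
  intro v
  have h2 := congrArg (fun K : U ⊗[F] W →ₗ[F] X => K (Θ.symm v)) h1
  simpa using h2

theorem tn_induction {P : V → Prop} (h0 : P 0) (h1 : ∀ u w, P (tn Θ u w))
    (h2 : ∀ x y, P x → P y → P (x + y)) (v : V) : P v := by
  have h3 : ∀ x : U ⊗[F] W, P (Θ x) := by
    intro x
    induction x using TensorProduct.induction_on with
    | zero => rw [map_zero]; exact h0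
    | tmul u w => exact h1 u w
    | add x y hx hy => rw [map_add]; exact h2 _ _ hx hy
  have := h3 (Θ.symm v)
  rwa [LinearEquiv.apply_symm_apply] at this

theorem TS.swap (h : TS A B Θ) (u u' : U) : A u u' = -A u' u := by
  have h1 := h.alt (u + u')
  simp only [map_add, LinearMap.add_apply, h.alt, zero_add, add_zero] at h1
  linear_combination h1

theorem TS.form' (h : TS A B Θ) (u : U) (w : W) (u' : U) (w' : W) :
    f (tn Θ u w) (tn Θ u' w') = A u u' * B w w' := h.form u w u' w'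

theorem TS.form_ct (h : TS A B Θ) (v : V) (x : U) (w : W) :
    f v (tn Θ x w) = B (ct Θ A x v) w := by
  refine tn_induction (Θ := Θ) (P := fun v => f v (tn Θ x w) = B (ct Θ A x v) w) ?_ ?_ ?_ v
  · rw [sympForm_zero_left, map_zero, map_zero, LinearMap.zero_apply]
  · intro u w'
    rw [h.form', ct_tn, map_smul, LinearMap.smul_apply, smul_eq_mul]
  · intro a b ha hb
    rw [sympForm_add_left, ha, hb, map_add, map_add, LinearMap.add_apply]

theorem TS.form_ct' (h : TS A B Θ) (v : V) (x : U) (w : W) :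
    f (tn Θ x w) v = -B (ct Θ A x v) w := by
  rw [sympForm_swap, h.form_ct]

/-- Equality in `W` through the form. -/
theorem TS.extW (h : TS A B Θ) {w w' : W} (hw : ∀ x, B w x = B w' x) : w = w' := by
  have : w - w' = 0 := h.symB.nd _ fun y => by
    rw [map_sub, LinearMap.sub_apply, hw, sub_self]
  exact sub_eq_zero.1 this

theorem TS.extV (h : TS A B Θ) {v v' : V} (hv : ∀ x, ct Θ A x v = ct Θ A x v') : v = v' := by
  have h1 : v - v' = 0 := by
    apply eq_zero_of_forall_sympForm_right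
    intro w
    refine tn_induction (Θ := Θ) (P := fun w => f (v - v') w = 0) ?_ ?_ ?_ w
    · exact sympForm_zero_right _
    · intro u w'
      rw [h.form_ct, map_sub, hv, sub_self, map_zero, LinearMap.zero_apply]
    · intro a b ha hb
      rw [sympForm_add_right, ha, hb, add_zero]
  exact sub_eq_zero.1 h1

theorem ct_add (x y : U) (v : V) : ct Θ A (x + y) v = ct Θ A x v + ct Θ A y v := by
  refine tn_induction (Θ := Θ)
    (P := fun v => ct Θ A (x + y) v = ct Θ A x v + ct Θ A y v) ?_ ?_ ?_ v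
  · simp
  · intro u w
    rw [ct_tn, ct_tn, ct_tn, map_add, add_smul]
  · intro a b ha hb
    rw [map_add, ha, hb, map_add, map_add]
    abel

theorem ct_smul (c : F) (x : U) (v : V) : ct Θ A (c • x) v = c • ct Θ A x v := by
  refine tn_induction (Θ := Θ)
    (P := fun v => ct Θ A (c • x) v = c • ct Θ A x v) ?_ ?_ ?_ v
  · simp
  · intro u w
    rw [ct_tn, ct_tn, map_smul, smul_eq_mul, mul_smul]
  · intro a b ha hb
    rw [map_add, ha, hb, map_add, smul_add]

theorem ct_neg (x : U) (v : V) : ct Θ A (-x) v = -ct Θ A x v := by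
  rw [← neg_one_smul F x, ct_smul, neg_one_smul]

theorem ct_sub (x y : U) (v : V) : ct Θ A (x - y) v = ct Θ A x v - ct Θ A y v := by
  rw [sub_eq_add_neg, ct_add, ct_neg, sub_eq_add_neg]

theorem ct_zero (v : V) : ct Θ A 0 v = 0 := by
  have := ct_smul (Θ := Θ) (A := A) 0 0 v
  rwa [zero_smul, zero_smul] at this

/-- Isometries can be checked on pure tensors. -/
theorem isom_of_tn {L : V →ₗ[F] V}
    (hL : ∀ u w u' w', f (L (tn Θ u w)) (L (tn Θ u' w')) = f (tn Θ u w) (tn Θ u' w')) :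
    ∀ v v', f (L v) (L v') = f v v' := by
  intro v v'
  refine tn_induction (Θ := Θ) (P := fun v => f (L v) (L v') = f v v') ?_ ?_ ?_ v
  · rw [map_zero, sympForm_zero_left, sympForm_zero_left]
  · intro u w
    refine tn_induction (Θ := Θ)
      (P := fun v' => f (L (tn Θ u w)) (L v') = f (tn Θ u w) v') ?_ ?_ ?_ v'
    · rw [map_zero, sympForm_zero_right, sympForm_zero_right]
    · exact hL u w
    · intro a b ha hb
      rw [map_add, sympForm_add_right, sympForm_add_right, ha, hb]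
  · intro a b ha hb
    rw [map_add, sympForm_add_left, sympForm_add_left, ha, hb]

/-- The elements respecting the tensor structure. -/
def InH (Θ : U ⊗[F] W ≃ₗ[F] (Fin m ⊕ Fin m → F)) (g : Matrix.symplecticGroup (Fin m) F) : Prop :=
  ∃ (a : U →ₗ[F] U) (b : W →ₗ[F] W), ∀ u w, g • tn Θ u w = tn Θ (a u) (b w)

theorem InH.mul {g g' : G} (h : InH Θ g) (h' : InH Θ g') : InH Θ (g * g') := by
  obtain ⟨a, b, h⟩ := h
  obtain ⟨a', b', h'⟩ := h'
  exact ⟨a ∘ₗ a', b ∘ₗ b', fun u w => by rw [mul_smul, h', h]; rfl⟩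

/-- Elements of the symplectic group from pairs of operators. -/
theorem TS.exists_of (h : TS A B Θ) (a : U →ₗ[F] U) (b : W →ₗ[F] W)
    (hab : ∀ u w u' w', A (a u) (a u') * B (b w) (b w') = A u u' * B w w') :
    ∃ g : G, ∀ u w, g • tn Θ u w = tn Θ (a u) (b w) := by
  refine ⟨ofIso (opT Θ a b) (isom_of_tn (Θ := Θ) fun u w u' w' => ?_), fun u w => ?_⟩
  · rw [opT_tn, opT_tn, h.form', h.form', hab]
  · rw [ofIso_smul, opT_tn]

/-- `g` is determined on all vectors by pure tensors. -/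
theorem smul_eq_of_tn {g : G} {L : V →ₗ[F] V} (h : ∀ u w, g • tn Θ u w = L (tn Θ u w)) (v : V) :
    g • v = L v := by
  refine tn_induction (Θ := Θ) (P := fun v => g • v = L v) ?_ h ?_ v
  · rw [map_zero, smul_zero]
  · intro a b ha hb
    rw [smul_add', ha, hb, map_add]

/-- The linear map `v ↦ x ⊗ S (ct y v)`. -/
noncomputable def nq (Θ : U ⊗[F] W ≃ₗ[F] (Fin m ⊕ Fin m → F)) (A : LinearMap.BilinForm F U)
    (x y : U) (S : W →ₗ[F] W) : (Fin m ⊕ Fin m → F) →ₗ[F] (Fin m ⊕ Fin m → F) :=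
  { toFun := fun v => tn Θ x (S (ct Θ A y v))
    map_add' := fun v v' => by rw [map_add, map_add, tn_add_right]
    map_smul' := fun c v => by rw [map_smul, map_smul, tn_smul_right, RingHom.id_apply] }

theorem nq_apply (x y : U) (S : W →ₗ[F] W) (v : V) :
    nq Θ A x y S v = tn Θ x (S (ct Θ A y v)) := rfl

/-- The transvections `t_x(c) ⊗ 1`. -/
theorem TS.exists_tU (h : TS A B Θ) (x : U) (c : F) :
    ∃ g : G, InH Θ g ∧ ∀ v, g • v = v + c • tn Θ x (ct Θ A x v) := by
  obtain ⟨g, hg⟩ := h.exists_of (LinearMap.id + c • rk A x x)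
    LinearMap.id (by
      intro u w u' w'
      simp only [LinearMap.add_apply, LinearMap.id_apply, LinearMap.smul_apply,
        rk_apply, map_add, map_smul, smul_eq_mul, h.alt,
        h.swap x u']
      ring)
  refine ⟨g, ⟨_, _, hg⟩, ?_⟩
  intro v
  have h1 := smul_eq_of_tn (g := g) (Θ := Θ)
    (L := LinearMap.id + c • nq Θ A x x LinearMap.id) (by
      intro u w
      simp only [hg, LinearMap.add_apply, LinearMap.id_apply, LinearMap.smul_apply, nq_apply,
        ct_tn, rk_apply, tn_add_left, tn_smul_left, tn_smul_right]) v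
  rw [h1]
  rfl

/-- The Siegel elements `E(x,y) ⊗ 1`. -/
theorem TS.exists_eU (h : TS A B Θ) {x y : U} (hxy : A x y = 0) :
    ∃ g : G, InH Θ g ∧ ∀ v, g • v = v + tn Θ y (ct Θ A x v) + tn Θ x (ct Θ A y v) := by
  have hyx : A y x = 0 := by rw [h.swap, hxy, neg_zero]
  obtain ⟨g, hg⟩ := h.exists_of
    (LinearMap.id + rk A x y + rk A y x)
    LinearMap.id (by
      intro u w u' w'
      simp only [LinearMap.add_apply, LinearMap.id_apply, LinearMap.smul_apply,
        rk_apply, map_add, map_smul, smul_eq_mul, h.alt,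
        h.swap x u', h.swap y u', hxy, hyx]
      ring)
  refine ⟨g, ⟨_, _, hg⟩, ?_⟩
  intro v
  have h1 := smul_eq_of_tn (g := g) (Θ := Θ)
    (L := LinearMap.id + nq Θ A y x LinearMap.id + nq Θ A x y LinearMap.id) (by
      intro u w
      simp only [hg, LinearMap.add_apply, LinearMap.id_apply, LinearMap.smul_apply, nq_apply,
        ct_tn, rk_apply, tn_add_left, tn_smul_left, tn_smul_right]) v
  rw [h1]
  rfl

/-- The elements `1 ⊗ y`. -/
theorem TS.exists_W (h : TS A B Θ) {y : W →ₗ[F] W} (hy : ∀ w w', B (y w) (y w') = B w w') :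
    ∃ g : G, InH Θ g ∧ ∀ u w, g • tn Θ u w = tn Θ u (y w) := by
  obtain ⟨g, hg⟩ := h.exists_of LinearMap.id y (by
    intro u w u' w'
    rw [hy]
    rfl)
  exact ⟨g, ⟨_, _, hg⟩, hg⟩

/-- The elements `a ⊗ 1`. -/
theorem TS.exists_U (h : TS A B Θ) {a : U →ₗ[F] U} (ha : ∀ u u', A (a u) (a u') = A u u') :
    ∃ g : G, InH Θ g ∧ ∀ u w, g • tn Θ u w = tn Θ (a u) w := by
  obtain ⟨g, hg⟩ := h.exists_of a LinearMap.id (by
    intro u w u' w'
    rw [ha]
    rfl)
  exact ⟨g, ⟨_, _, hg⟩, hg⟩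

/-- Transitivity of the isometries of `U` on non-zero vectors. -/
theorem TS.exists_isom (h : TS A B Θ) {x x' : U} (hx : x ≠ 0) (hx' : x' ≠ 0) :
    ∃ a : U →ₗ[F] U, (∀ u u', A (a u) (a u') = A u u') ∧ a x = x' := by
  have step : ∀ x x' : U, A x x' ≠ 0 →
      ∃ a : U →ₗ[F] U, (∀ u u', A (a u) (a u') = A u u') ∧ a x = x' := by
    intro x x' hxx'
    refine ⟨LinearMap.id + (A x x')⁻¹ • rk A (x' - x) (x' - x),
      ?_, ?_⟩
    · intro u u'
      simp only [LinearMap.add_apply, LinearMap.id_apply, LinearMap.smul_apply,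
        rk_apply, map_add, map_smul, smul_eq_mul,
        map_sub, LinearMap.sub_apply, h.alt, h.swap x u', h.swap x' u', h.swap x' x]
      ring
    · simp only [LinearMap.add_apply, LinearMap.id_apply, LinearMap.smul_apply,
        rk_apply, map_sub, h.alt, sub_zero]
      rw [smul_smul, inv_mul_cancel₀ hxx', one_smul]
      abel
  obtain ⟨y, hy⟩ : ∃ y, A x y ≠ 0 := by
    by_contra hc
    push Not at hc
    exact hx (h.ndA x hc)
  obtain ⟨y', hy'⟩ : ∃ y, A x' y ≠ 0 := by
    by_contra hc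
    push Not at hc
    exact hx' (h.ndA x' hc)
  obtain ⟨z, hz, hz'⟩ : ∃ z, A x z ≠ 0 ∧ A x' z ≠ 0 := by
    by_cases h1 : A x' y = 0
    · by_cases h3 : A x y' = 0
      · refine ⟨y + y', ?_, ?_⟩
        · rwa [map_add, h3, add_zero]
        · rwa [map_add, h1, zero_add]
      · exact ⟨y', h3, hy'⟩
    · exact ⟨y, hy, h1⟩
  obtain ⟨a, ha, hax⟩ := step x z hz
  obtain ⟨a', ha', haz⟩ := step z x' (by rw [h.swap]; exact neg_ne_zero.2 hz')
  exact ⟨a' ∘ₗ a, fun u u' => by rw [LinearMap.comp_apply, LinearMap.comp_apply, ha', ha],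
    by rw [LinearMap.comp_apply, hax, haz]⟩

/-- Transport of contractions. -/
theorem TS.ct_inv (h : TS A B Θ) {g : G} {x x' : U} {y : W → W}
    (hg : ∀ w, g • tn Θ x w = tn Θ x' (y w)) (v : V) (w : W) :
    B (ct Θ A x (g⁻¹ • v)) w = B (ct Θ A x' v) (y w) := by
  rw [← h.form_ct, ← h.form_ct, ← hg, ← form_smul g, smul_inv_smul]

end Cfsg.Agent.H875.Ten
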