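import Cfsg.Agent.H875.TenBase

/-!
# Overgroups of `Sp(U) ⊗ O(W)`: elements `1 + x ⊗ S ct_x`

If `M` contains the stabiliser of the tensor structure then either every element
`v ↦ v + x ⊗ S (ct_x v)` of `M` has `S` scalar or `M` is the symplectic group.
-/

set_option autoImplicit false
set_option linter.unusedSimpArgs false
open Cfsg
open scoped Matrix TensorProduct
open Cfsg.Agent.ClassicalGeometry.SympBasic Cfsg.Agent.ClassicalGeometry.SympSiegel

namespace Cfsg.Agent.H875.Ten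

variable {F : Type*} [Field F] {m : ℕ}

local notation "V" => (Fin m ⊕ Fin m → F)
local notation "G" => Matrix.symplecticGroup (Fin m) F
local notation "f" => sympForm m F

variable {U W : Type*} [AddCommGroup U] [Module F U] [AddCommGroup W] [Module F W]
variable {A : LinearMap.BilinForm F U} {B : LinearMap.BilinForm F W}
  {Θ : U ⊗[F] W ≃ₗ[F] (Fin m ⊕ Fin m → F)}

/-- `M` contains `v ↦ v + x ⊗ S (ct_x v)`. -/
def InAt (Θ : U ⊗[F] W ≃ₗ[F] (Fin m ⊕ Fin m → F)) (A : LinearMap.BilinForm F U)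
    (M : Subgroup (Matrix.symplecticGroup (Fin m) F)) (x : U) (S : W →ₗ[F] W) : Prop :=
  ∃ g ∈ M, ∀ v, g • v = v + tn Θ x (S (ct Θ A x v))

variable {M : Subgroup (Matrix.symplecticGroup (Fin m) F)}

theorem TS.InAt_isom (h : TS A B Θ) (hH : ∀ g, InH Θ g → g ∈ M) {a : U →ₗ[F] U}
    (ha : ∀ u u', A (a u) (a u') = A u u') {x : U} {S : W →ₗ[F] W} (hS : InAt Θ A M x S) :
    InAt Θ A M (a x) S := by
  obtain ⟨g, hg, hgv⟩ := hS
  obtain ⟨k, hk, hku⟩ := h.exists_U ha
  refine ⟨k * g * k⁻¹, M.mul_mem (M.mul_mem (hH k hk) hg) (M.inv_mem (hH k hk)), fun v => ?_⟩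
  have h1 : ct Θ A x (k⁻¹ • v) = ct Θ A (a x) v :=
    h.extW fun w => h.ct_inv (y := id) (fun w => hku x w) v w
  rw [mul_smul, mul_smul, hgv, smul_add', smul_inv_smul, hku, h1]

theorem TS.InAt_all (h : TS A B Θ) (hH : ∀ g, InH Θ g → g ∈ M) {x : U} (hx : x ≠ 0)
    {S : W →ₗ[F] W} (hS : InAt Θ A M x S) (x' : U) : InAt Θ A M x' S := by
  by_cases hx' : x' = 0
  · subst hx'
    exact ⟨1, M.one_mem, fun v => by rw [one_smul, tn_zero_left, add_zero]⟩
  · obtain ⟨a, ha, hax⟩ := h.exists_isom hx hx'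
    rw [← hax]
    exact h.InAt_isom hH ha hS

/-- `S` with `v ↦ v + x ⊗ S (ct_x v)` in `M` for all `x`. -/
def InS (Θ : U ⊗[F] W ≃ₗ[F] (Fin m ⊕ Fin m → F)) (A : LinearMap.BilinForm F U)
    (M : Subgroup (Matrix.symplecticGroup (Fin m) F)) (S : W →ₗ[F] W) : Prop :=
  ∀ x, InAt Θ A M x S

theorem TS.InS_add (h : TS A B Θ) {S T : W →ₗ[F] W} (hS : InS Θ A M S) (hT : InS Θ A M T) :
    InS Θ A M (S + T) := by
  intro x
  obtain ⟨g, hg, hgv⟩ := hS x
  obtain ⟨k, hk, hkv⟩ := hT x
  refine ⟨g * k, M.mul_mem hg hk, fun v => ?_⟩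
  rw [mul_smul, hkv, hgv, map_add, ct_tn, h.alt, zero_smul, add_zero, LinearMap.add_apply,
    tn_add_right]
  abel

theorem TS.InS_neg (h : TS A B Θ) {S : W →ₗ[F] W} (hS : InS Θ A M S) : InS Θ A M (-S) := by
  intro x
  obtain ⟨g, hg, hgv⟩ := hS x
  refine ⟨g⁻¹, M.inv_mem hg, fun v => ?_⟩
  rw [inv_smul_eq_iff, hgv, map_add, ct_tn, h.alt, zero_smul, add_zero, LinearMap.neg_apply,
    tn_neg_right]
  abel

theorem InS_sq {S : W →ₗ[F] W} (hS : InS Θ A M S) (c : F) : InS Θ A M ((c ^ 2) • S) := by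
  intro x
  obtain ⟨g, hg, hgv⟩ := hS (c • x)
  refine ⟨g, hg, fun v => ?_⟩
  rw [hgv, ct_smul, map_smul, tn_smul_left, tn_smul_right, LinearMap.smul_apply, tn_smul_right,
    smul_smul, pow_two]

theorem TS.InS_smul (h2 : (2 : F) ≠ 0) (h : TS A B Θ) {S : W →ₗ[F] W} (hS : InS Θ A M S) (c : F) :
    InS Θ A M (c • S) := by
  have h1 := h.InS_add (InS_sq hS ((c + 1) / 2)) (h.InS_neg (InS_sq hS ((c - 1) / 2)))
  have e : (((c + 1) / 2) ^ 2) • S + -((((c - 1) / 2) ^ 2) • S) = c • S := by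
    rw [← sub_eq_add_neg, ← sub_smul]
    congr 1
    field_simp
    ring
  rwa [e] at h1

theorem TS.InS_conj (h : TS A B Θ) (hH : ∀ g, InH Θ g → g ∈ M) {y y' : W →ₗ[F] W}
    (hy : ∀ w w', B (y w) (y w') = B w w') (hyy : ∀ w, y (y' w) = w) {S : W →ₗ[F] W}
    (hS : InS Θ A M S) : InS Θ A M (y ∘ₗ S ∘ₗ y') := by
  intro x
  obtain ⟨g, hg, hgv⟩ := hS x
  obtain ⟨k, hk, hku⟩ := h.exists_W hy
  refine ⟨k * g * k⁻¹, M.mul_mem (M.mul_mem (hH k hk) hg) (M.inv_mem (hH k hk)), fun v => ?_⟩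
  have h1 : ct Θ A x (k⁻¹ • v) = y' (ct Θ A x v) := by
    apply h.extW
    intro w
    rw [h.ct_inv (y := y) (fun w => hku x w), ← hy (y' _) w, hyy]
  rw [mul_smul, mul_smul, hgv, smul_add', smul_inv_smul, hku, h1]
  rfl

theorem TS.InS_one (h : TS A B Θ) (hH : ∀ g, InH Θ g → g ∈ M) : InS Θ A M LinearMap.id := by
  intro x
  obtain ⟨g, hg, hgv⟩ := h.exists_tU x 1
  exact ⟨g, hH g hg, fun v => by rw [hgv, one_smul]; rfl⟩

theorem TS.opSet (h2 : (2 : F) ≠ 0) (h : TS A B Θ) (hH : ∀ g, InH Θ g → g ∈ M) :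
    OpSet B (InS Θ A M) where
  add := h.InS_add
  smul := fun c _ hS => h.InS_smul h2 hS c
  one := h.InS_one hH
  conj := fun hs ha _ hS => h.InS_conj hH (Eg_isom h2 h.symB hs ha) (Eg_inv h2 h.symB hs ha) hS

/-- The operators occurring are self-adjoint. -/
theorem TS.SA_of_InAt (h : TS A B Θ) {x : U} (hx : x ≠ 0) {S : W →ₗ[F] W} {g : G}
    (hg : ∀ v, g • v = v + tn Θ x (S (ct Θ A x v))) : SA B S := by
  obtain ⟨u, hu⟩ : ∃ u, A x u ≠ 0 := by
    by_contra hc
    push Not at hc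
    exact hx (h.ndA x hc)
  intro w w'
  have h1 := form_smul g (tn Θ u w) (tn Θ u w')
  rw [hg, hg, ct_tn, ct_tn, map_smul, map_smul, tn_smul_right, tn_smul_right] at h1
  simp only [sympForm_add_left, sympForm_add_right, sympForm_smul_left, sympForm_smul_right,
    h.form', h.alt, zero_mul, mul_zero, add_zero] at h1
  rw [h.swap u x] at h1
  have h3 : A x u * A x u * (B (S w) w' - B w (S w')) = 0 := by linear_combination -h1
  rcases mul_eq_zero.1 h3 with h4 | h4
  · exact absurd h4 (mul_ne_zero hu hu)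
  · exact sub_eq_zero.1 h4

/-! ### Singular vectors -/

/-- `E(s,a) p` is singular. -/
theorem exists_sing_partner (h2 : (2 : F) ≠ 0) (hB : SymB B) {s : W} (hs0 : s ≠ 0)
    (hs : B s s = 0) : ∃ p, B p s = 1 ∧ B p p = 0 := by
  obtain ⟨p₀, hp₀⟩ := exists_partner hB hs0
  have hsp₀ : B s p₀ = 1 := by rw [hB.symm]; exact hp₀
  refine ⟨p₀ - (B p₀ p₀ / 2) • s, ?_, ?_⟩
  · rw [map_sub, map_smul, LinearMap.sub_apply, LinearMap.smul_apply, hp₀, hs, smul_zero, sub_zero]
  · simp only [map_sub, map_smul, LinearMap.sub_apply, LinearMap.smul_apply, smul_eq_mul, hp₀,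
      hsp₀, hs]
    field_simp
    ring

/-- A vector orthogonal to all singular vectors is zero. -/
theorem exists_sing_nonorth (h2 : (2 : F) ≠ 0) (hB : SymB B) {s : W} (hs0 : s ≠ 0)
    (hs : B s s = 0) {w : W} (hw : w ≠ 0) : ∃ t, B t t = 0 ∧ B w t ≠ 0 := by
  by_contra hcon
  push Not at hcon
  obtain ⟨p, hp, hpp⟩ := exists_sing_partner h2 hB hs0 hs
  have hws := hcon s hs
  have hwp := hcon p hpp
  have h1 : ∀ a, B a s = 0 → B a w = 0 := by
    intro a ha
    have h3 := hcon (Eg B s a p) (by rw [Eg_isom h2 hB hs ha]; exact hpp)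
    rw [Eg_apply, hp, one_smul, map_sub, map_sub, map_add, map_smul, map_smul, hws, hwp, smul_zero,
      map_smul, hws, smul_zero, smul_zero, sub_zero, sub_zero, zero_add] at h3
    rw [hB.symm]; exact h3
  obtain ⟨c, hc⟩ := mem_line_of_orth hB hs0 h1
  have h3 : c = 0 := by
    rw [hc, map_smul, LinearMap.smul_apply, hB.symm s p, hp, smul_eq_mul, mul_one] at hwp
    exact hwp
  exact hw (by rw [hc, h3, zero_smul])

/-- Singular vectors span. -/
theorem sing_span (h2 : (2 : F) ≠ 0) (hB : SymB B) {s : W} (hs0 : s ≠ 0)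
    (hs : B s s = 0) (N : Submodule F W) (hN : ∀ t, B t t = 0 → t ∈ N) : N = ⊤ := by
  rw [eq_top_iff]
  intro w _
  obtain ⟨p, hp, hpp⟩ := exists_sing_partner h2 hB hs0 hs
  have h1 : ∀ a, B a s = 0 → a ∈ N := by
    intro a ha
    have h3 := hN (Eg B s a p) (by rw [Eg_isom h2 hB hs ha]; exact hpp)
    rw [Eg_apply, hp, one_smul] at h3
    have e : a = (p + a - B p a • s - (B a a / 2) • (1 : F) • s) - p +
        (B p a + B a a / 2) • s := by module
    rw [e]
    exact N.add_mem (N.sub_mem h3 (hN p hpp)) (N.smul_mem _ (hN s hs))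
  have h3 := h1 (w - B w s • p) (by
    rw [map_sub, map_smul, LinearMap.sub_apply, LinearMap.smul_apply, hp, smul_eq_mul, mul_one,
      sub_self])
  have h4 := N.add_mem h3 (N.smul_mem (B w s) (hN p hpp))
  rwa [sub_add_cancel] at h4

/-- Two singular vectors are non-orthogonal or have a common non-orthogonal singular vector. -/
theorem exists_common (h2 : (2 : F) ≠ 0) (hB : SymB B) {s s' : W} (hs0 : s ≠ 0)
    (hs : B s s = 0) (hs0' : s' ≠ 0) (hss : B s s' = 0) :
    ∃ t, B t t = 0 ∧ B t s ≠ 0 ∧ B t s' ≠ 0 := by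
  obtain ⟨p, hp, hpp⟩ := exists_sing_partner h2 hB hs0 hs
  by_cases h1 : B p s' = 0
  · obtain ⟨a, ha, has⟩ : ∃ a, B a s = 0 ∧ B a s' ≠ 0 := by
      by_contra hc
      push Not at hc
      obtain ⟨c, hc'⟩ := mem_line_of_orth hB hs0 hc
      rw [hc', map_smul, hp, smul_eq_mul, mul_one] at h1
      exact hs0' (by rw [hc', h1, zero_smul])
    refine ⟨Eg B s a p, by rw [Eg_isom h2 hB hs ha]; exact hpp, ?_, ?_⟩
    · rw [Eg_apply, hp, one_smul]
      simp only [map_sub, map_add, map_smul, LinearMap.sub_apply, LinearMap.add_apply,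
        LinearMap.smul_apply, hp, ha, hs, smul_zero, add_zero, sub_zero]
      exact one_ne_zero
    · rw [Eg_apply, hp, one_smul]
      simp only [map_sub, map_add, map_smul, LinearMap.sub_apply, LinearMap.add_apply,
        LinearMap.smul_apply, h1, hss, smul_zero, zero_add, sub_zero]
      exact has
  · exact ⟨p, hpp, by rw [hp]; exact one_ne_zero, h1⟩

/-- The transvection groups at `x ⊗ s`, `s` singular, generate the symplectic group. -/
theorem TS.full_of_sing (h2 : (2 : F) ≠ 0) (h : TS A B Θ) {s₀ : W} (hs0 : s₀ ≠ 0)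
    (hs : B s₀ s₀ = 0) (hfull : ∀ (x : U) (s : W), B s s = 0 → Full M (tn Θ x s)) :
    ∀ v : V, Full M v := by
  have hU : ∀ s s' : W, B s s' ≠ 0 → ∀ x : U, x ≠ 0 → ∃ x' : U, f (tn Θ x s) (tn Θ x' s') ≠ 0 := by
    intro s s' hss x hx
    obtain ⟨x', hx'⟩ : ∃ x', A x x' ≠ 0 := by
      by_contra hc
      push Not at hc
      exact hx (h.ndA x hc)
    exact ⟨x', by rw [h.form']; exact mul_ne_zero hx' hss⟩
  refine full_of_connected ⟨1, one_ne_zero, fun h1 => h2 (by linear_combination h1)⟩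
    {v | ∃ (x : U) (s : W), B s s = 0 ∧ tn Θ x s = v} ?_ ?_ ?_
  · rintro _ ⟨x, s, hs, rfl⟩
    exact hfull x s hs
  · intro v hv
    obtain ⟨x, hx⟩ : ∃ x, ct Θ A x v ≠ 0 := by
      by_contra hc
      push Not at hc
      exact hv (h.extV (v' := 0) fun x => by rw [hc, map_zero])
    obtain ⟨t, ht, htw⟩ := exists_sing_nonorth h2 h.symB hs0 hs hx
    exact ⟨tn Θ x t, ⟨x, t, ht, rfl⟩, by rw [h.form_ct]; exact htw⟩
  · intro N hN0 hN1
    by_contra hcon
    push Not at hcon
    -- every singular `s` has `U ⊗ s` inside `N` or orthogonal to `N`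
    have hcon' : ∀ (x : U) (s : W), B s s = 0 → tn Θ x s ∈ N ∨ ∀ w ∈ N, f w (tn Θ x s) = 0 := by
      intro x s hs
      by_cases hm : tn Θ x s ∈ N
      · exact Or.inl hm
      · exact Or.inr (hcon _ ⟨x, s, hs, rfl⟩ hm)
    have htype : ∀ s : W, B s s = 0 →
        (∀ x, tn Θ x s ∈ N) ∨ ∀ x, ∀ w ∈ N, f w (tn Θ x s) = 0 := by
      intro s hs
      by_contra hc
      rw [not_or] at hc
      obtain ⟨h3, h4⟩ := hc
      push Not at h3 h4
      obtain ⟨x, hx⟩ := h3
      obtain ⟨x', w, hw, hx'⟩ := h4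
      have hx2 := (hcon' x s hs).resolve_left hx
      have hx3 : tn Θ x' s ∈ N := by
        rcases hcon' x' s hs with h5 | h5
        · exact h5
        · exact absurd (h5 w hw) hx'
      rcases hcon' (x + x') s hs with h5 | h5
      · rw [tn_add_left] at h5
        apply hx
        have := N.sub_mem h5 hx3
        rwa [add_sub_cancel_right] at this
      · have h6 := h5 w hw
        rw [tn_add_left, sympForm_add_right, hx2 w hw, zero_add] at h6
        exact hx' h6
    -- adjacency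
    obtain ⟨x₀, hx₀⟩ : ∃ x : U, x ≠ 0 := by
      by_contra hc
      push Not at hc
      apply hN1
      rw [eq_top_iff]
      intro v _
      have : v = 0 := h.extV (v' := 0) fun x => by rw [hc x, ct_zero, ct_zero]
      rw [this]
      exact N.zero_mem
    have hadj : ∀ s s' : W, B s s' ≠ 0 → (∀ x, tn Θ x s ∈ N) →
        ¬ ∀ x, ∀ w ∈ N, f w (tn Θ x s') = 0 := by
      intro s s' hss h3 h4
      obtain ⟨x', hx'⟩ := hU s s' hss x₀ hx₀
      exact hx' (h4 x' _ (h3 x₀))
    have hmove : ∀ s s' : W, B s' s' = 0 → B s s' ≠ 0 → (∀ x, tn Θ x s ∈ N) →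
        ∀ x, tn Θ x s' ∈ N := fun s s' hs' hss h3 =>
      (htype s' hs').resolve_right (hadj s s' hss h3)
    have hmove2 : ∀ s s' : W, s ≠ 0 → B s s = 0 → s' ≠ 0 → B s' s' = 0 → (∀ x, tn Θ x s ∈ N) →
        ∀ x, tn Θ x s' ∈ N := by
      intro s s' hs0 hs hs0' hs' h3
      by_cases hss : B s s' = 0
      · obtain ⟨t, ht, hts, hts'⟩ := exists_common h2 h.symB hs0 hs hs0' hss
        exact hmove t s' hs' hts' (hmove s t ht (by rw [h.symB.symm]; exact hts) h3)
      · exact hmove s s' hs' hss h3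
    rcases htype s₀ hs with h3 | h3
    · -- everything is in `N`
      apply hN1
      have hall : ∀ (t : W), B t t = 0 → ∀ x, tn Θ x t ∈ N := by
        intro t ht x
        by_cases ht0 : t = 0
        · rw [ht0, tn_zero_right]; exact N.zero_mem
        · exact hmove2 s₀ t hs0 hs ht0 ht h3 x
      rw [eq_top_iff]
      intro v _
      refine tn_induction (Θ := Θ) (P := fun v => v ∈ N) N.zero_mem ?_
        (fun x y hx hy => N.add_mem hx hy) v
      intro x w
      let N' : Submodule F W :=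
        { carrier := {w | tn Θ x w ∈ N}
          zero_mem' := by
            change tn Θ x 0 ∈ N
            rw [tn_zero_right]; exact N.zero_mem
          add_mem' := fun {a b} ha hb => by
            change tn Θ x (a + b) ∈ N
            rw [tn_add_right]; exact N.add_mem ha hb
          smul_mem' := fun c a ha => by
            change tn Θ x (c • a) ∈ N
            rw [tn_smul_right]; exact N.smul_mem c ha }
      have h4 : N' = ⊤ := sing_span h2 h.symB hs0 hs N' fun t ht => hall t ht x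
      have h5 : w ∈ N' := by rw [h4]; trivial
      exact h5
    · obtain ⟨p, hp, hpp⟩ := exists_sing_partner h2 h.symB hs0 hs
      have hp0 : p ≠ 0 := by
        rintro rfl
        rw [map_zero, LinearMap.zero_apply] at hp
        exact zero_ne_one hp
      have hall : ∀ (t : W), B t t = 0 → ∀ x, ∀ w ∈ N, f w (tn Θ x t) = 0 := by
        intro t ht
        by_cases ht0 : t = 0
        · intro x w _
          rw [ht0, tn_zero_right, sympForm_zero_right]
        · rcases htype t ht with h4 | h4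
          · exfalso
            exact hadj p s₀ (by rw [hp]; exact one_ne_zero) (hmove2 t p ht0 ht hp0 hpp h4) h3
          · exact h4
      apply hN0
      rw [eq_bot_iff]
      intro v hv
      rw [Submodule.mem_bot]
      by_contra hv0
      obtain ⟨x, hx⟩ : ∃ x, ct Θ A x v ≠ 0 := by
        by_contra hc
        push Not at hc
        exact hv0 (h.extV (v' := 0) fun x => by rw [hc, map_zero])
      obtain ⟨t, ht, htw⟩ := exists_sing_nonorth h2 h.symB hs0 hs hx
      apply htw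
      rw [← h.form_ct]
      exact hall t ht x v hv

/-- **The alternative**: every `1 + x ⊗ S ct_x` in `M` has scalar `S`, or `M` is everything. -/
theorem TS.scalar_or_full (h2 : (2 : F) ≠ 0) (h : TS A B Θ) [FiniteDimensional F W]
    (hdim : 3 ≤ Module.finrank F W)
    (hq : Module.finrank F W = 3 → ∃ t : F, t ≠ 0 ∧ t ^ 2 ≠ 1)
    {s₀ : W} (hs0 : s₀ ≠ 0) (hs : B s₀ s₀ = 0) (hH : ∀ g, InH Θ g → g ∈ M) :
    (∀ (x : U) (S : W →ₗ[F] W), x ≠ 0 → InAt Θ A M x S → ∃ c : F, S = c • LinearMap.id) ∨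
      ∀ v : V, Full M v := by
  by_cases hex : ∃ s : W, s ≠ 0 ∧ B s s = 0 ∧ ¬ InS Θ A M (rk B s s)
  · left
    obtain ⟨s, hs0', hs', hns⟩ := hex
    intro x S hx hS
    obtain ⟨g, hg, hgv⟩ := hS
    exact scalar_of_not h2 h.symB (h.opSet h2 hH) hdim hq hs0' hs' hns (h.SA_of_InAt hx hgv)
      (h.InAt_all hH hx ⟨g, hg, hgv⟩)
  · right
    push Not at hex
    refine h.full_of_sing h2 hs0 hs fun x s hss c => ?_
    by_cases hs0' : s = 0
    · rw [hs0', tn_zero_right]
      exact full_zero M c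
    · obtain ⟨g, hg, hgv⟩ := h.InS_smul h2 (hex s hs0' hss) c x
      have e : transv (tn Θ x s) c = g := by
        apply ext_smul
        intro v
        rw [transv_smul, hgv, h.form_ct, LinearMap.smul_apply, rk_apply, tn_smul_right,
          tn_smul_right, smul_smul]
      rw [e]
      exact hg

end Cfsg.Agent.H875.Ten
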