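import Cfsg.Agent.H875.TenOne

/-!
# Overgroups of `Sp(U) ⊗ O(W)`: elements `1 + (a ∧ w) ⊗ Z`
-/

set_option autoImplicit false
set_option linter.unusedSimpArgs false
open Cfsg
open scoped Matrix TensorProduct
open Cfsg.Agent.ClassicalGeometry.SympBasic Cfsg.Agent.ClassicalGeometry.SympSiegel

namespace Cfsg.Agent.H875.Ten

variable {F : Type*} [Field F] {m : ℕ}

local notation "V" => (Fin m ⊕ Fin m → F)
local notation "G" => Matrix.symplecticGroup (Fin m) F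
local notation "f" => sympForm m F

variable {U W : Type*} [AddCommGroup U] [Module F U] [AddCommGroup W] [Module F W]
variable {A : LinearMap.BilinForm F U} {B : LinearMap.BilinForm F W}
  {Θ : U ⊗[F] W ≃ₗ[F] (Fin m ⊕ Fin m → F)}

/-- A vector orthogonal to `w^⊥` is a multiple of `w`. -/
theorem TS.mem_line (h : TS A B Θ) {w a : U} (hw : w ≠ 0) (ha : ∀ z, A z w = 0 → A z a = 0) :
    ∃ c : F, a = c • w := by
  obtain ⟨p, hp⟩ : ∃ p, A w p ≠ 0 := by
    by_contra hc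
    push Not at hc
    exact hw (h.ndA w hc)
  have hp' : A p w ≠ 0 := by rw [h.swap]; exact neg_ne_zero.2 hp
  refine ⟨(A p w)⁻¹ * A p a, ?_⟩
  have h1 : a - ((A p w)⁻¹ * A p a) • w = 0 := by
    apply h.ndA
    intro z
    have h3 := ha (z - ((A p w)⁻¹ * A z w) • p) (by
      rw [map_sub, map_smul, LinearMap.sub_apply, LinearMap.smul_apply, smul_eq_mul]
      field_simp
      ring)
    rw [map_sub, map_smul, LinearMap.sub_apply, LinearMap.smul_apply, smul_eq_mul] at h3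
    rw [map_sub, map_smul, LinearMap.sub_apply, LinearMap.smul_apply, smul_eq_mul, h.swap a z,
      h.swap w z]
    linear_combination -h3
  exact sub_eq_zero.1 h1

/-- `M` contains `v ↦ v + a ⊗ K ct_w v - w ⊗ K ct_a v`. -/
def InP (Θ : U ⊗[F] W ≃ₗ[F] (Fin m ⊕ Fin m → F)) (A : LinearMap.BilinForm F U)
    (M : Subgroup (Matrix.symplecticGroup (Fin m) F)) (a w : U) (K : W →ₗ[F] W) : Prop :=
  ∃ g ∈ M, ∀ v, g • v = v + tn Θ a (K (ct Θ A w v)) - tn Θ w (K (ct Θ A a v))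

variable {M : Subgroup (Matrix.symplecticGroup (Fin m) F)}

theorem TS.InP_isom (h : TS A B Θ) (hH : ∀ g, InH Θ g → g ∈ M) {σ : U →ₗ[F] U}
    (hσ : ∀ u u', A (σ u) (σ u') = A u u') {a w : U} {K : W →ₗ[F] W} (hK : InP Θ A M a w K) :
    InP Θ A M (σ a) (σ w) K := by
  obtain ⟨g, hg, hgv⟩ := hK
  obtain ⟨k, hk, hku⟩ := h.exists_U hσ
  refine ⟨k * g * k⁻¹, M.mul_mem (M.mul_mem (hH k hk) hg) (M.inv_mem (hH k hk)), fun v => ?_⟩
  have h1 : ∀ x, ct Θ A x (k⁻¹ • v) = ct Θ A (σ x) v := fun x =>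
    h.extW fun w => h.ct_inv (y := id) (fun w => hku x w) v w
  rw [mul_smul, mul_smul, hgv, smul_sub, smul_add', smul_inv_smul, hku, hku, h1, h1]

theorem TS.InP_conj (h : TS A B Θ) (hH : ∀ g, InH Θ g → g ∈ M) {y y' : W →ₗ[F] W}
    (hy : ∀ w w', B (y w) (y w') = B w w') (hyy : ∀ w, y (y' w) = w) {a w : U} {K : W →ₗ[F] W}
    (hK : InP Θ A M a w K) : InP Θ A M a w (y ∘ₗ K ∘ₗ y') := by
  obtain ⟨g, hg, hgv⟩ := hK
  obtain ⟨k, hk, hku⟩ := h.exists_W hy
  refine ⟨k * g * k⁻¹, M.mul_mem (M.mul_mem (hH k hk) hg) (M.inv_mem (hH k hk)), fun v => ?_⟩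
  have h1 : ∀ x, ct Θ A x (k⁻¹ • v) = y' (ct Θ A x v) := by
    intro x
    apply h.extW
    intro w
    rw [h.ct_inv (y := y) (fun w => hku x w), ← hy (y' _) w, hyy]
  rw [mul_smul, mul_smul, hgv, smul_sub, smul_add', smul_inv_smul, hku, hku, h1, h1]
  rfl

theorem TS.InP_sub (h : TS A B Θ) {a w : U} (haw : A a w = 0) {K L : W →ₗ[F] W}
    (hK : InP Θ A M a w K) (hL : InP Θ A M a w L) : InP Θ A M a w (K - L) := by
  have hwa : A w a = 0 := by rw [h.swap, haw, neg_zero]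
  obtain ⟨g, hg, hgv⟩ := hK
  obtain ⟨k, hk, hkv⟩ := hL
  have hki : ∀ v, k⁻¹ • v = v - tn Θ a (L (ct Θ A w v)) + tn Θ w (L (ct Θ A a v)) := by
    intro v
    rw [inv_smul_eq_iff, hkv]
    simp only [map_add, map_sub, ct_tn, h.alt, haw, hwa, zero_smul, sub_zero, add_zero]
    abel
  refine ⟨g * k⁻¹, M.mul_mem hg (M.inv_mem hk), fun v => ?_⟩
  rw [mul_smul, hki, hgv]
  simp only [map_add, map_sub, ct_tn, h.alt, haw, hwa, zero_smul, sub_zero, add_zero,
    LinearMap.sub_apply, tn_sub_right]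
  abel

/-- The commutator of two such elements. -/
theorem TS.InP_comm (h : TS A B Θ) {a a' w : U} (haw : A a w = 0) (haw' : A a' w = 0)
    {K L : W →ₗ[F] W} (hK : InP Θ A M a w K) (hL : InP Θ A M a' w L) :
    InAt Θ A M w (A a a' • (K ∘ₗ L + L ∘ₗ K)) := by
  have hwa : A w a = 0 := by rw [h.swap, haw, neg_zero]
  have hwa' : A w a' = 0 := by rw [h.swap, haw', neg_zero]
  obtain ⟨g, hg, hgv⟩ := hK
  obtain ⟨k, hk, hkv⟩ := hL
  refine ⟨g * k * (k * g)⁻¹, M.mul_mem (M.mul_mem hg hk) (M.inv_mem (M.mul_mem hk hg)),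
    fun v => ?_⟩
  obtain ⟨v, rfl⟩ : ∃ v', v = (k * g) • v' := ⟨(k * g)⁻¹ • v, by rw [smul_inv_smul]⟩
  rw [mul_smul, inv_smul_smul, mul_smul, mul_smul, hgv, hgv, hkv, hkv]
  simp only [map_add, map_sub, ct_tn, h.alt, haw, hwa, haw', hwa', zero_smul, sub_zero, add_zero,
    LinearMap.sub_apply, LinearMap.add_apply, LinearMap.smul_apply, LinearMap.comp_apply,
    tn_sub_right, tn_add_right, tn_smul_right, smul_add, smul_sub, map_smul, h.swap a' a, neg_smul,
    tn_neg_right, map_zero, tn_zero_right, map_neg, smul_zero, neg_zero, sub_zero, add_zero]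
  abel

/-- **Skew pairs vanish**: if all `1 + x ⊗ S ct_x` in `M` are scalar, then
`1 + (a ∧ w) ⊗ K` in `M`, `K` skew, gives `K = 0`. -/
theorem TS.pair_zero (h2 : (2 : F) ≠ 0) (h : TS A B Θ) [FiniteDimensional F W]
    (hdim : 3 ≤ Module.finrank F W) {s₀ : W} (hs0 : s₀ ≠ 0) (hs : B s₀ s₀ = 0)
    (hH : ∀ g, InH Θ g → g ∈ M)
    (hscal : ∀ (x : U) (S : W →ₗ[F] W), x ≠ 0 → InAt Θ A M x S → ∃ c : F, S = c • LinearMap.id)
    {a w : U} (hw : w ≠ 0) (haw : A a w = 0) (ha : ∀ c : F, a ≠ c • w) {K : W →ₗ[F] W}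
    (hK : Sk B K) (hKM : InP Θ A M a w K) : K = 0 := by
  obtain ⟨z, hzw, hza⟩ : ∃ z, A z w = 0 ∧ A z a ≠ 0 := by
    by_contra hc
    push Not at hc
    obtain ⟨c, hc'⟩ := h.mem_line hw hc
    exact ha c hc'
  have hwz : A w z = 0 := by rw [h.swap, hzw, neg_zero]
  let σ : U →ₗ[F] U := LinearMap.id + rk A z z
  have hσ : ∀ u u', A (σ u) (σ u') = A u u' := by
    intro u u'
    simp only [σ, LinearMap.add_apply, LinearMap.id_apply, rk_apply, map_add, map_smul,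
      LinearMap.smul_apply, smul_eq_mul, h.alt, h.swap z u']
    ring
  have hσw : σ w = w := by
    simp only [σ, LinearMap.add_apply, LinearMap.id_apply, rk_apply, hwz, zero_smul, add_zero]
  have hσa : A a (σ a) ≠ 0 := by
    simp only [σ, LinearMap.add_apply, LinearMap.id_apply, rk_apply, map_add, map_smul, h.alt,
      smul_eq_mul, zero_add, h.swap a z]
    simpa using hza
  have haw' : A (σ a) w = 0 := by
    conv_lhs => rw [← hσw]
    rw [hσ, haw]
  have hQ : SkewSet B (InP Θ A M a w) :=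
    { sub := fun hK hL => h.InP_sub haw hK hL
      conj := fun y y' hy hyy _ _ hK => h.InP_conj hH hy hyy hK }
  refine skew_eq_zero h2 h.symB hdim hQ ?_ hs0 hs hK hKM
  intro K L hK hL _ _
  have hL' : InP Θ A M (σ a) w L := by
    have := h.InP_isom hH hσ hL
    rwa [hσw] at this
  obtain ⟨c, hc⟩ := hscal w _ hw (h.InP_comm haw haw' hK hL')
  refine ⟨(A a (σ a))⁻¹ * c, ?_⟩
  rw [mul_smul, ← hc, smul_smul, inv_mul_cancel₀ hσa, one_smul]

end Cfsg.Agent.H875.Ten
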