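import Cfsg.Agent.H875.FnPair
import Cfsg.Agent.H875.DefCov
import Cfsg.Agent.H352.Order120
import Cfsg.Agent.H925.OrthBasic
import Cfsg.Agent.H931.SpProper
import Cfsg.Agent.H924.SympForm

/-!
# Maximal subgroups with socle `PSL_2(E)`, `|E| = |F|`: the tensor decomposable modules do not occur (helper875)

* `QS X` : every subgroup of `X` normalised by `X` is scalar or `X`; `qs_sp`, `qs_omega`;
* `false_of_pair` : `H` maximal in `X`, `QS X`, `P` the residual core of `H`: no two commuting non-scalar subgroups of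
  `X` are normalised by `H`;
* **`sp_card_le`**, **`omega_card_le`** : `H` maximal in `spGL m F` (`m ≥ 3`), resp. in `omegaGL Q` (`F` odd,
  dimension `≥ 5`), `IsResidualCore H P`, `Soc P ≃* PSL_2(E)`, `|E| = |F|`, characteristic `p`: the dimension is `≤ p`.
-/

set_option autoImplicit false
set_option linter.unusedSectionVars false
set_option linter.unusedSimpArgs false

namespace Cfsg.Agent.H875.Kill

open Cfsg Cfsg.Geo Matrix Cfsg.Agent.H915.LD

universe u v w

variable {ι : Type} [Fintype ι] [DecidableEq ι] {F : Type u} [Field F]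

/-- normal subgroups are scalar or everything -/
def QS (X : Subgroup (GL ι F)) : Prop :=
  ∀ N ≤ X, (∀ g ∈ X, ∀ x ∈ N, g * x * g⁻¹ ∈ N) → N ≤ scalars ι F ∨ N = X

/-- `A` normalised by `H`, non-scalar: `A ≤ H` or `A = X` -/
theorem le_or_eq {X H A : Subgroup (GL ι F)} (hX : QS X) (hH : IsMaximalIn X H) (hA : A ≤ X)
    (hn : ∀ h ∈ H, ∀ x ∈ A, h * x * h⁻¹ ∈ A) (hs : ¬ A ≤ scalars ι F) : A ≤ H ∨ A = X := by
  rcases hH.2 (H ⊔ A) le_sup_left (sup_le hH.1.le hA) with h1 | h1
  · left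
    rw [← h1]
    exact le_sup_right
  · right
    let K : Subgroup (GL ι F) :=
      { carrier := {g | ∀ x ∈ A, g * x * g⁻¹ ∈ A ∧ g⁻¹ * x * g ∈ A}
        one_mem' := fun x hx => by simpa using hx
        mul_mem' := fun {a b} ha hb x hx => by
          constructor
          · have h3 : a * b * x * (a * b)⁻¹ = a * (b * x * b⁻¹) * a⁻¹ := by group
            rw [h3]
            exact (ha _ (hb x hx).1).1
          · have h3 : (a * b)⁻¹ * x * (a * b) = b⁻¹ * (a⁻¹ * x * a) * b := by group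
            rw [h3]
            exact (hb _ (ha x hx).2).2
        inv_mem' := fun {a} ha x hx => by
          rw [inv_inv]
          exact ⟨(ha x hx).2, (ha x hx).1⟩ }
    have hHK : H ≤ K := fun g hg x hx => by
      refine ⟨hn g hg x hx, ?_⟩
      have := hn g⁻¹ (inv_mem hg) x hx
      rwa [inv_inv] at this
    have hAK : A ≤ K := fun g hg x hx =>
      ⟨mul_mem (mul_mem hg hx) (inv_mem hg), mul_mem (mul_mem (inv_mem hg) hx) hg⟩
    have h2 : H ⊔ A ≤ K := sup_le hHK hAK
    rcases hX A hA (fun g hg x hx => (h2 (by rw [h1]; exact hg : g ∈ H ⊔ A) x hx).1) with h3 | h3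
    · exact absurd h3 hs
    · exact h3

theorem false_of_comm {H P : Subgroup (GL ι F)} (hc : IsResidualCore H P) (h : ∀ x ∈ P, ∀ y ∈ P, x * y = y * x) :
    False := by
  apply hc.nonabelian
  refine ⟨⟨fun a b => ?_⟩⟩
  induction a using QuotientGroup.induction_on with
  | H a =>
    induction b using QuotientGroup.induction_on with
    | H b =>
      rw [← QuotientGroup.mk_mul, ← QuotientGroup.mk_mul]
      congr 1
      exact Subtype.ext (h a a.2 b b.2)

/-- `X` centralised by a non-scalar subgroup of `X` -/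
theorem false_of_eq {X H P B : Subgroup (GL ι F)} (hX : QS X) (hH : IsMaximalIn X H) (hc : IsResidualCore H P)
    (hB : B ≤ X) (hcom : ∀ a ∈ X, ∀ b ∈ B, a * b = b * a) (hBs : ¬ B ≤ scalars ι F) : False := by
  rcases hX B hB (fun g hg x hx => by rw [hcom g hg x hx, mul_inv_cancel_right]; exact hx) with h | h
  · exact hBs h
  · refine false_of_comm hc fun x hx y hy => ?_
    exact hcom x (hH.1.le (hc.le hx)) y (by rw [h]; exact hH.1.le (hc.le hy))

/-- a non-scalar subgroup `A` of `H` normalised by `H` covers the socle -/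
theorem map_eq_top {H P A : Subgroup (GL ι F)} (hc : IsResidualCore H P) (hA : A ≤ H)
    (hn : ∀ h ∈ H, ∀ x ∈ A, h * x * h⁻¹ ∈ A) (hs : ¬ A ≤ scalars ι F) : (A.subgroupOf P).map (toSoc P) = ⊤ := by
  have hnorm : (A.subgroupOf P).Normal := by
    refine ⟨fun x hx g => ?_⟩
    rw [Subgroup.mem_subgroupOf] at hx ⊢
    exact hn g (hc.le g.2) x hx
  have hnorm' : ((A.subgroupOf P).map (toSoc P)).Normal := hnorm.map _ (toSoc_surjective P)
  rcases hc.simple.eq_bot_or_eq_top_of_normal _ hnorm' with h | h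
  · exfalso
    apply hs
    intro a ha
    refine hc.centralizer_scalar a (hA ha) fun x hx => ?_
    have h1 : a * x * a⁻¹ ∈ P := hc.normal a (hA ha) x hx
    have h2 : a * x * a⁻¹ * x⁻¹ ∈ P := mul_mem h1 (inv_mem hx)
    have h3 : a * x * a⁻¹ * x⁻¹ ∈ A := by
      have h4 : a * x * a⁻¹ * x⁻¹ = a * (x * a⁻¹ * x⁻¹) := by group
      rw [h4]
      exact mul_mem ha (hn x (hc.le hx) _ (inv_mem ha))
    have h4 : toSoc P ⟨_, h2⟩ ∈ (A.subgroupOf P).map (toSoc P) := ⟨_, h3, rfl⟩
    rw [h, Subgroup.mem_bot, ← MonoidHom.mem_ker, ker_toSoc, Subgroup.mem_subgroupOf] at h4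
    exact h4
  · exact h

/-- **Two commuting subgroups.** -/
theorem false_of_pair {X H P A B : Subgroup (GL ι F)} (hX : QS X) (hH : IsMaximalIn X H) (hc : IsResidualCore H P)
    (hA : A ≤ X) (hB : B ≤ X) (hcom : ∀ a ∈ A, ∀ b ∈ B, a * b = b * a)
    (hnA : ∀ h ∈ H, ∀ x ∈ A, h * x * h⁻¹ ∈ A) (hnB : ∀ h ∈ H, ∀ x ∈ B, h * x * h⁻¹ ∈ B)
    (hAs : ¬ A ≤ scalars ι F) (hBs : ¬ B ≤ scalars ι F) : False := by
  rcases le_or_eq hX hH hA hnA hAs with hAH | rfl
  · rcases le_or_eq hX hH hB hnB hBs with hBH | rfl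
    · have h1 := map_eq_top hc hAH hnA hAs
      have h2 := map_eq_top hc hBH hnB hBs
      apply hc.nonabelian
      refine ⟨⟨fun a b => ?_⟩⟩
      have ha : a ∈ (A.subgroupOf P).map (toSoc P) := by rw [h1]; trivial
      have hb : b ∈ (B.subgroupOf P).map (toSoc P) := by rw [h2]; trivial
      obtain ⟨x, hx, rfl⟩ := ha
      obtain ⟨y, hy, rfl⟩ := hb
      rw [← map_mul, ← map_mul]
      congr 1
      exact Subtype.ext (hcom x hx y hy)
    · exact false_of_eq hX hH hc hA (fun a ha b hb => (hcom b hb a ha).symm) hAs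
  · exact false_of_eq hX hH hc hB hcom hBs

/-! ### the classical groups -/

section classical

theorem qs_sp [Fintype F] {m : ℕ} (hm : 3 ≤ m) : QS (spGL m F) := fun _ hN hnorm =>
  H931.spGL_normal (Or.inl hm) hN hnorm

theorem qs_omega [Finite F] {Q : (ι → F) → F} (hQ : IsNondegenerateQuadraticForm Q) (hn : 5 ≤ Fintype.card ι) :
    QS (omegaGL Q) := by
  intro N hN hnorm
  have hE := H925.map_omegaGL_eq hQ hn
  rcases Cfsg.Agent.LieClassical.OrthSimple.good_normal_dichotomy (H925.good_qf hQ hn)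
    (N := N.map (Cfsg.Agent.LieClassical.OrthFinite.glEquiv ι F).toMonoidHom) (by
      rw [← hE]
      exact Subgroup.map_mono hN) (by
      rintro g hg _ ⟨x, hx, rfl⟩
      rw [← hE] at hg
      obtain ⟨g', hg', rfl⟩ := hg
      exact ⟨g' * x * g'⁻¹, hnorm g' hg' x hx, by rw [map_mul, map_mul, map_inv]⟩) with h | h
  · left
    intro x hx
    obtain ⟨c, hc⟩ := h _ ⟨x, hx, rfl⟩
    rw [mem_scalars_iff]
    have hcv : ∀ v : ι → F, (x : Matrix ι ι F) *ᵥ v = c • v := hc
    have hxc : (x : Matrix ι ι F) = c • (1 : Matrix ι ι F) := by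
      apply Matrix.toLin'.injective
      ext1 i
      ext1
      simp only [LinearMap.comp_apply, Matrix.toLin'_apply]
      rw [hcv, Matrix.smul_mulVec, Matrix.one_mulVec]
    have hc0 : c ≠ 0 := by
      rintro rfl
      rw [zero_smul] at hxc
      have h3 : ((x * x⁻¹ : GL ι F) : Matrix ι ι F) = 0 := by rw [Units.val_mul, hxc, Matrix.zero_mul]
      rw [mul_inv_cancel, Units.val_one] at h3
      have hne : Nonempty ι := Fintype.card_pos_iff.1 (by omega)
      obtain ⟨i⟩ := hne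
      have h4 := congrFun (congrFun h3 i) i
      rw [Matrix.one_apply_eq] at h4
      exact one_ne_zero h4
    exact ⟨Units.mk0 c hc0, hxc⟩
  · right
    rw [← hE] at h
    exact Subgroup.map_injective (Cfsg.Agent.LieClassical.OrthFinite.glEquiv ι F).injective h

end classical

/-! ### the socle `PSL_2(E)` -/

section psl2

variable [Fintype F] {E : Type w} [Field E] [Fintype E] {X H P : Subgroup (GL ι F)}

/-- `|E| ≥ 4` -/
theorem four_le (hC : Core P) (e : Soc P ≃* ProjectiveSpecialLinearGroup (Fin 2) E) : 3 < Fintype.card E := by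
  by_contra hlt
  have hle : Fintype.card E ≤ 3 := by omega
  have h2 : 2 ≤ Fintype.card E := Fintype.one_lt_card
  have hcard : Nat.card (Soc P) < 60 := by
    rw [Nat.card_congr e.toEquiv]
    rcases Nat.even_or_odd (Fintype.card E) with he | ho
    · rw [Cfsg.Agent.ClassicalGeometry.PSL2Basic.card_PSL2_even E he]
      interval_cases Fintype.card E <;> simp_all
    · have h3 := Cfsg.Agent.ClassicalGeometry.PSL2Basic.card_PSL2_odd E ho
      have h4 : Fintype.card E = 3 := by
        rcases ho with ⟨m, hm⟩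
        omega
      rw [h4] at h3
      omega
  have hsol := Cfsg.Agent.H352.Order120.solvable_of_card_lt _ (Soc P) rfl hcard
  apply hC.nonabelian
  have := hC.simple
  exact ⟨⟨this.comm_iff_isSolvable.2 hsol⟩⟩

variable (p : ℕ) [hp : Fact p.Prime] [CharP E p] [CharP F p]

/-- **The kill.** -/
theorem card_le {f : (ι → F) → (ι → F) → F} (hf : IsBilinearForm f) (hfn : IsNondegenerateForm f)
    (hfX : FixesForm (matrixSet X) f) (hXf : ∀ A : Subgroup (GL ι F), ⁅A, A⁆ = A → FixesForm (matrixSet A) f → A ≤ X)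
    (hX : QS X) (hH : IsMaximalIn X H) (hc : IsResidualCore H P)
    (e : Soc P ≃* ProjectiveSpecialLinearGroup (Fin 2) E) (hEF : Fintype.card E = Fintype.card F) :
    Fintype.card ι ≤ p := by
  by_contra hlt
  have hC : Core P := core_of_residual hc
  have hE := four_le hC e
  have hperf : commutator (SpecialLinearGroup (Fin 2) E) = ⊤ := TwoFusion.SLTwoFacts.commutator_eq_top hE
  obtain ⟨θ, hsurj, hθ⟩ := DefCov.exists_cover (m := 1) hC p hperf e
  -- the isomorphism of fields
  obtain ⟨J⟩ : Nonempty (E ≃+* F) := ⟨FiniteField.ringEquivOfCardEq hEF⟩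
  obtain ⟨s, r₀, Φ, hs0, hs, hr0, hrlt, hcard, hM⟩ := Fn.exists_param p θ hC hsurj (RingHom.id F) (J : E →+* F)
  have hs1 : s = 1 := by
    rw [hEF] at hs
    have h1 : Fintype.card F ^ 1 = Fintype.card F ^ s := by rw [pow_one]; exact hs
    exact (Nat.pow_right_injective (Fintype.one_lt_card (α := F)) h1).symm
  subst hs1
  rw [pow_one] at hcard
  have hr1 : r₀ * ∑ l ∈ Finset.range 1, Fintype.card F ^ l = r₀ := by simp
  rw [hr1] at hM
  obtain ⟨t, c, x, hc0, hcp, hr⟩ := Fn.exists_digit (p := p) hr0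
  by_cases hx : x = 0
  · rw [hx, mul_zero, add_zero] at hr
    rw [hr, Fn.card_SS_digit hcp] at hcard
    omega
  · subst hr
    have h1 : p ^ t * c < p ^ (t + 1) := by
      rw [pow_succ]
      exact Nat.mul_lt_mul_of_pos_left hcp (pow_pos hp.out.pos t)
    have h2 : p ^ (t + 1) ∣ p ^ (t + 1) * x := Dvd.intro _ rfl
    have hr1 : p ^ t * c ≠ 0 := Nat.mul_ne_zero (pow_ne_zero _ hp.out.ne_zero) hc0
    have hr2 : p ^ (t + 1) * x ≠ 0 := Nat.mul_ne_zero (pow_ne_zero _ hp.out.ne_zero) hx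
    have hfix := Fn.fac_fix p hC hM h1 h2 hsurj hf hfn (fun s hs => hfX s (by
      obtain ⟨y, hy, rfl⟩ := hs
      exact ⟨y, hH.1.le (hc.le hy), rfl⟩))
    have hnorm : ∀ h ∈ H, ∃ (A : GL (Fin 2) E) (c : F), (h : Matrix ι ι F) =
        c • (Fn.gl (Fn.psi hM) (Fn.GLrep (J : E →+* F) _) A : Matrix ι ι F) := fun h hh =>
      Fn.exists_norm_GL p hC hperf e hθ hsurj J.bijective hM (hc.normal h hh)
    refine false_of_pair hX hH hc (A := Fn.fac p hM h1 h2 (Fn.R₁ _ _ _)) (B := Fn.fac p hM h1 h2 (Fn.R₂ _ _ _))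
      (hXf _ (Fn.fac_perfect p hperf hM h1 h2 _) hfix.1) (hXf _ (Fn.fac_perfect p hperf hM h1 h2 _) hfix.2)
      (fun a ha b hb => Fn.fac_comm p hM h1 h2 ha hb) ?_ ?_ (Fn.fac_ns₁ p hM h1 h2 hr1) (Fn.fac_ns₂ p hM h1 h2 hr2)
    · intro h hh x hx
      obtain ⟨A, c, hA⟩ := hnorm h hh
      exact Fn.fac_norm p hM h1 h2 (Fn.RR_R₁ _ _ _) hA hx
    · intro h hh x hx
      obtain ⟨A, c, hA⟩ := hnorm h hh
      exact Fn.fac_norm p hM h1 h2 (Fn.RR_R₂ _ _ _) hA hx

/-- the polar form determines the quadratic form in odd characteristic -/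
theorem quad_of_polar (h2 : (2 : F) ≠ 0) {Q : (ι → F) → F} (hQ : IsNondegenerateQuadraticForm Q) {a : Matrix ι ι F}
    (h : ∀ u v, QuadraticMap.polar Q (a *ᵥ u) (a *ᵥ v) = QuadraticMap.polar Q u v) (v : ι → F) : Q (a *ᵥ v) = Q v := by
  have key : ∀ w : ι → F, QuadraticMap.polar Q w w = 2 * Q w := by
    intro w
    unfold QuadraticMap.polar
    rw [← two_smul F w, hQ.smul]
    ring
  have h1 := h v v
  rw [key, key] at h1
  exact mul_left_cancel₀ h2 h1

theorem le_omegaGL (h2 : (2 : F) ≠ 0) {Q : (ι → F) → F} (hQ : IsNondegenerateQuadraticForm Q)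
    {A : Subgroup (GL ι F)} (hA : ⁅A, A⁆ = A) (hfix : FixesForm (matrixSet A) (QuadraticMap.polar Q)) :
    A ≤ omegaGL Q := by
  have h3 : A ≤ isometryGroup F Q := fun a ha =>
    H925.mem_iso_iff.2 (quad_of_polar h2 hQ (hfix _ ⟨a, ha, rfl⟩))
  rw [← hA, Subgroup.commutator_le]
  intro a ha b hb
  exact H925.commutator_mem_omegaGL (h3 ha) (h3 hb)

theorem omegaGL_fixes (Q : (ι → F) → F) : FixesForm (matrixSet (omegaGL Q)) (QuadraticMap.polar Q) := by
  rintro _ ⟨x, hx, rfl⟩ u v
  have h := H925.mem_iso_iff.1 (H925.omegaGL_le_iso Q hx)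
  change QuadraticMap.polar Q ((x : Matrix ι ι F) *ᵥ u) ((x : Matrix ι ι F) *ᵥ v) = _
  unfold QuadraticMap.polar
  rw [← Matrix.mulVec_add, h, h, h]

/-- **The kill for orthogonal groups**, odd characteristic. -/
theorem omega_card_le (h2 : (2 : F) ≠ 0) {Q : (ι → F) → F} (hQ : IsNondegenerateQuadraticForm Q)
    (hn : 5 ≤ Fintype.card ι) (hH : IsMaximalIn (omegaGL Q) H) (hc : IsResidualCore H P)
    (e : Soc P ≃* ProjectiveSpecialLinearGroup (Fin 2) E) (hEF : Fintype.card E = Fintype.card F) :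
    Fintype.card ι ≤ p :=
  card_le p hQ.polar_bilinear hQ.nondegenerate (omegaGL_fixes Q) (fun _ hA hfix => le_omegaGL h2 hQ hA hfix)
    (qs_omega hQ hn) hH hc e hEF

end psl2

/-- **The kill for symplectic groups**, every characteristic. -/
theorem sp_card_le [Fintype F] {E : Type w} [Field E] [Fintype E] (p : ℕ) [hp : Fact p.Prime] [CharP E p] [CharP F p]
    {m : ℕ} (hm : 3 ≤ m) {H P : Subgroup (GL (Fin m ⊕ Fin m) F)} (hH : IsMaximalIn (spGL m F) H)
    (hc : IsResidualCore H P) (e : Soc P ≃* ProjectiveSpecialLinearGroup (Fin 2) E)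
    (hEF : Fintype.card E = Fintype.card F) : 2 * m ≤ p := by
  have hsymp : IsSymplecticForm (sympForm m F) := H924.isSymplecticForm_sympForm
  have h := card_le p (X := spGL m F) hsymp.bilinear hsymp.nondegenerate
    (by rintro _ ⟨x, hx, rfl⟩ u v; exact hx u v) (fun A _ hfix a ha => fun u v => hfix _ ⟨a, ha, rfl⟩ u v)
    (qs_sp hm) hH hc e hEF
  rw [Fintype.card_sum, Fintype.card_fin] at h
  omega

end Cfsg.Agent.H875.Kill
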